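import Mathlib

/-! # Cohomological δ-functors and the universal property of effaceable ones -/

set_option autoImplicit false
set_option linter.unusedSectionVars false

open CategoryTheory Limits Category

universe v u v' u'

namespace Groth.Agent.H8.LC

variable (C : Type u) [Category.{v} C] [Abelian C] (D : Type u') [Category.{v'} D] [Abelian D]

/-- A cohomological δ-functor in nonnegative degrees. -/
structure DeltaFunctor where
  F : ℕ → C ⥤ D
  δ : ∀ {S : ShortComplex C} (_ : S.ShortExact) (n : ℕ), (F n).obj S.X₃ ⟶ (F (n + 1)).obj S.X₁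
  δ_naturality : ∀ {S S' : ShortComplex C} (hS : S.ShortExact) (hS' : S'.ShortExact)
    (φ : S ⟶ S') (n : ℕ), δ hS n ≫ (F (n + 1)).map φ.τ₁ = (F n).map φ.τ₃ ≫ δ hS' n
  map_comp_map : ∀ {S : ShortComplex C} (_ : S.ShortExact) (n : ℕ),
    (F n).map S.f ≫ (F n).map S.g = 0
  map_comp_δ : ∀ {S : ShortComplex C} (hS : S.ShortExact) (n : ℕ), (F n).map S.g ≫ δ hS n = 0
  δ_comp_map : ∀ {S : ShortComplex C} (hS : S.ShortExact) (n : ℕ),
    δ hS n ≫ (F (n + 1)).map S.f = 0
  mono₀ : ∀ {S : ShortComplex C} (_ : S.ShortExact), Mono ((F 0).map S.f)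
  exact₂ : ∀ {S : ShortComplex C} (hS : S.ShortExact) (n : ℕ),
    (ShortComplex.mk _ _ (map_comp_map hS n)).Exact
  exact₃ : ∀ {S : ShortComplex C} (hS : S.ShortExact) (n : ℕ),
    (ShortComplex.mk _ _ (map_comp_δ hS n)).Exact
  exact₁ : ∀ {S : ShortComplex C} (hS : S.ShortExact) (n : ℕ),
    (ShortComplex.mk _ _ (δ_comp_map hS n)).Exact

variable {C D}

namespace DeltaFunctor

/-- A δ-functor is effaceable if it vanishes on injectives in positive degrees. -/
def Effaceable (T : DeltaFunctor C D) : Prop :=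
  ∀ (I : C) [Injective I] (n : ℕ), IsZero ((T.F (n + 1)).obj I)

/-- A family of natural transformations commuting with the connecting morphisms. -/
def IsHom (T S : DeltaFunctor C D) (θ : ∀ n, T.F n ⟶ S.F n) : Prop :=
  ∀ {A : ShortComplex C} (hA : A.ShortExact) (n : ℕ),
    T.δ hA n ≫ (θ (n + 1)).app A.X₁ = (θ n).app A.X₃ ≫ S.δ hA n

section

variable [EnoughInjectives C]

/-- The short exact sequence `0 ⟶ M ⟶ I ⟶ Q ⟶ 0` with `I` injective. -/
noncomputable abbrev sesUnder (M : C) : ShortComplex C :=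
  ShortComplex.mk (Injective.ι M) (cokernel.π (Injective.ι M)) (cokernel.condition _)

lemma sesUnder_shortExact (M : C) : (sesUnder M).ShortExact where
  exact := ShortComplex.exact_of_g_is_cokernel _ (cokernelIsCokernel _)
  mono_f := by dsimp [sesUnder]; infer_instance
  epi_g := by dsimp [sesUnder]; infer_instance

instance (M : C) : Injective (sesUnder M).X₂ := by dsimp [sesUnder]; infer_instance

variable (T S : DeltaFunctor C D)

lemma epi_δ_of_isZero {A : ShortComplex C} (hA : A.ShortExact) (n : ℕ)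
    (h : IsZero ((T.F (n + 1)).obj A.X₂)) : Epi (T.δ hA n) :=
  ((T.exact₁ hA n).epi_f_iff).2 (h.eq_of_tgt _ _)

variable {T} in
lemma Effaceable.epi_δ (hT : T.Effaceable) (M : C) (n : ℕ) :
    Epi (T.δ (sesUnder_shortExact M) n) :=
  T.epi_δ_of_isZero _ n (hT _ n)

variable {T S}

/-- One step of the extension: from `θ : T^n ⟶ S^n` to `T^{n+1} ⟶ S^{n+1}` on objects. -/
noncomputable def extApp (hT : T.Effaceable) {n : ℕ} (θ : T.F n ⟶ S.F n) (M : C) :
    (T.F (n + 1)).obj M ⟶ (S.F (n + 1)).obj M :=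
  have := hT.epi_δ M n
  (T.exact₃ (sesUnder_shortExact M) n).desc (θ.app _ ≫ S.δ (sesUnder_shortExact M) n) (by
    dsimp
    rw [θ.naturality_assoc, S.map_comp_δ (sesUnder_shortExact M) n, comp_zero])

lemma δ_extApp (hT : T.Effaceable) {n : ℕ} (θ : T.F n ⟶ S.F n) (M : C) :
    T.δ (sesUnder_shortExact M) n ≫ extApp hT θ M =
      θ.app _ ≫ S.δ (sesUnder_shortExact M) n :=
  have := hT.epi_δ M n
  (T.exact₃ (sesUnder_shortExact M) n).g_desc _ _

/-- The key lemma. -/
lemma δ_map_extApp (hT : T.Effaceable) {n : ℕ} (θ : T.F n ⟶ S.F n)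
    {A : ShortComplex C} (hA : A.ShortExact) {M : C} (f : A.X₁ ⟶ M) :
    T.δ hA n ≫ (T.F (n + 1)).map f ≫ extApp hT θ M =
      θ.app A.X₃ ≫ S.δ hA n ≫ (S.F (n + 1)).map f := by
  have := hA.mono_f
  have := hA.epi_g
  let g : A.X₂ ⟶ (sesUnder M).X₂ := Injective.factorThru (f ≫ (sesUnder M).f) A.f
  have hg : A.f ≫ g = f ≫ (sesUnder M).f := Injective.comp_factorThru _ _
  let h : A.X₃ ⟶ (sesUnder M).X₃ := hA.exact.desc (g ≫ (sesUnder M).g) (by
    rw [← assoc, hg, assoc, (sesUnder M).zero, comp_zero])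
  have hh : A.g ≫ h = g ≫ (sesUnder M).g := hA.exact.g_desc _ _
  let φ : A ⟶ sesUnder M :=
    { τ₁ := f, τ₂ := g, τ₃ := h, comm₁₂ := hg.symm, comm₂₃ := hh.symm }
  have h1 := T.δ_naturality hA (sesUnder_shortExact M) φ n
  have h2 := S.δ_naturality hA (sesUnder_shortExact M) φ n
  dsimp [φ] at h1 h2
  rw [reassoc_of% h1, δ_extApp, θ.naturality_assoc, ← h2]

/-- One step of the extension as a natural transformation. -/
noncomputable def extStep (hT : T.Effaceable) {n : ℕ} (θ : T.F n ⟶ S.F n) :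
    T.F (n + 1) ⟶ S.F (n + 1) where
  app M := extApp hT θ M
  naturality M M' f := by
    have := hT.epi_δ M n
    rw [← cancel_epi (T.δ (sesUnder_shortExact M) n)]
    have h1 := δ_map_extApp hT θ (sesUnder_shortExact M) f
    have h2 := δ_extApp (S := S) hT θ M
    rw [h1, reassoc_of% h2]

lemma δ_extStep (hT : T.Effaceable) {n : ℕ} (θ : T.F n ⟶ S.F n)
    {A : ShortComplex C} (hA : A.ShortExact) :
    T.δ hA n ≫ (extStep hT θ).app A.X₁ = θ.app A.X₃ ≫ S.δ hA n := by
  have := δ_map_extApp hT θ hA (𝟙 A.X₁)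
  rw [CategoryTheory.Functor.map_id, CategoryTheory.Functor.map_id, id_comp, comp_id] at this
  exact this

/-- The extension of `θ₀ : T⁰ ⟶ S⁰` to all degrees. -/
noncomputable def ext (hT : T.Effaceable) (θ₀ : T.F 0 ⟶ S.F 0) : ∀ n, T.F n ⟶ S.F n
  | 0 => θ₀
  | n + 1 => extStep hT (ext hT θ₀ n)

@[simp] lemma ext_zero (hT : T.Effaceable) (θ₀ : T.F 0 ⟶ S.F 0) : ext hT θ₀ 0 = θ₀ := rfl

lemma ext_isHom (hT : T.Effaceable) (θ₀ : T.F 0 ⟶ S.F 0) : IsHom T S (ext hT θ₀) :=
  fun hA n => δ_extStep hT (ext hT θ₀ n) hA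

/-- Uniqueness of morphisms of δ-functors out of an effaceable one. -/
lemma hom_ext (hT : T.Effaceable) {θ θ' : ∀ n, T.F n ⟶ S.F n} (h : IsHom T S θ)
    (h' : IsHom T S θ') (h0 : θ 0 = θ' 0) : ∀ n, θ n = θ' n
  | 0 => h0
  | n + 1 => by
    ext M
    have := hT.epi_δ M n
    rw [← cancel_epi (T.δ (sesUnder_shortExact M) n)]
    have e1 := h (sesUnder_shortExact M) n
    have e2 := h' (sesUnder_shortExact M) n
    rw [e1, e2, hom_ext hT h h' h0 n]

lemma isHom_id : IsHom T T (fun n => 𝟙 (T.F n)) := fun hA n => by simp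

lemma IsHom.comp {U : DeltaFunctor C D} {θ : ∀ n, T.F n ⟶ S.F n} {η : ∀ n, S.F n ⟶ U.F n}
    (h : IsHom T S θ) (h' : IsHom S U η) : IsHom T U (fun n => θ n ≫ η n) := fun hA n => by
  dsimp
  rw [reassoc_of% (h hA n), h' hA n, assoc]

/-- The isomorphisms in all degrees extending an isomorphism in degree `0` between
effaceable δ-functors. -/
noncomputable def extIso (hT : T.Effaceable) (hS : S.Effaceable) (e₀ : T.F 0 ≅ S.F 0) (n : ℕ) :
    T.F n ≅ S.F n where
  hom := ext hT e₀.hom n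
  inv := ext hS e₀.inv n
  hom_inv_id := hom_ext hT (θ := fun n => ext hT e₀.hom n ≫ ext hS e₀.inv n)
    (θ' := fun n => 𝟙 (T.F n)) (IsHom.comp (ext_isHom hT e₀.hom) (ext_isHom hS e₀.inv)) isHom_id
    (show e₀.hom ≫ e₀.inv = 𝟙 _ from e₀.hom_inv_id) n
  inv_hom_id := hom_ext hS (θ := fun n => ext hS e₀.inv n ≫ ext hT e₀.hom n)
    (θ' := fun n => 𝟙 (S.F n)) (IsHom.comp (ext_isHom hS e₀.inv) (ext_isHom hT e₀.hom)) isHom_id
    (show e₀.inv ≫ e₀.hom = 𝟙 _ from e₀.inv_hom_id) n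

lemma extIso_hom (hT : T.Effaceable) (hS : S.Effaceable) (e₀ : T.F 0 ≅ S.F 0) (n : ℕ) :
    (extIso hT hS e₀ n).hom = ext hT e₀.hom n := by rfl

end

end DeltaFunctor

end Groth.Agent.H8.LC
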