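import Mathlib

/-! # Long exact sequence of left derived functors attached to a short exact sequence of functors

Given additive functors `F₁ F₂ F₃ : C ⥤ D` and natural transformations `α : F₁ ⟶ F₂`, `β : F₂ ⟶ F₃`
with `α ≫ β = 0` which are short exact on projective objects, we construct natural connecting
morphisms `δ n : F₃.leftDerived (n+1) ⟶ F₁.leftDerived n` and prove exactness of the long sequence. -/

set_option autoImplicit false
set_option linter.unusedSectionVars false

open CategoryTheory Limits Category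

universe v u v' u'

namespace Groth.Agent.H8.LC

variable {C : Type u} [Category.{v} C] {D : Type u'} [Category.{v'} D]
  [Abelian C] [Abelian D]

section Iso

variable [HasProjectiveResolutions C]

/-- `isoLeftDerivedObj` with target written as a homology object. -/
noncomputable def isoLD {X : C} (P : ProjectiveResolution X) (F : C ⥤ D) [F.Additive] (n : ℕ) :
    (F.leftDerived n).obj X ≅
      ((F.mapHomologicalComplex (ComplexShape.down ℕ)).obj P.complex).homology n :=
  P.isoLeftDerivedObj F n

@[reassoc]
lemma isoLD_hom_naturality {X Y : C} (f : X ⟶ Y) (P : ProjectiveResolution X)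
    (Q : ProjectiveResolution Y) (φ : P.complex ⟶ Q.complex)
    (comm : φ.f 0 ≫ Q.π.f 0 = P.π.f 0 ≫ f) (F : C ⥤ D) [F.Additive] (n : ℕ) :
    (F.leftDerived n).map f ≫ (isoLD Q F n).hom =
      (isoLD P F n).hom ≫
        HomologicalComplex.homologyMap ((F.mapHomologicalComplex _).map φ) n :=
  ProjectiveResolution.isoLeftDerivedObj_hom_naturality f P Q φ comm F n

@[reassoc]
lemma isoLD_inv_naturality {X Y : C} (f : X ⟶ Y) (P : ProjectiveResolution X)
    (Q : ProjectiveResolution Y) (φ : P.complex ⟶ Q.complex)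
    (comm : φ.f 0 ≫ Q.π.f 0 = P.π.f 0 ≫ f) (F : C ⥤ D) [F.Additive] (n : ℕ) :
    (isoLD P F n).inv ≫ (F.leftDerived n).map f =
      HomologicalComplex.homologyMap ((F.mapHomologicalComplex _).map φ) n ≫
        (isoLD Q F n).inv :=
  ProjectiveResolution.isoLeftDerivedObj_inv_naturality f P Q φ comm F n

@[reassoc]
lemma leftDerived_app_comm {G₁ G₂ : C ⥤ D} [G₁.Additive] [G₂.Additive] (γ : G₁ ⟶ G₂)
    {X : C} (P : ProjectiveResolution X) (n : ℕ) :
    (NatTrans.leftDerived γ n).app X ≫ (isoLD P G₂ n).hom =
      (isoLD P G₁ n).hom ≫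
        HomologicalComplex.homologyMap ((NatTrans.mapHomologicalComplex γ _).app P.complex) n := by
  show (NatTrans.leftDerived γ n).app X ≫ (P.isoLeftDerivedObj G₂ n).hom =
      (P.isoLeftDerivedObj G₁ n).hom ≫ (HomologicalComplex.homologyFunctor D _ n).map
        ((NatTrans.mapHomologicalComplex γ _).app P.complex)
  rw [ProjectiveResolution.leftDerived_app_eq γ P n, assoc, assoc, Iso.inv_hom_id, comp_id]

end Iso

variable {F₁ F₂ F₃ : C ⥤ D} [F₁.Additive] [F₂.Additive] [F₃.Additive]
  (α : F₁ ⟶ F₂) (β : F₂ ⟶ F₃) (w : α ≫ β = 0)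

/-- The short complex of complexes `F₁(P) ⟶ F₂(P) ⟶ F₃(P)`. -/
@[simps]
noncomputable def scOfComplex (K : ChainComplex C ℕ) : ShortComplex (ChainComplex D ℕ) :=
  ShortComplex.mk ((NatTrans.mapHomologicalComplex α _).app K)
    ((NatTrans.mapHomologicalComplex β _).app K) (by
      rw [← NatTrans.comp_app, ← NatTrans.mapHomologicalComplex_comp, w]
      ext n
      simp
      rfl)

/-- The morphism of short complexes induced by a morphism of complexes. -/
@[simps]
noncomputable def scOfComplexMap {K L : ChainComplex C ℕ} (φ : K ⟶ L) :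
    scOfComplex α β w K ⟶ scOfComplex α β w L where
  τ₁ := (F₁.mapHomologicalComplex _).map φ
  τ₂ := (F₂.mapHomologicalComplex _).map φ
  τ₃ := (F₃.mapHomologicalComplex _).map φ
  comm₁₂ := by ext n; exact α.naturality _
  comm₂₃ := by ext n; exact β.naturality _

variable (h : ∀ (P : C), Projective P →
  (ShortComplex.mk (α.app P) (β.app P) (by rw [← NatTrans.comp_app, w]; rfl)).ShortExact)

include h in
lemma scOfComplex_shortExact {X : C} (P : ProjectiveResolution X) :
    (scOfComplex α β w P.complex).ShortExact := by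
  apply HomologicalComplex.shortExact_of_degreewise_shortExact
  intro n
  exact h (P.complex.X n) (P.projective n)

/-- The connecting morphism on homology of `F_i(P)`. -/
noncomputable def δH {X : C} (P : ProjectiveResolution X) (n : ℕ) :
    ((F₃.mapHomologicalComplex (ComplexShape.down ℕ)).obj P.complex).homology (n + 1) ⟶
      ((F₁.mapHomologicalComplex (ComplexShape.down ℕ)).obj P.complex).homology n :=
  (scOfComplex_shortExact α β w h P).δ (n + 1) n rfl

@[reassoc]
lemma δH_naturality {X Y : C} (P : ProjectiveResolution X)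
    (Q : ProjectiveResolution Y) (φ : P.complex ⟶ Q.complex) (n : ℕ) :
    δH α β w h P n ≫ HomologicalComplex.homologyMap ((F₁.mapHomologicalComplex _).map φ) n =
      HomologicalComplex.homologyMap ((F₃.mapHomologicalComplex _).map φ) (n + 1) ≫
        δH α β w h Q n :=
  HomologicalComplex.HomologySequence.δ_naturality (scOfComplexMap α β w φ)
    (scOfComplex_shortExact α β w h P) (scOfComplex_shortExact α β w h Q) (n + 1) n rfl

lemma homologyMap_comp_δH {X : C} (P : ProjectiveResolution X) (n : ℕ) :
    HomologicalComplex.homologyMap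
      ((NatTrans.mapHomologicalComplex β _).app P.complex) (n + 1) ≫ δH α β w h P n = 0 :=
  (scOfComplex_shortExact α β w h P).comp_δ (n + 1) n rfl

lemma δH_comp_homologyMap {X : C} (P : ProjectiveResolution X) (n : ℕ) :
    δH α β w h P n ≫ HomologicalComplex.homologyMap
      ((NatTrans.mapHomologicalComplex α _).app P.complex) n = 0 :=
  (scOfComplex_shortExact α β w h P).δ_comp (n + 1) n rfl

variable [HasProjectiveResolutions C]

/-- The connecting morphism computed using a projective resolution `P` of `X`. -/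
noncomputable def δOfRes {X : C} (P : ProjectiveResolution X) (n : ℕ) :
    (F₃.leftDerived (n + 1)).obj X ⟶ (F₁.leftDerived n).obj X :=
  (isoLD P F₃ (n + 1)).hom ≫ δH α β w h P n ≫ (isoLD P F₁ n).inv

lemma δOfRes_naturality {X Y : C} (f : X ⟶ Y) (P : ProjectiveResolution X)
    (Q : ProjectiveResolution Y) (φ : P.complex ⟶ Q.complex)
    (comm : φ.f 0 ≫ Q.π.f 0 = P.π.f 0 ≫ f) (n : ℕ) :
    δOfRes α β w h P n ≫ (F₁.leftDerived n).map f =
      (F₃.leftDerived (n + 1)).map f ≫ δOfRes α β w h Q n := by
  dsimp only [δOfRes]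
  rw [assoc, assoc, isoLD_inv_naturality f P Q φ comm F₁ n,
    isoLD_hom_naturality_assoc f P Q φ comm F₃ (n + 1), δH_naturality_assoc]

/-- The natural connecting morphism `L_{n+1}F₃ ⟶ L_n F₁`. -/
noncomputable def δ (n : ℕ) : F₃.leftDerived (n + 1) ⟶ F₁.leftDerived n where
  app X := δOfRes α β w h (projectiveResolution X) n
  naturality X Y f := by
    exact (δOfRes_naturality α β w h f (projectiveResolution X) (projectiveResolution Y)
      (ProjectiveResolution.lift f _ _) (ProjectiveResolution.lift_commutes_zero f _ _) n).symm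

lemma δ_app_eq {X : C} (P : ProjectiveResolution X) (n : ℕ) :
    (δ α β w h n).app X = δOfRes α β w h P n := by
  have := δOfRes_naturality α β w h (𝟙 X) (projectiveResolution X) P
    (ProjectiveResolution.lift (𝟙 X) _ _) (ProjectiveResolution.lift_commutes_zero (𝟙 X) _ _) n
  rw [(F₁.leftDerived n).map_id, (F₃.leftDerived (n + 1)).map_id, comp_id, id_comp] at this
  exact this

@[reassoc]
lemma δ_app_comm {X : C} (P : ProjectiveResolution X) (n : ℕ) :
    (δ α β w h n).app X ≫ (isoLD P F₁ n).hom = (isoLD P F₃ (n + 1)).hom ≫ δH α β w h P n := by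
  rw [δ_app_eq α β w h P n, δOfRes, assoc, assoc, Iso.inv_hom_id, comp_id]

include w in
lemma leftDerived_app_comp_zero (X : C) (n : ℕ) :
    (NatTrans.leftDerived α n).app X ≫ (NatTrans.leftDerived β n).app X = 0 := by
  rw [← NatTrans.comp_app, ← NatTrans.leftDerived_comp, w,
    ProjectiveResolution.leftDerived_app_eq 0 (projectiveResolution X) n]
  have : (NatTrans.mapHomologicalComplex (0 : F₁ ⟶ F₃) (ComplexShape.down ℕ)).app
      (projectiveResolution X).complex = 0 := by
    ext k
    simp
    rfl
  rw [this, Functor.map_zero, zero_comp, comp_zero]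

lemma leftDerived_comp_δ (X : C) (n : ℕ) :
    (NatTrans.leftDerived β (n + 1)).app X ≫ (δ α β w h n).app X = 0 := by
  let P := projectiveResolution X
  rw [← cancel_mono (isoLD P F₁ n).hom, assoc, δ_app_comm α β w h P n,
    leftDerived_app_comm_assoc β P (n + 1), homologyMap_comp_δH, comp_zero, zero_comp]

lemma δ_comp_leftDerived (X : C) (n : ℕ) :
    (δ α β w h n).app X ≫ (NatTrans.leftDerived α n).app X = 0 := by
  let P := projectiveResolution X
  rw [← cancel_mono (isoLD P F₂ n).hom, assoc, leftDerived_app_comm α P n,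
    δ_app_comm_assoc α β w h P n, δH_comp_homologyMap, comp_zero, zero_comp]

include h in
/-- Exactness of `L_n F₁ X ⟶ L_n F₂ X ⟶ L_n F₃ X`. -/
lemma exact₂ (X : C) (n : ℕ) :
    (ShortComplex.mk ((NatTrans.leftDerived α n).app X) ((NatTrans.leftDerived β n).app X)
      (leftDerived_app_comp_zero α β w X n)).Exact := by
  let P := projectiveResolution X
  have hS := scOfComplex_shortExact α β w h P
  refine (ShortComplex.exact_iff_of_iso (ShortComplex.isoMk (isoLD P F₁ n)
    (isoLD P F₂ n) (isoLD P F₃ n) ?_ ?_)).2 (hS.homology_exact₂ n)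
  · exact (leftDerived_app_comm α P n).symm
  · exact (leftDerived_app_comm β P n).symm

/-- Exactness of `L_{n+1} F₂ X ⟶ L_{n+1} F₃ X ⟶ L_n F₁ X`. -/
lemma exact₃ (X : C) (n : ℕ) :
    (ShortComplex.mk ((NatTrans.leftDerived β (n + 1)).app X) ((δ α β w h n).app X)
      (leftDerived_comp_δ α β w h X n)).Exact := by
  let P := projectiveResolution X
  have hS := scOfComplex_shortExact α β w h P
  refine (ShortComplex.exact_iff_of_iso (ShortComplex.isoMk (isoLD P F₂ (n + 1))
    (isoLD P F₃ (n + 1)) (isoLD P F₁ n) ?_ ?_)).2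
    (hS.homology_exact₃ (n + 1) n rfl)
  · exact (leftDerived_app_comm β P (n + 1)).symm
  · exact (δ_app_comm α β w h P n).symm

/-- Exactness of `L_{n+1} F₃ X ⟶ L_n F₁ X ⟶ L_n F₂ X`. -/
lemma exact₁ (X : C) (n : ℕ) :
    (ShortComplex.mk ((δ α β w h n).app X) ((NatTrans.leftDerived α n).app X)
      (δ_comp_leftDerived α β w h X n)).Exact := by
  let P := projectiveResolution X
  have hS := scOfComplex_shortExact α β w h P
  refine (ShortComplex.exact_iff_of_iso (ShortComplex.isoMk (isoLD P F₃ (n + 1))
    (isoLD P F₁ n) (isoLD P F₂ n) ?_ ?_)).2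
    (hS.homology_exact₁ (n + 1) n rfl)
  · exact (δ_app_comm α β w h P n).symm
  · exact (leftDerived_app_comm α P n).symm

end Groth.Agent.H8.LC
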