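import Mathlib
import Groth.Agent.Lib.Helper8.LC.DerivedLES

/-! # Naturality of the connecting morphisms of `DerivedLES`, `fromLeftDerivedZero`, linearity -/

set_option autoImplicit false
set_option linter.unusedSectionVars false

open CategoryTheory Limits Category

universe v u v' u'

namespace Groth.Agent.H8.LC

variable {C : Type u} [Category.{v} C] {D : Type u'} [Category.{v'} D]
  [Abelian C] [Abelian D]

section Nat

variable {F₁ F₂ F₃ : C ⥤ D} [F₁.Additive] [F₂.Additive] [F₃.Additive]
  (α : F₁ ⟶ F₂) (β : F₂ ⟶ F₃) (w : α ≫ β = 0)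
  (h : ∀ (P : C), Projective P →
    (ShortComplex.mk (α.app P) (β.app P) (by rw [← NatTrans.comp_app, w]; rfl)).ShortExact)
  {G₁ G₂ G₃ : C ⥤ D} [G₁.Additive] [G₂.Additive] [G₃.Additive]
  (α' : G₁ ⟶ G₂) (β' : G₂ ⟶ G₃) (w' : α' ≫ β' = 0)
  (h' : ∀ (P : C), Projective P →
    (ShortComplex.mk (α'.app P) (β'.app P) (by rw [← NatTrans.comp_app, w']; rfl)).ShortExact)
  (γ₁ : F₁ ⟶ G₁) (γ₂ : F₂ ⟶ G₂) (γ₃ : F₃ ⟶ G₃)
  (c₁ : α ≫ γ₂ = γ₁ ≫ α') (c₂ : β ≫ γ₃ = γ₂ ≫ β')

/-- The morphism of short complexes of complexes induced by `γ`. -/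
@[simps]
noncomputable def scOfComplexNat (K : ChainComplex C ℕ) :
    scOfComplex α β w K ⟶ scOfComplex α' β' w' K where
  τ₁ := (NatTrans.mapHomologicalComplex γ₁ _).app K
  τ₂ := (NatTrans.mapHomologicalComplex γ₂ _).app K
  τ₃ := (NatTrans.mapHomologicalComplex γ₃ _).app K
  comm₁₂ := by
    ext n
    exact (congr_app c₁ (K.X n)).symm
  comm₂₃ := by
    ext n
    exact (congr_app c₂ (K.X n)).symm

include c₁ c₂ in
@[reassoc]
lemma δH_nat {X : C} (P : ProjectiveResolution X) (n : ℕ) :
    δH α β w h P n ≫
        HomologicalComplex.homologyMap ((NatTrans.mapHomologicalComplex γ₁ _).app P.complex) n =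
      HomologicalComplex.homologyMap ((NatTrans.mapHomologicalComplex γ₃ _).app P.complex) (n + 1) ≫
        δH α' β' w' h' P n :=
  HomologicalComplex.HomologySequence.δ_naturality
    (scOfComplexNat α β w α' β' w' γ₁ γ₂ γ₃ c₁ c₂ P.complex)
    (scOfComplex_shortExact α β w h P) (scOfComplex_shortExact α' β' w' h' P) (n + 1) n rfl

variable [HasProjectiveResolutions C]

include c₁ c₂ in
/-- Naturality of the connecting morphism with respect to morphisms of short exact sequences of
functors. -/
lemma δ_nat (X : C) (n : ℕ) :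
    (δ α β w h n).app X ≫ (NatTrans.leftDerived γ₁ n).app X =
      (NatTrans.leftDerived γ₃ (n + 1)).app X ≫ (δ α' β' w' h' n).app X := by
  let P := projectiveResolution X
  rw [← cancel_mono (isoLD P G₁ n).hom, assoc, assoc, leftDerived_app_comm γ₁ P n,
    δ_app_comm_assoc α β w h P n, δ_app_comm α' β' w' h' P n,
    leftDerived_app_comm_assoc γ₃ P (n + 1), δH_nat α β w h α' β' w' h' γ₁ γ₂ γ₃ c₁ c₂ P n]

end Nat

section Zero

variable [HasProjectiveResolutions C] {F G : C ⥤ D} [F.Additive] [G.Additive] (α : F ⟶ G)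

/-- Naturality of `fromLeftDerivedZero` with respect to natural transformations. -/
lemma fromLeftDerivedZero_nat (X : C) :
    (NatTrans.leftDerived α 0).app X ≫ G.fromLeftDerivedZero.app X =
      F.fromLeftDerivedZero.app X ≫ α.app X := by
  let P := projectiveResolution X
  have hG : G.fromLeftDerivedZero.app X = (isoLD P G 0).hom ≫
      (ChainComplex.isoHomologyι₀ _).hom ≫ P.fromLeftDerivedZero' G :=
    P.fromLeftDerivedZero_eq G
  have hF : F.fromLeftDerivedZero.app X = (isoLD P F 0).hom ≫
      (ChainComplex.isoHomologyι₀ _).hom ≫ P.fromLeftDerivedZero' F :=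
    P.fromLeftDerivedZero_eq F
  rw [hG, hF, leftDerived_app_comm_assoc α P 0]
  simp only [assoc]
  congr 1
  have h2 : HomologicalComplex.homologyMap
      ((NatTrans.mapHomologicalComplex α (ComplexShape.down ℕ)).app P.complex) 0 ≫
      (ChainComplex.isoHomologyι₀ ((G.mapHomologicalComplex _).obj P.complex)).hom =
      (ChainComplex.isoHomologyι₀ ((F.mapHomologicalComplex _).obj P.complex)).hom ≫
      HomologicalComplex.opcyclesMap
        ((NatTrans.mapHomologicalComplex α (ComplexShape.down ℕ)).app P.complex) 0 := by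
    simp [ChainComplex.isoHomologyι₀]
  rw [reassoc_of% h2]
  congr 1
  rw [← cancel_epi (HomologicalComplex.pOpcycles _ _)]
  simp only [HomologicalComplex.p_opcyclesMap_assoc,
    ProjectiveResolution.pOpcycles_comp_fromLeftDerivedZero',
    ProjectiveResolution.pOpcycles_comp_fromLeftDerivedZero'_assoc,
    NatTrans.mapHomologicalComplex_app_f]
  exact (α.naturality _).symm

end Zero

section Linear

variable {R : Type*} [Semiring R] [Linear R C] [Linear R D]

lemma homologyMap_smul' {ι : Type*} {c : ComplexShape ι} {K L : HomologicalComplex D c}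
    (φ : K ⟶ L) (r : R) (n : ι) :
    HomologicalComplex.homologyMap (r • φ) n = r • HomologicalComplex.homologyMap φ n := by
  dsimp only [HomologicalComplex.homologyMap]
  have : (HomologicalComplex.shortComplexFunctor D c n).map (r • φ) =
      r • (HomologicalComplex.shortComplexFunctor D c n).map φ := by
    ext <;> rfl
  rw [this, ShortComplex.homologyMap_smul]
  rfl

variable [HasProjectiveResolutions C]

/-- Left derived functors of linear functors are linear. -/
lemma leftDerived_map_smul (F : C ⥤ D) [F.Additive] [F.Linear R] {X Y : C} (f : X ⟶ Y) (r : R)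
    (n : ℕ) : (F.leftDerived n).map (r • f) = r • (F.leftDerived n).map f := by
  let P := projectiveResolution X
  let Q := projectiveResolution Y
  let φ := ProjectiveResolution.lift f P Q
  have comm : φ.f 0 ≫ Q.π.f 0 = P.π.f 0 ≫ f := ProjectiveResolution.lift_commutes_zero f P Q
  have comm' : (r • φ).f 0 ≫ Q.π.f 0 = P.π.f 0 ≫ (r • f) := by
    rw [HomologicalComplex.smul_f_apply, Linear.smul_comp, comm]
    exact (Linear.comp_smul _ _ _ _ _ _).symm
  rw [← cancel_mono (isoLD Q F n).hom, isoLD_hom_naturality (r • f) P Q (r • φ) comm' F n,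
    Linear.smul_comp, isoLD_hom_naturality f P Q φ comm F n, Functor.map_smul,
    homologyMap_smul', Linear.comp_smul]

instance (F : C ⥤ D) [F.Additive] [F.Linear R] (n : ℕ) : (F.leftDerived n).Linear R where
  map_smul f r := leftDerived_map_smul F f r n

lemma natTrans_leftDerived_smul_app {F G : C ⥤ D} [F.Additive] [G.Additive]
    (γ : F ⟶ G) (r : R) (n : ℕ) (X : C) :
    (NatTrans.leftDerived (r • γ) n).app X = r • (NatTrans.leftDerived γ n).app X := by
  let P := projectiveResolution X
  have : (NatTrans.mapHomologicalComplex (r • γ) (ComplexShape.down ℕ)).app P.complex =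
      r • (NatTrans.mapHomologicalComplex γ (ComplexShape.down ℕ)).app P.complex := by
    ext k
    rfl
  rw [← cancel_mono (isoLD P G n).hom, leftDerived_app_comm (r • γ) P n, this, homologyMap_smul',
    Linear.smul_comp, leftDerived_app_comm γ P n, Linear.comp_smul]

end Linear

end Groth.Agent.H8.LC
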