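import Mathlib
import Groth.Agent.Lib.Helper8.LC.DerivedLES

set_option autoImplicit false
set_option linter.unusedSectionVars false

open CategoryTheory Limits Category Opposite

universe v u

namespace Groth.Agent.H8.LC

variable (R : Type*) [Ring R] {C : Type u} [Category.{v} C] [Abelian C] [Linear R C]
  [EnoughProjectives C]

/-- The functor `Hom(-, Y) : C ⥤ (ModuleCat R)ᵒᵖ`. -/
noncomputable abbrev homTo (Y : C) : C ⥤ (ModuleCat R)ᵒᵖ := ((linearYoneda R C).obj Y).rightOp

noncomputable abbrev homToMap {Y Y' : C} (f : Y ⟶ Y') : homTo R Y' ⟶ homTo R Y :=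
  NatTrans.rightOp ((linearYoneda R C).map f)

variable {S : ShortComplex C} (hS : S.ShortExact)

lemma homToMap_comp_zero (S : ShortComplex C) : homToMap R S.g ≫ homToMap R S.f = 0 := by
  rw [← NatTrans.rightOp_comp, ← Functor.map_comp, S.zero, Functor.map_zero]
  rfl

/-- The short complex `Hom(P, X₁) ⟶ Hom(P, X₂) ⟶ Hom(P, X₃)` of modules. -/
noncomputable def homFromSC (S : ShortComplex C) (P : C) : ShortComplex (ModuleCat R) :=
  ShortComplex.mk (((linearYoneda R C).map S.f).app (op P)) (((linearYoneda R C).map S.g).app (op P))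
    (by rw [← NatTrans.comp_app, ← Functor.map_comp, S.zero, Functor.map_zero]; rfl)

include hS in
lemma homFromSC_shortExact (P : C) [Projective P] : (homFromSC R S P).ShortExact := by
  have := hS.mono_f
  have := hS.epi_g
  refine ShortComplex.ShortExact.mk' ?_ ?_ ?_
  · rw [ShortComplex.moduleCat_exact_iff]
    intro (x : P ⟶ S.X₂) (hx : x ≫ S.g = 0)
    exact ⟨hS.exact.lift x hx, hS.exact.lift_f x hx⟩
  · rw [ModuleCat.mono_iff_injective]
    intro (x : P ⟶ S.X₁) (y : P ⟶ S.X₁) (hxy : x ≫ S.f = y ≫ S.f)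
    exact (cancel_mono S.f).1 hxy
  · rw [ModuleCat.epi_iff_surjective]
    intro (x : P ⟶ S.X₃)
    exact ⟨Projective.factorThru x S.g, Projective.factorThru_comp x S.g⟩

end Groth.Agent.H8.LC

namespace Groth.Agent.H8.LC

variable (R : Type*) [Ring R] {C : Type u} [Category.{v} C] [Abelian C] [Linear R C]
  [EnoughProjectives C]
variable {S : ShortComplex C} (hS : S.ShortExact)

include hS in
lemma homTo_shortExact (P : C) (hP : Projective P) :
    (ShortComplex.mk ((homToMap R S.g).app P) ((homToMap R S.f).app P)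
      (by rw [← NatTrans.comp_app, homToMap_comp_zero]; rfl)).ShortExact :=
  (homFromSC_shortExact R hS P).op

/-- The connecting natural transformation `Ext^n(-, X₃) ⟶ Ext^{n+1}(-, X₁)`. -/
noncomputable def extδ (n : ℕ) : (Ext R C n).flip.obj S.X₃ ⟶ (Ext R C (n + 1)).flip.obj S.X₁ :=
  NatTrans.leftOp (δ (homToMap R S.g) (homToMap R S.f) (homToMap_comp_zero R S)
    (homTo_shortExact R hS) n)

lemma ext_map_comp_map (S : ShortComplex C) (X : C) (n : ℕ) :
    ((Ext R C n).obj (op X)).map S.f ≫ ((Ext R C n).obj (op X)).map S.g = 0 :=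
  congr_arg Quiver.Hom.unop (leftDerived_app_comp_zero (homToMap R S.g) (homToMap R S.f)
    (homToMap_comp_zero R S) X n)

include hS in
lemma ext_exact₂ (X : C) (n : ℕ) :
    (ShortComplex.mk (((Ext R C n).obj (op X)).map S.f) (((Ext R C n).obj (op X)).map S.g)
      (ext_map_comp_map R S X n)).Exact :=
  (exact₂ (homToMap R S.g) (homToMap R S.f) (homToMap_comp_zero R S)
    (homTo_shortExact R hS) X n).unop

lemma ext_map_comp_extδ (X : C) (n : ℕ) :
    ((Ext R C n).obj (op X)).map S.g ≫ (extδ R hS n).app (op X) = 0 :=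
  congr_arg Quiver.Hom.unop (δ_comp_leftDerived (homToMap R S.g) (homToMap R S.f)
    (homToMap_comp_zero R S) (homTo_shortExact R hS) X n)

lemma extδ_comp_ext_map (X : C) (n : ℕ) :
    (extδ R hS n).app (op X) ≫ ((Ext R C (n + 1)).obj (op X)).map S.f = 0 :=
  congr_arg Quiver.Hom.unop (leftDerived_comp_δ (homToMap R S.g) (homToMap R S.f)
    (homToMap_comp_zero R S) (homTo_shortExact R hS) X n)

lemma ext_exact₃ (X : C) (n : ℕ) :
    (ShortComplex.mk (((Ext R C n).obj (op X)).map S.g) ((extδ R hS n).app (op X))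
      (ext_map_comp_extδ R hS X n)).Exact :=
  (exact₁ (homToMap R S.g) (homToMap R S.f) (homToMap_comp_zero R S)
    (homTo_shortExact R hS) X n).unop

lemma ext_exact₁ (X : C) (n : ℕ) :
    (ShortComplex.mk ((extδ R hS n).app (op X)) (((Ext R C (n + 1)).obj (op X)).map S.f)
      (extδ_comp_ext_map R hS X n)).Exact :=
  (exact₃ (homToMap R S.g) (homToMap R S.f) (homToMap_comp_zero R S)
    (homTo_shortExact R hS) X n).unop

end Groth.Agent.H8.LC
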