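import Mathlib
import Groth.Agent.Lib.Helper8.LC.ExtLES
import Groth.Agent.Lib.Helper8.LC.DerivedNat

/-! # Further facts on the (old) `Ext` functors: linearity, `Ext⁰`, injectives, naturality of `δ` -/

set_option autoImplicit false
set_option linter.unusedSectionVars false

open CategoryTheory Limits Category Opposite

universe v u

namespace Groth.Agent.H8.LC

section OpLinear

variable {R : Type*} [Semiring R] {D : Type u} [Category.{v} D] [Preadditive D] [Linear R D]

/-- The opposite of a linear category is linear. -/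
instance linearOp : Linear R Dᵒᵖ where
  homModule X Y := Equiv.module R (opEquiv X Y)
  smul_comp X Y Z r f g := by
    apply Quiver.Hom.unop_inj
    exact Linear.comp_smul _ _ _ g.unop r f.unop
  comp_smul X Y Z f r g := by
    apply Quiver.Hom.unop_inj
    exact Linear.smul_comp _ _ _ r g.unop f.unop

lemma unop_smul {X Y : Dᵒᵖ} (r : R) (f : X ⟶ Y) : (r • f).unop = r • f.unop := rfl
lemma op_smul {X Y : D} (r : R) (f : X ⟶ Y) : (r • f).op = r • f.op := rfl

end OpLinear

variable (R : Type*) [CommRing R] {C : Type u} [Category.{v} C] [Abelian C] [Linear R C]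
  [EnoughProjectives C]

instance homTo_linear (Y : C) : (homTo R Y).Linear R where
  map_smul {X X'} f r := by
    apply Quiver.Hom.unop_inj
    ext (g : X' ⟶ Y)
    exact Linear.smul_comp _ _ _ r f g

lemma homToMap_smul {Y Y' : C} (f : Y ⟶ Y') (r : R) : homToMap R (r • f) = r • homToMap R f := by
  ext X
  apply Quiver.Hom.unop_inj
  ext (g : X ⟶ Y)
  exact Linear.comp_smul _ _ _ g r f

/-- `Ext` is linear in the first variable. -/
lemma ext_map_smul_fst {X X' : C} (g : X ⟶ X') (r : R) (Y : C) (n : ℕ) :
    ((Ext R C n).map (r • g).op).app Y = r • ((Ext R C n).map g.op).app Y := by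
  apply Quiver.Hom.op_inj
  exact leftDerived_map_smul (homTo R Y) g r n

/-- `Ext` is linear in the second variable. -/
lemma ext_map_smul_snd (X : C) {Y Y' : C} (f : Y ⟶ Y') (r : R) (n : ℕ) :
    ((Ext R C n).obj (op X)).map (r • f) = r • ((Ext R C n).obj (op X)).map f := by
  apply Quiver.Hom.op_inj
  have := natTrans_leftDerived_smul_app (R := R) (homToMap R f) r n X
  rw [← homToMap_smul] at this
  exact this

instance linearYoneda_obj_preservesFiniteLimits (Y : C) :
    PreservesFiniteLimits ((linearYoneda R C).obj Y) := by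
  constructor
  intro J _ _
  have : PreservesLimitsOfShape J ((linearYoneda R C).obj Y ⋙ forget (ModuleCat R)) :=
    (inferInstance : PreservesLimitsOfShape J (yoneda.obj Y))
  exact preservesLimitsOfShape_of_reflects_of_preserves _ (forget (ModuleCat R))

instance homTo_preservesFiniteColimits (Y : C) : PreservesFiniteColimits (homTo R Y) :=
  preservesFiniteColimits_rightOp _

/-- The natural isomorphism `Hom(X, -) ≅ Ext⁰(X, -)`. -/
noncomputable def ext0Iso (X : C) : (linearCoyoneda R C).obj (op X) ≅ (Ext R C 0).obj (op X) :=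
  NatIso.ofComponents (fun Y => ((homTo R Y).leftDerivedZeroIsoSelf.app X).unop) (by
    intro Y Y' f
    apply Quiver.Hom.op_inj
    exact (fromLeftDerivedZero_nat (homToMap R f) X).symm)

lemma ext0Iso_hom_app (X Y : C) :
    (ext0Iso R X).hom.app Y = ((homTo R Y).fromLeftDerivedZero.app X).unop := rfl

/-- Naturality of `ext0Iso` in the first variable. -/
lemma ext0Iso_naturality_fst {X X' : C} (g : X ⟶ X') (Y : C) :
    ((linearCoyoneda R C).map g.op).app Y ≫ (ext0Iso R X).hom.app Y =
      (ext0Iso R X').hom.app Y ≫ ((Ext R C 0).map g.op).app Y := by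
  apply Quiver.Hom.op_inj
  exact ((homTo R Y).fromLeftDerivedZero.naturality g).symm

/-- `Ext^{n+1}(X, Y) = 0` for `Y` injective. -/
lemma isZero_Ext_succ_of_injective (X Y : C) [Injective Y] (n : ℕ) :
    IsZero (((Ext R C (n + 1)).obj (op X)).obj Y) := by
  let P := projectiveResolution X
  refine IsZero.of_iso ?_ (P.isoExt (n + 1) Y)
  rw [← HomologicalComplex.exactAt_iff_isZero_homology,
    HomologicalComplex.exactAt_iff' _ n (n+1) (n+2) (by simp) (by simp)]
  have hP : (P.complex.sc' (n+2) (n+1) n).Exact :=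
    (HomologicalComplex.exactAt_iff' _ _ _ _ (by simp) (by simp)).1 (P.complex_exactAt_succ n)
  rw [ShortComplex.moduleCat_exact_iff]
  intro (x₂ : P.complex.X (n + 1) ⟶ Y) (hx₂ : P.complex.d (n + 2) (n + 1) ≫ x₂ = 0)
  exact ⟨(hP.descToInjective x₂ hx₂ : P.complex.X n ⟶ Y), hP.comp_descToInjective x₂ hx₂⟩

lemma homToMap_comp {Y Y' Y'' : C} (f : Y ⟶ Y') (g : Y' ⟶ Y'') :
    homToMap R (f ≫ g) = homToMap R g ≫ homToMap R f := by
  rw [← NatTrans.rightOp_comp, ← Functor.map_comp]

/-- Naturality of the connecting morphism of `Ext` with respect to morphisms of short exact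
sequences. -/
lemma extδ_naturality {S S' : ShortComplex C} (hS : S.ShortExact) (hS' : S'.ShortExact)
    (φ : S ⟶ S') (X : C) (n : ℕ) :
    (extδ R hS n).app (op X) ≫ ((Ext R C (n + 1)).obj (op X)).map φ.τ₁ =
      ((Ext R C n).obj (op X)).map φ.τ₃ ≫ (extδ R hS' n).app (op X) := by
  apply Quiver.Hom.op_inj
  exact (δ_nat (homToMap R S'.g) (homToMap R S'.f) (homToMap_comp_zero R S')
    (homTo_shortExact R hS') (homToMap R S.g) (homToMap R S.f) (homToMap_comp_zero R S)
    (homTo_shortExact R hS) (homToMap R φ.τ₃) (homToMap R φ.τ₂) (homToMap R φ.τ₁)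
    (by rw [← homToMap_comp, ← homToMap_comp, φ.comm₂₃])
    (by rw [← homToMap_comp, ← homToMap_comp, φ.comm₁₂]) X n).symm

end Groth.Agent.H8.LC
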