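import Mathlib
import Groth.Agent.Lib.Helper8.LC.ExtLES

set_option autoImplicit false
set_option linter.unusedSectionVars false

open CategoryTheory Limits Category Opposite

universe v u v' u'

namespace Groth.Agent.H8.LC

section FunExact

variable {J : Type u'} [Category.{v'} J] {C : Type u} [Category.{v} C] [Abelian C]

lemma exact_of_evaluation (S : ShortComplex (J ⥤ C))
    (h : ∀ j, (S.map ((evaluation J C).obj j)).Exact) : S.Exact := by
  rw [ShortComplex.exact_iff_isZero_homology, Functor.isZero_iff]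
  intro j
  have := (h j)
  rw [ShortComplex.exact_iff_isZero_homology] at this
  exact IsZero.of_iso this (S.mapHomologyIso ((evaluation J C).obj j)).symm

end FunExact

variable {R : Type u} [CommRing R] (I : Ideal R)

open localCohomology

instance instExactNat : HasExactColimitsOfShape (ℕᵒᵖ)ᵒᵖ (ModuleCat.{u} R) := by
  have : HasFilteredColimitsOfSize.{0, 0} (ModuleCat.{u} R) :=
    hasFilteredColimitsOfSize_of_univLE.{0}
  have : AB5OfSize.{0, 0} (ModuleCat.{u} R) := AB5OfSize_of_univLE.{0,0,u,u} (ModuleCat.{u} R)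
  exact AB5OfSize.ofShape _

/-- The diagram whose colimit is local cohomology. -/
noncomputable abbrev Dg (i : ℕ) : (ℕᵒᵖ)ᵒᵖ ⥤ ModuleCat.{u} R ⥤ ModuleCat.{u} R :=
  diagram (idealPowersDiagram I) i

/-- `R / I^k` as an object of `(ModuleCat R)ᵒᵖ`. -/
noncomputable abbrev quotObj (k : (ℕᵒᵖ)ᵒᵖ) : (ModuleCat.{u} R)ᵒᵖ :=
  (ringModIdeals (idealPowersDiagram I)).op.obj k

example (i : ℕ) (k) : (Dg I i).obj k = (Ext R (ModuleCat.{u} R) i).obj (quotObj I k) := rfl

example (i : ℕ) : localCohomology I i = colimit (Dg I i) := rfl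

/-- The canonical maps into the colimit. -/
noncomputable def lcι (i : ℕ) (k : (ℕᵒᵖ)ᵒᵖ) :
    (Ext R (ModuleCat.{u} R) i).obj (quotObj I k) ⟶ localCohomology I i :=
  colimit.ι (Dg I i) k

lemma lcι_naturality (i : ℕ) (k : (ℕᵒᵖ)ᵒᵖ) {M N : ModuleCat.{u} R} (f : M ⟶ N) :
    ((Ext R (ModuleCat.{u} R) i).obj (quotObj I k)).map f ≫ (lcι I i k).app N =
      (lcι I i k).app M ≫ (localCohomology I i).map f :=
  (lcι I i k).naturality f

/-- The colimit cocone of `Dg I i` evaluated at `M`. -/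
noncomputable def lcCocone (i : ℕ) (M : ModuleCat.{u} R) :
    Cocone (Dg I i ⋙ (evaluation _ _).obj M) :=
  ((evaluation _ _).obj M).mapCocone (colimit.cocone (Dg I i))

noncomputable def lcIsColimit (i : ℕ) (M : ModuleCat.{u} R) : IsColimit (lcCocone I i M) :=
  isColimitOfPreserves _ (colimit.isColimit _)

example (i : ℕ) (M : ModuleCat.{u} R) : (lcCocone I i M).pt = (localCohomology I i).obj M := rfl

lemma lcCocone_ι_app (i : ℕ) (M : ModuleCat.{u} R) (k) :
    (lcCocone I i M).ι.app k = (lcι I i k).app M := rfl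

lemma lc_hom_ext {i : ℕ} {M T : ModuleCat.{u} R} {f g : (localCohomology I i).obj M ⟶ T}
    (h : ∀ k, (lcι I i k).app M ≫ f = (lcι I i k).app M ≫ g) : f = g :=
  (lcIsColimit I i M).hom_ext h

variable {S : ShortComplex (ModuleCat.{u} R)} (hS : S.ShortExact)

/-- The short complex of diagrams `Ext^i(R/I^k, X₁) ⟶ Ext^i(R/I^k, X₂) ⟶ Ext^i(R/I^k, X₃)`. -/
noncomputable def dgSC₂ (S : ShortComplex (ModuleCat.{u} R)) (i : ℕ) :
    ShortComplex ((ℕᵒᵖ)ᵒᵖ ⥤ ModuleCat.{u} R) :=
  ShortComplex.mk (Functor.whiskerLeft (Dg I i) ((evaluation _ _).map S.f))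
    (Functor.whiskerLeft (Dg I i) ((evaluation _ _).map S.g)) (by
      apply NatTrans.ext
      funext k
      exact ext_map_comp_map R S _ i)

include hS in
lemma dgSC₂_exact (i : ℕ) : (dgSC₂ I S i).Exact := by
  apply exact_of_evaluation
  intro k
  exact ext_exact₂ R hS _ i

lemma lc_map_comp_map (S : ShortComplex (ModuleCat.{u} R)) (i : ℕ) :
    (localCohomology I i).map S.f ≫ (localCohomology I i).map S.g = 0 := by
  apply lc_hom_ext
  intro k
  rw [comp_zero, ← assoc, ← lcι_naturality, assoc, ← lcι_naturality, ← assoc,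
    ext_map_comp_map, zero_comp]

include hS in
theorem lc_exact₂ (i : ℕ) :
    (ShortComplex.mk ((localCohomology I i).map S.f) ((localCohomology I i).map S.g)
      (lc_map_comp_map I S i)).Exact :=
  colim.exact_mapShortComplex (dgSC₂_exact I hS i)
    (lcIsColimit I i S.X₁) (lcIsColimit I i S.X₂) (lcIsColimit I i S.X₃)
    ((localCohomology I i).map S.f) ((localCohomology I i).map S.g)
    (fun k => ((lcι_naturality I i k S.f)).symm)
    (fun k => ((lcι_naturality I i k S.g)).symm)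

/-- The connecting map on diagrams. -/
noncomputable def dgδ (i : ℕ) :
    Dg I i ⋙ (evaluation _ _).obj S.X₃ ⟶ Dg I (i + 1) ⋙ (evaluation _ _).obj S.X₁ :=
  Functor.whiskerLeft (ringModIdeals (idealPowersDiagram I)).op (extδ R hS i)

lemma dgδ_app (i : ℕ) (k) : (dgδ I hS i).app k = (extδ R hS i).app (quotObj I k) := rfl

/-- The connecting homomorphism of local cohomology. -/
noncomputable def lcδ (i : ℕ) :
    (localCohomology I i).obj S.X₃ ⟶ (localCohomology I (i + 1)).obj S.X₁ :=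
  (lcIsColimit I i S.X₃).desc (Cocone.mk _ (dgδ I hS i ≫ (lcCocone I (i + 1) S.X₁).ι))

lemma lcι_lcδ (i : ℕ) (k) :
    (lcι I i k).app S.X₃ ≫ lcδ I hS i =
      (extδ R hS i).app (quotObj I k) ≫ (lcι I (i + 1) k).app S.X₁ :=
  (lcIsColimit I i S.X₃).fac _ k

lemma lc_map_comp_lcδ (i : ℕ) : (localCohomology I i).map S.g ≫ lcδ I hS i = 0 := by
  apply lc_hom_ext
  intro k
  rw [comp_zero, ← assoc, ← lcι_naturality, assoc, lcι_lcδ, ← assoc,
    ext_map_comp_extδ, zero_comp]

lemma lcδ_comp_lc_map (i : ℕ) : lcδ I hS i ≫ (localCohomology I (i + 1)).map S.f = 0 := by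
  apply lc_hom_ext
  intro k
  rw [comp_zero, ← assoc, lcι_lcδ, assoc, ← lcι_naturality, ← assoc,
    extδ_comp_ext_map, zero_comp]

/-- short complex of diagrams for exactness at `H^i(X₃)`. -/
noncomputable def dgSC₃ (i : ℕ) : ShortComplex ((ℕᵒᵖ)ᵒᵖ ⥤ ModuleCat.{u} R) :=
  ShortComplex.mk (Functor.whiskerLeft (Dg I i) ((evaluation _ _).map S.g)) (dgδ I hS i) (by
      apply NatTrans.ext
      funext k
      exact ext_map_comp_extδ R hS _ i)

lemma dgSC₃_exact (i : ℕ) : (dgSC₃ I hS i).Exact := by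
  apply exact_of_evaluation
  intro k
  exact ext_exact₃ R hS _ i

theorem lc_exact₃ (i : ℕ) :
    (ShortComplex.mk ((localCohomology I i).map S.g) (lcδ I hS i)
      (lc_map_comp_lcδ I hS i)).Exact :=
  colim.exact_mapShortComplex (dgSC₃_exact I hS i)
    (lcIsColimit I i S.X₂) (lcIsColimit I i S.X₃) (lcIsColimit I (i + 1) S.X₁)
    ((localCohomology I i).map S.g) (lcδ I hS i)
    (fun k => ((lcι_naturality I i k S.g)).symm)
    (fun k => lcι_lcδ I hS i k)

/-- short complex of diagrams for exactness at `H^{i+1}(X₁)`. -/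
noncomputable def dgSC₁ (i : ℕ) : ShortComplex ((ℕᵒᵖ)ᵒᵖ ⥤ ModuleCat.{u} R) :=
  ShortComplex.mk (dgδ I hS i) (Functor.whiskerLeft (Dg I (i + 1)) ((evaluation _ _).map S.f)) (by
      apply NatTrans.ext
      funext k
      exact extδ_comp_ext_map R hS _ i)

lemma dgSC₁_exact (i : ℕ) : (dgSC₁ I hS i).Exact := by
  apply exact_of_evaluation
  intro k
  exact ext_exact₁ R hS _ i

theorem lc_exact₁ (i : ℕ) :
    (ShortComplex.mk (lcδ I hS i) ((localCohomology I (i + 1)).map S.f)
      (lcδ_comp_lc_map I hS i)).Exact :=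
  colim.exact_mapShortComplex (dgSC₁_exact I hS i)
    (lcIsColimit I i S.X₃) (lcIsColimit I (i + 1) S.X₁) (lcIsColimit I (i + 1) S.X₂)
    (lcδ I hS i) ((localCohomology I (i + 1)).map S.f)
    (fun k => lcι_lcδ I hS i k)
    (fun k => ((lcι_naturality I (i + 1) k S.f)).symm)

end Groth.Agent.H8.LC
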