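import Mathlib
import Groth.Agent.Lib.Helper8.LC.LES
import Groth.Agent.Lib.Helper8.LC.ExtFacts

/-! # The torsion functor `Γ_I` and `H⁰_I ≅ Γ_I` -/

set_option autoImplicit false
set_option linter.unusedSectionVars false

open CategoryTheory Limits Category Opposite

universe u

namespace Groth.Agent.H8.LC

variable {R : Type u} [CommRing R] (I : Ideal R)

/-- The `I`-power torsion submodule. -/
def tors (M : Type u) [AddCommGroup M] [Module R M] : Submodule R M where
  carrier := {m | ∃ n : ℕ, ∀ a ∈ I ^ n, a • m = 0}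
  zero_mem' := ⟨0, fun a _ => smul_zero a⟩
  add_mem' := by
    rintro m m' ⟨n, hn⟩ ⟨n', hn'⟩
    refine ⟨n + n', fun a ha => ?_⟩
    rw [smul_add, hn a (Ideal.pow_le_pow_right (Nat.le_add_right n n') ha),
      hn' a (Ideal.pow_le_pow_right (Nat.le_add_left n' n) ha), add_zero]
  smul_mem' := by
    rintro c m ⟨n, hn⟩
    exact ⟨n, fun a ha => by rw [smul_comm, hn a ha, smul_zero]⟩

lemma mem_tors {M : Type u} [AddCommGroup M] [Module R M] (m : M) :
    m ∈ tors I M ↔ ∃ n : ℕ, ∀ a ∈ I ^ n, a • m = 0 := Iff.rfl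

lemma map_mem_tors {M N : Type u} [AddCommGroup M] [Module R M] [AddCommGroup N] [Module R N]
    (f : M →ₗ[R] N) {m : M} (hm : m ∈ tors I M) : f m ∈ tors I N := by
  obtain ⟨n, hn⟩ := hm
  exact ⟨n, fun a ha => by rw [← map_smul, hn a ha, map_zero]⟩

/-- The functor `Γ_I`. -/
def Γ : ModuleCat.{u} R ⥤ ModuleCat.{u} R where
  obj M := ModuleCat.of R (tors I M)
  map {M N} f := ModuleCat.ofHom (f.hom.restrict fun m hm => map_mem_tors I f.hom hm)

instance : (Γ I).Additive where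
  map_add := by intros; rfl

/-- The inclusion `Γ_I M ⊆ M`. -/
def Γι : Γ I ⟶ 𝟭 (ModuleCat.{u} R) where
  app M := ModuleCat.ofHom (tors I M).subtype
  naturality _ _ _ := rfl

instance (M : ModuleCat.{u} R) : Mono ((Γι I).app M) :=
  (ModuleCat.mono_iff_injective _).2 (Submodule.injective_subtype _)

lemma Γ_map_apply {M N : ModuleCat.{u} R} (f : M ⟶ N) (x : tors I M) :
    (tors I N).subtype (((Γ I).map f).hom x) = f.hom x := rfl

instance Γ_preservesMono {M N : ModuleCat.{u} R} (f : M ⟶ N) [Mono f] : Mono ((Γ I).map f) := by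
  rw [ModuleCat.mono_iff_injective] at *
  intro x y h
  apply Subtype.ext
  apply ‹Function.Injective f.hom›
  exact congr_arg Subtype.val h

open localCohomology

/-- Evaluation at `1`: `Hom(R/I^n, M) ⟶ Γ_I M`. -/
def evalOne (n : ℕ) (M : ModuleCat.{u} R) :
    ModuleCat.of R (ModuleCat.of R (R ⧸ I ^ n) ⟶ M) ⟶ (Γ I).obj M :=
  ModuleCat.ofHom
    { toFun := fun φ => ⟨φ.hom (Ideal.Quotient.mk _ 1), n, fun a ha => by
        rw [← map_smul]
        have : a • (Ideal.Quotient.mk (I ^ n) 1) = 0 := by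
          rw [← Ideal.Quotient.mk_eq_mk, ← Submodule.Quotient.mk_smul, smul_eq_mul, mul_one]
          exact (Submodule.Quotient.mk_eq_zero _).2 ha
        rw [this, map_zero]⟩
      map_add' := fun φ ψ => rfl
      map_smul' := fun r φ => rfl }

lemma evalOne_injective (n : ℕ) (M : ModuleCat.{u} R) : Function.Injective (evalOne I n M).hom := by
  intro φ ψ h
  apply ModuleCat.hom_ext
  apply LinearMap.ext
  intro x
  obtain ⟨r, rfl⟩ := Ideal.Quotient.mk_surjective x
  have h1 : φ.hom (Ideal.Quotient.mk _ 1) = ψ.hom (Ideal.Quotient.mk _ 1) :=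
    congr_arg Subtype.val h
  have : (Ideal.Quotient.mk (I ^ n)) r = r • (Ideal.Quotient.mk (I ^ n)) 1 := by
    rw [← Ideal.Quotient.mk_eq_mk, ← Ideal.Quotient.mk_eq_mk, ← Submodule.Quotient.mk_smul,
      smul_eq_mul, mul_one]
  rw [this, map_smul, map_smul, h1]

/-- `evalOne` as a natural transformation. -/
def evalOneNat (n : ℕ) :
    (linearCoyoneda R (ModuleCat.{u} R)).obj (op (ModuleCat.of R (R ⧸ I ^ n))) ⟶ Γ I where
  app M := evalOne I n M
  naturality _ _ _ := rfl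

/-- The maps `Ext⁰(R/I^k, -) ⟶ Γ_I`. -/
noncomputable def toΓ (k : (ℕᵒᵖ)ᵒᵖ) : (Dg I 0).obj k ⟶ Γ I :=
  (ext0Iso R (ModuleCat.of R (R ⧸ I ^ k.unop.unop))).inv ≫ evalOneNat I k.unop.unop

lemma ext0_aux {X X' M T : ModuleCat.{u} R} (g : X ⟶ X')
    (eX : ((linearCoyoneda R (ModuleCat.{u} R)).obj (op X)).obj M ⟶ T)
    (eX' : ((linearCoyoneda R (ModuleCat.{u} R)).obj (op X')).obj M ⟶ T)
    (hc : ((linearCoyoneda R (ModuleCat.{u} R)).map g.op).app M ≫ eX = eX') :
    ((Ext R (ModuleCat.{u} R) 0).map g.op).app M ≫ (ext0Iso R X).inv.app M ≫ eX =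
      (ext0Iso R X').inv.app M ≫ eX' := by
  have h := ext0Iso_naturality_fst R g M
  have h' : (ext0Iso R X').inv.app M ≫ ((linearCoyoneda R (ModuleCat.{u} R)).map g.op).app M =
      ((Ext R (ModuleCat.{u} R) 0).map g.op).app M ≫ (ext0Iso R X).inv.app M := by
    calc (ext0Iso R X').inv.app M ≫ ((linearCoyoneda R (ModuleCat.{u} R)).map g.op).app M
        = (ext0Iso R X').inv.app M ≫ (((linearCoyoneda R (ModuleCat.{u} R)).map g.op).app M ≫
            (ext0Iso R X).hom.app M) ≫ (ext0Iso R X).inv.app M := by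
          rw [assoc, Iso.hom_inv_id_app, comp_id]
      _ = ((Ext R (ModuleCat.{u} R) 0).map g.op).app M ≫ (ext0Iso R X).inv.app M := by
          rw [h, assoc, Iso.inv_hom_id_app_assoc]
  rw [← assoc, ← h', assoc, hc]

lemma toΓ_comp {k k' : (ℕᵒᵖ)ᵒᵖ} (w : k ⟶ k') : (Dg I 0).map w ≫ toΓ I k' = toΓ I k := by
  ext M : 2
  exact ext0_aux ((ringModIdeals (idealPowersDiagram I)).map w.unop)
    (evalOne I k'.unop.unop M) (evalOne I k.unop.unop M) rfl

/-- The cocone with point `Γ_I`. -/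
noncomputable def ΓCocone : Cocone (Dg I 0) where
  pt := Γ I
  ι := { app := toΓ I
         naturality := fun k k' w => by rw [toΓ_comp]; exact (comp_id _).symm }

/-- The comparison map `H⁰_I ⟶ Γ_I`. -/
noncomputable def H0ToΓ : localCohomology I 0 ⟶ Γ I := colimit.desc (Dg I 0) (ΓCocone I)

lemma lcι_H0ToΓ (k : (ℕᵒᵖ)ᵒᵖ) : lcι I 0 k ≫ H0ToΓ I = toΓ I k :=
  colimit.ι_desc _ _

instance instPresForget (F : (ℕᵒᵖ)ᵒᵖ ⥤ ModuleCat.{u} R) :
    PreservesColimit F (forget (ModuleCat.{u} R)) := by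
  have : PreservesFilteredColimitsOfSize.{0, 0} (forget (ModuleCat.{u} R)) :=
    preservesSmallestFilteredColimits_of_preservesFilteredColimits.{u, u} _
  infer_instance

/-- Every element of `H^i_I(M)` comes from some `Ext^i(R/I^k, M)`. -/
lemma lc_exists_rep (i : ℕ) (M : ModuleCat.{u} R) (x : (localCohomology I i).obj M) :
    ∃ (k : (ℕᵒᵖ)ᵒᵖ) (y : ((Ext R (ModuleCat.{u} R) i).obj (quotObj I k)).obj M),
      ((lcι I i k).app M).hom y = x :=
  Concrete.isColimit_exists_rep _ (lcIsColimit I i M) x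

lemma H0ToΓ_lcι_apply (k : (ℕᵒᵖ)ᵒᵖ) (M : ModuleCat.{u} R)
    (y : ((Ext R (ModuleCat.{u} R) 0).obj (quotObj I k)).obj M) :
    ((H0ToΓ I).app M).hom (((lcι I 0 k).app M).hom y) = ((toΓ I k).app M).hom y := by
  rw [← lcι_H0ToΓ]
  rfl

lemma toΓ_app_injective (k : (ℕᵒᵖ)ᵒᵖ) (M : ModuleCat.{u} R) :
    Function.Injective ((toΓ I k).app M).hom := by
  intro y y' h
  have h' : (evalOne I k.unop.unop M).hom
      (((ext0Iso R (ModuleCat.of R (R ⧸ I ^ k.unop.unop))).inv.app M).hom y) =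
      (evalOne I k.unop.unop M).hom
      (((ext0Iso R (ModuleCat.of R (R ⧸ I ^ k.unop.unop))).inv.app M).hom y') := h
  have h2 := evalOne_injective I _ M h'
  exact ((ConcreteCategory.isIso_iff_bijective _).1 (inferInstance : IsIso
    ((ext0Iso R (ModuleCat.of R (R ⧸ I ^ k.unop.unop))).inv.app M))).1 h2

lemma H0ToΓ_app_bijective (M : ModuleCat.{u} R) : Function.Bijective ((H0ToΓ I).app M).hom := by
  constructor
  · rw [← LinearMap.ker_eq_bot, LinearMap.ker_eq_bot']
    intro x hx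
    obtain ⟨k, y, rfl⟩ := lc_exists_rep I 0 M x
    rw [H0ToΓ_lcι_apply] at hx
    have : y = 0 := toΓ_app_injective I k M (hx.trans (map_zero _).symm)
    rw [this, map_zero]
  · intro m
    obtain ⟨n, hn⟩ := m.2
    let φ : ModuleCat.of R (R ⧸ I ^ n) ⟶ M := ModuleCat.ofHom
      (Submodule.liftQ (I ^ n) (LinearMap.toSpanSingleton R M m.1) (fun a ha =>
        LinearMap.mem_ker.2 (by rw [LinearMap.toSpanSingleton_apply]; exact hn a ha)))
    let k : (ℕᵒᵖ)ᵒᵖ := op (op n)
    let y : ((Ext R (ModuleCat.{u} R) 0).obj (quotObj I k)).obj M :=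
      ((ext0Iso R (ModuleCat.of R (R ⧸ I ^ n))).hom.app M).hom φ
    refine ⟨((lcι I 0 k).app M).hom y, ?_⟩
    refine (H0ToΓ_lcι_apply I k M y).trans ?_
    have : ((toΓ I k).app M).hom y = (evalOne I n M).hom φ := by
      change (evalOne I n M).hom (((ext0Iso R (ModuleCat.of R (R ⧸ I ^ n))).inv.app M).hom
        (((ext0Iso R (ModuleCat.of R (R ⧸ I ^ n))).hom.app M).hom φ)) = _
      congr 1
      exact ConcreteCategory.congr_hom ((ext0Iso R (ModuleCat.of R (R ⧸ I ^ n))).hom_inv_id_app M) φ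
    rw [this]
    apply Subtype.ext
    change (Submodule.liftQ (I ^ n) (LinearMap.toSpanSingleton R M m.1) _)
      (Submodule.Quotient.mk 1) = m.1
    rw [Submodule.liftQ_apply, LinearMap.toSpanSingleton_apply, one_smul]

instance (M : ModuleCat.{u} R) : IsIso ((H0ToΓ I).app M) :=
  (ConcreteCategory.isIso_iff_bijective _).2 (H0ToΓ_app_bijective I M)

instance : IsIso (H0ToΓ I) := NatIso.isIso_of_isIso_app _

/-- The natural isomorphism `H⁰_I ≅ Γ_I`. -/
noncomputable def H0Iso : localCohomology I 0 ≅ Γ I := asIso (H0ToΓ I)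

end Groth.Agent.H8.LC
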