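import Mathlib
import Groth.Agent.Lib.Helper8.LC.Gamma
import Groth.Agent.Lib.Helper8.LC.Delta

/-! # Local cohomology as an effaceable δ-functor; linearity; torsion -/

set_option autoImplicit false
set_option linter.unusedSectionVars false

open CategoryTheory Limits Category Opposite

universe u

namespace Groth.Agent.H8.LC

variable {R : Type u} [CommRing R] (I : Ideal R)

open localCohomology

/-- Naturality of the connecting morphism of local cohomology. -/
lemma lcδ_naturality {S S' : ShortComplex (ModuleCat.{u} R)} (hS : S.ShortExact)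
    (hS' : S'.ShortExact) (φ : S ⟶ S') (i : ℕ) :
    lcδ I hS i ≫ (localCohomology I (i + 1)).map φ.τ₁ =
      (localCohomology I i).map φ.τ₃ ≫ lcδ I hS' i := by
  apply lc_hom_ext
  intro k
  rw [← assoc, lcι_lcδ, assoc, ← lcι_naturality, ← assoc, extδ_naturality R hS hS' φ, assoc,
    ← lcι_lcδ, ← assoc, lcι_naturality, assoc]

lemma lc_subsingleton_of_injective (E : ModuleCat.{u} R) [Injective E] (i : ℕ) :
    Subsingleton ((localCohomology I (i + 1)).obj E) := by
  refine ⟨fun x y => ?_⟩
  obtain ⟨k, x', rfl⟩ := lc_exists_rep I (i + 1) E x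
  obtain ⟨l, y', rfl⟩ := lc_exists_rep I (i + 1) E y
  have h1 := (isZero_Ext_succ_of_injective R (quotObj I k).unop E i)
  have h2 := (isZero_Ext_succ_of_injective R (quotObj I l).unop E i)
  have := ModuleCat.subsingleton_of_isZero h1
  have := ModuleCat.subsingleton_of_isZero h2
  rw [Subsingleton.elim x' 0, Subsingleton.elim y' 0, map_zero, map_zero]

lemma lc_isZero_of_injective (E : ModuleCat.{u} R) [Injective E] (i : ℕ) :
    IsZero ((localCohomology I (i + 1)).obj E) :=
  have := lc_subsingleton_of_injective I E i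
  ModuleCat.isZero_of_subsingleton _

lemma lc_zero_map_mono {M N : ModuleCat.{u} R} (f : M ⟶ N) [Mono f] :
    Mono ((localCohomology I 0).map f) := by
  have h := (H0Iso I).hom.naturality f
  have : (localCohomology I 0).map f =
      (H0Iso I).hom.app M ≫ (Γ I).map f ≫ (H0Iso I).inv.app N := by
    rw [← assoc, ← h, assoc, Iso.hom_inv_id_app, comp_id]
  rw [this]
  have m1 : Mono ((Γ I).map f) := Γ_preservesMono I f
  have m2 : Mono ((H0Iso I).inv.app N) := IsIso.mono_of_iso _
  have m3 : Mono ((H0Iso I).hom.app M) := IsIso.mono_of_iso _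
  have m4 : Mono ((Γ I).map f ≫ (H0Iso I).inv.app N) := mono_comp _ _
  exact mono_comp _ _

/-- Local cohomology as a δ-functor. -/
noncomputable def lcDelta : DeltaFunctor (ModuleCat.{u} R) (ModuleCat.{u} R) where
  F := localCohomology I
  δ hS n := lcδ I hS n
  δ_naturality hS hS' φ n := lcδ_naturality I hS hS' φ n
  map_comp_map {S} _ n := lc_map_comp_map I S n
  map_comp_δ hS n := lc_map_comp_lcδ I hS n
  δ_comp_map hS n := lcδ_comp_lc_map I hS n
  mono₀ hS := have := hS.mono_f; lc_zero_map_mono I _
  exact₂ hS n := lc_exact₂ I hS n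
  exact₃ hS n := lc_exact₃ I hS n
  exact₁ hS n := lc_exact₁ I hS n

lemma lcDelta_effaceable : (lcDelta I).Effaceable := fun E _ n => lc_isZero_of_injective I E n

end Groth.Agent.H8.LC
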