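import Mathlib
import Groth.Agent.Lib.Helper8.LC.LCDelta

/-! # Linearity of local cohomology and power torsion -/

set_option autoImplicit false
set_option linter.unusedSectionVars false

open CategoryTheory Limits Category Opposite

universe u

namespace Groth.Agent.H8.LC

variable {R : Type u} [CommRing R] (I : Ideal R)

open localCohomology

lemma smul_id_apply {N : ModuleCat.{u} R} (a : R) (y : N) : (a • 𝟙 N : N ⟶ N).hom y = a • y := rfl

/-- If `a` kills `X`, it kills `Ext^n(X, M)`. -/
lemma ext_smul_eq_zero {X : ModuleCat.{u} R} (a : R) (ha : a • 𝟙 X = 0) (M : ModuleCat.{u} R)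
    (n : ℕ) (y : ((Ext R (ModuleCat.{u} R) n).obj (op X)).obj M) : a • y = 0 := by
  have h := ext_map_smul_fst R (𝟙 X) a M n
  rw [ha] at h
  have h0 : ((Ext R (ModuleCat.{u} R) n).map (0 : X ⟶ X).op).app M = 0 := by
    apply Quiver.Hom.op_inj
    have := leftDerived_map_smul (homTo R M) (𝟙 X) (0 : R) n
    rw [zero_smul, zero_smul] at this
    exact this
  rw [h0] at h
  have h1 : ((Ext R (ModuleCat.{u} R) n).map (𝟙 X).op).app M = 𝟙 _ := by
    rw [op_id, (Ext R (ModuleCat.{u} R) n).map_id]
    rfl
  rw [h1] at h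
  rw [← smul_id_apply, ← h]
  rfl

/-- The local cohomology functors are `R`-linear. -/
lemma lc_map_smul {M N : ModuleCat.{u} R} (f : M ⟶ N) (r : R) (i : ℕ) :
    (localCohomology I i).map (r • f) = r • (localCohomology I i).map f := by
  apply lc_hom_ext
  intro k
  rw [← lcι_naturality, ext_map_smul_snd, Linear.smul_comp, lcι_naturality, Linear.comp_smul]

instance (i : ℕ) : (localCohomology I i).Linear R where
  map_smul f r := lc_map_smul I f r i

lemma lc_map_smul_id_apply (M : ModuleCat.{u} R) (r : R) (i : ℕ)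
    (x : (localCohomology I i).obj M) :
    ((localCohomology I i).map (r • 𝟙 M)).hom x = r • x := by
  rw [lc_map_smul, (localCohomology I i).map_id]
  rfl

/-- Every element of `H^i_I(M)` is killed by a power of `I`. -/
theorem lc_power_torsion (M : ModuleCat.{u} R) (i : ℕ) (x : (localCohomology I i).obj M) :
    ∃ n : ℕ, ∀ a ∈ I ^ n, a • x = 0 := by
  obtain ⟨k, y, rfl⟩ := lc_exists_rep I i M x
  refine ⟨k.unop.unop, fun a ha => ?_⟩
  rw [← map_smul]
  have : a • y = 0 := by
    refine ext_smul_eq_zero a ?_ M i y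
    apply ModuleCat.hom_ext
    apply LinearMap.ext
    intro z
    obtain ⟨r, rfl⟩ := Ideal.Quotient.mk_surjective z
    change a • (Ideal.Quotient.mk (I ^ k.unop.unop) r) = 0
    rw [← Ideal.Quotient.mk_eq_mk, ← Submodule.Quotient.mk_smul]
    exact (Submodule.Quotient.mk_eq_zero _).2 (Ideal.mul_mem_right _ _ ha)
  rw [this, map_zero]

end Groth.Agent.H8.LC
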