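import Mathlib
import Groth.Agent.Lib.Helper8.LC.Delta

/-! # Composing δ-functors with exact functors -/

set_option autoImplicit false
set_option linter.unusedSectionVars false
set_option linter.unusedVariables false

open CategoryTheory Limits Category

universe v u v' u' v'' u''

namespace Groth.Agent.H8.LC

variable {C : Type u} [Category.{v} C] [Abelian C] {D : Type u'} [Category.{v'} D] [Abelian D]
  {B : Type u''} [Category.{v''} B] [Abelian B]

namespace DeltaFunctor

/-- Post-composition of a δ-functor with an exact functor. -/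
noncomputable def postcomp (X : DeltaFunctor C D) (G : D ⥤ B) [G.Additive]
    [PreservesFiniteLimits G] [PreservesFiniteColimits G] : DeltaFunctor C B where
  F n := X.F n ⋙ G
  δ hS n := G.map (X.δ hS n)
  δ_naturality hS hS' φ n := by
    dsimp
    rw [← G.map_comp, ← G.map_comp, X.δ_naturality hS hS' φ n]
  map_comp_map hS n := by
    dsimp
    rw [← G.map_comp, X.map_comp_map hS n, G.map_zero]
  map_comp_δ hS n := by
    dsimp
    rw [← G.map_comp, X.map_comp_δ hS n, G.map_zero]
  δ_comp_map hS n := by
    dsimp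
    rw [← G.map_comp, X.δ_comp_map hS n, G.map_zero]
  mono₀ hS := by
    have := X.mono₀ hS
    dsimp
    infer_instance
  exact₂ hS n := (X.exact₂ hS n).map G
  exact₃ hS n := (X.exact₃ hS n).map G
  exact₁ hS n := (X.exact₁ hS n).map G

@[simp] lemma postcomp_F (X : DeltaFunctor C D) (G : D ⥤ B) [G.Additive]
    [PreservesFiniteLimits G] [PreservesFiniteColimits G] (n : ℕ) :
    (X.postcomp G).F n = X.F n ⋙ G := rfl

lemma postcomp_δ (X : DeltaFunctor C D) (G : D ⥤ B) [G.Additive]
    [PreservesFiniteLimits G] [PreservesFiniteColimits G] {S : ShortComplex C}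
    (hS : S.ShortExact) (n : ℕ) : (X.postcomp G).δ hS n = G.map (X.δ hS n) := rfl

lemma Effaceable.postcomp {X : DeltaFunctor C D} (hX : X.Effaceable) (G : D ⥤ B) [G.Additive]
    [PreservesFiniteLimits G] [PreservesFiniteColimits G] : (X.postcomp G).Effaceable :=
  fun I _ n => G.map_isZero (hX I n)

/-- Pre-composition of a δ-functor with an exact functor. -/
noncomputable def precomp (G : B ⥤ C) [G.Additive]
    [PreservesFiniteLimits G] [PreservesFiniteColimits G] (X : DeltaFunctor C D) :
    DeltaFunctor B D where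
  F n := G ⋙ X.F n
  δ hS n := X.δ (hS.map_of_exact G) n
  δ_naturality hS hS' φ n :=
    X.δ_naturality (hS.map_of_exact G) (hS'.map_of_exact G) (G.mapShortComplex.map φ) n
  map_comp_map hS n := X.map_comp_map (hS.map_of_exact G) n
  map_comp_δ hS n := X.map_comp_δ (hS.map_of_exact G) n
  δ_comp_map hS n := X.δ_comp_map (hS.map_of_exact G) n
  mono₀ hS := X.mono₀ (hS.map_of_exact G)
  exact₂ hS n := X.exact₂ (hS.map_of_exact G) n
  exact₃ hS n := X.exact₃ (hS.map_of_exact G) n
  exact₁ hS n := X.exact₁ (hS.map_of_exact G) n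

@[simp] lemma precomp_F (G : B ⥤ C) [G.Additive]
    [PreservesFiniteLimits G] [PreservesFiniteColimits G] (X : DeltaFunctor C D) (n : ℕ) :
    (X.precomp G).F n = G ⋙ X.F n := rfl

lemma precomp_δ (G : B ⥤ C) [G.Additive]
    [PreservesFiniteLimits G] [PreservesFiniteColimits G] (X : DeltaFunctor C D)
    {S : ShortComplex B} (hS : S.ShortExact) (n : ℕ) :
    (X.precomp G).δ hS n = X.δ (hS.map_of_exact G) n := rfl

/-- Whiskering a natural transformation `G ⟶ G'` of exact functors gives a morphism of
δ-functors. -/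
lemma isHom_postcomp_whisker (X : DeltaFunctor C D) (G G' : D ⥤ B) [G.Additive]
    [PreservesFiniteLimits G] [PreservesFiniteColimits G] [G'.Additive]
    [PreservesFiniteLimits G'] [PreservesFiniteColimits G'] (η : G ⟶ G') :
    IsHom (X.postcomp G) (X.postcomp G') (fun n => Functor.whiskerLeft (X.F n) η) :=
  fun hA n => (η.naturality _)

/-- The morphism `X ⟶ X.postcomp G` induced by `η : 𝟭 ⟶ G`. -/
def toPostcomp (X : DeltaFunctor C D) (G : D ⥤ D) [G.Additive]
    [PreservesFiniteLimits G] [PreservesFiniteColimits G] (η : 𝟭 D ⟶ G) (n : ℕ) :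
    X.F n ⟶ (X.postcomp G).F n where
  app M := η.app ((X.F n).obj M)
  naturality _ _ f := η.naturality ((X.F n).map f)

lemma isHom_toPostcomp (X : DeltaFunctor C D) (G : D ⥤ D) [G.Additive]
    [PreservesFiniteLimits G] [PreservesFiniteColimits G] (η : 𝟭 D ⟶ G) :
    IsHom X (X.postcomp G) (X.toPostcomp G η) :=
  fun hA n => η.naturality (X.δ hA n)

@[simp] lemma toPostcomp_app (X : DeltaFunctor C D) (G : D ⥤ D) [G.Additive]
    [PreservesFiniteLimits G] [PreservesFiniteColimits G] (η : 𝟭 D ⟶ G) (n : ℕ) (M : C) :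
    (X.toPostcomp G η n).app M = η.app ((X.F n).obj M) := rfl

end DeltaFunctor

end Groth.Agent.H8.LC
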