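import Mathlib
import Groth.Agent.Lib.Helper8.LC.Comp

/-! # Localization as an exact endofunctor of `ModuleCat R` -/

set_option autoImplicit false
set_option linter.unusedSectionVars false
set_option linter.unusedVariables false

open CategoryTheory Limits Category

universe u

namespace Groth.Agent.H8.LC

variable {R : Type u} [CommRing R] (S : Submonoid R)

/-- The localization functor `M ↦ S⁻¹M` on `ModuleCat R`. -/
noncomputable def Loc : ModuleCat.{u} R ⥤ ModuleCat.{u} R where
  obj M := ModuleCat.of R (LocalizedModule S M)
  map {M N} f := ModuleCat.ofHom (IsLocalizedModule.map S (LocalizedModule.mkLinearMap S M)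
    (LocalizedModule.mkLinearMap S N) f.hom)
  map_id M := by
    ext x
    simp
  map_comp {X Y Z} f g := by
    ext x
    simp [IsLocalizedModule.map_comp' S _ (LocalizedModule.mkLinearMap S Y)]

lemma Loc_map_hom {M N : ModuleCat.{u} R} (f : M ⟶ N) :
    ((Loc S).map f).hom = IsLocalizedModule.map S (LocalizedModule.mkLinearMap S M)
      (LocalizedModule.mkLinearMap S N) f.hom := rfl

instance : (Loc S).Additive where
  map_add {M N f g} := by
    apply ModuleCat.hom_ext
    simp [Loc]
    rfl

lemma Loc_map_exact (T : ShortComplex (ModuleCat.{u} R)) (h : T.Exact) :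
    (T.map (Loc S)).Exact := by
  rw [CategoryTheory.ShortComplex.ShortExact.moduleCat_exact_iff_function_exact] at h ⊢
  exact LocalizedModule.map_exact S _ _ h

instance : PreservesFiniteLimits (Loc S) := by
  have := ((Functor.exact_tfae _).out 1 3).mp (Loc_map_exact S)
  exact this.1

instance : PreservesFiniteColimits (Loc S) := by
  have := ((Functor.exact_tfae _).out 1 3).mp (Loc_map_exact S)
  exact this.2

/-- The natural map `M ⟶ S⁻¹M`. -/
noncomputable def toLoc : 𝟭 (ModuleCat.{u} R) ⟶ Loc S where
  app M := ModuleCat.ofHom (LocalizedModule.mkLinearMap S M)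
  naturality {M N} f := by
    ext x
    simp only [Loc, Functor.id_obj, Functor.id_map, ModuleCat.hom_comp, ModuleCat.hom_ofHom]
    exact (IsLocalizedModule.map_apply S (LocalizedModule.mkLinearMap S M)
      (LocalizedModule.mkLinearMap S N) f.hom x).symm

lemma toLoc_app_apply (M : ModuleCat.{u} R) (x : M) :
    ((toLoc S).app M).hom x = LocalizedModule.mk x 1 := rfl

end Groth.Agent.H8.LC
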