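import Mathlib
import Groth.Agent.Lib.Helper8.LC.LCLinear

/-! # Noetherian rings: `Γ_I` of an injective module is injective; torsion modules are acyclic -/

set_option autoImplicit false
set_option linter.unusedSectionVars false

open CategoryTheory Limits Category Opposite

universe u

namespace Groth.Agent.H8.LC

variable {R : Type u} [CommRing R] (I : Ideal R)

/-- A finitely generated submodule consisting of `I`-power-torsion elements is killed by a power
of `I`. -/
lemma exists_pow_annihilates_of_fg {M : Type u} [AddCommGroup M] [Module R M] (N : Submodule R M)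
    (hN : N.FG) (hle : N ≤ tors I M) : ∃ n : ℕ, ∀ a ∈ I ^ n, ∀ x ∈ N, a • x = 0 := by
  obtain ⟨s, rfl⟩ := hN
  have key : ∀ x ∈ s, ∃ n : ℕ, ∀ a ∈ I ^ n, a • x = 0 := fun x hx => hle (Submodule.subset_span hx)
  choose! n hn using key
  refine ⟨s.sup n, fun a ha x hx => ?_⟩
  induction hx using Submodule.span_induction with
  | mem x hx => exact hn x hx a (Ideal.pow_le_pow_right (Finset.le_sup hx) ha)
  | zero => exact smul_zero a
  | add x y _ _ hx hy => rw [smul_add, hx, hy, add_zero]
  | smul r x _ hx => rw [smul_comm, hx, smul_zero]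

variable [IsNoetherianRing R]

/-- Over a Noetherian ring, the `I`-power torsion submodule of an injective module satisfies
Baer's criterion. -/
theorem tors_baer (E : Type u) [AddCommGroup E] [Module R E] [Module.Injective R E] :
    Module.Baer R (tors I E) := by
  intro J f
  -- the image of `f` is killed by `I ^ n`
  have hfg : (LinearMap.range f).FG := by
    rw [LinearMap.range_eq_map]
    exact ((Submodule.fg_top J).2 (IsNoetherian.noetherian J)).map f
  obtain ⟨n, hn⟩ := exists_pow_annihilates_of_fg I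
    (Submodule.map (tors I E).subtype (LinearMap.range f)) (hfg.map _)
    (by rintro _ ⟨y, -, rfl⟩; exact y.2)
  have hn' : ∀ a ∈ I ^ n, ∀ x : J, a • f x = 0 := fun a ha x => by
    apply Subtype.ext
    exact hn a ha _ ⟨f x, ⟨x, rfl⟩, rfl⟩
  -- Artin-Rees
  obtain ⟨k, hk⟩ := Ideal.exists_pow_inf_eq_pow_smul I (J : Submodule R R)
  have hAR : ∀ x : J, (x : R) ∈ I ^ (n + k) → f x = 0 := by
    intro x hx
    have h1 : (x : R) ∈ I ^ (n + k) • (⊤ : Submodule R R) ⊓ J := by
      refine ⟨?_, x.2⟩
      rw [Ideal.smul_eq_mul, Ideal.mul_top]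
      exact hx
    rw [hk (n + k) (Nat.le_add_left k n), Nat.add_sub_cancel] at h1
    have h2 : I ^ n • (I ^ k • (⊤ : Submodule R R) ⊓ J) ≤
        (LinearMap.ker f).map (Submodule.subtype J) := by
      rw [Submodule.smul_le]
      intro a ha z hz
      have hzJ : z ∈ J := (Submodule.mem_inf.1 hz).2
      refine ⟨a • ⟨z, hzJ⟩, ?_, rfl⟩
      show f (a • ⟨z, hzJ⟩) = 0
      rw [map_smul, hn' a ha]
    obtain ⟨y, hy, hyx⟩ := h2 h1
    have : y = x := Subtype.ext hyx
    rw [← this]
    exact hy
  -- extension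
  let ι : J →ₗ[R] R ⧸ I ^ (n + k) := (I ^ (n + k)).mkQ ∘ₗ (Submodule.subtype J)
  let f' : J →ₗ[R] E := (tors I E).subtype ∘ₗ f
  have hker : LinearMap.ker ι ≤ LinearMap.ker f' := by
    intro x hx
    have hx' : (x : R) ∈ I ^ (n + k) := (Submodule.Quotient.mk_eq_zero _).1 hx
    show (tors I E).subtype (f x) = 0
    rw [hAR x hx', map_zero]
  let ιbar : (J ⧸ LinearMap.ker ι) →ₗ[R] R ⧸ I ^ (n + k) := (LinearMap.ker ι).liftQ ι le_rfl
  have hιbar : Function.Injective ιbar :=
    LinearMap.ker_eq_bot.1 (Submodule.ker_liftQ_eq_bot _ _ _ le_rfl)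
  let fbar : (J ⧸ LinearMap.ker ι) →ₗ[R] E := (LinearMap.ker ι).liftQ f' hker
  obtain ⟨h, hh⟩ := Module.Injective.extension_property R E _ _ ιbar hιbar fbar
  have he : h ((I ^ (n + k)).mkQ 1) ∈ tors I E := by
    refine ⟨n + k, fun a ha => ?_⟩
    rw [← map_smul, ← map_smul, smul_eq_mul, mul_one, Submodule.mkQ_apply,
      (Submodule.Quotient.mk_eq_zero _).2 ha, map_zero]
  refine ⟨LinearMap.toSpanSingleton R _ ⟨h ((I ^ (n + k)).mkQ 1), he⟩, fun x mem => ?_⟩
  apply Subtype.ext
  rw [LinearMap.toSpanSingleton_apply]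
  show x • h ((I ^ (n + k)).mkQ 1) = (f ⟨x, mem⟩ : E)
  rw [← map_smul, ← map_smul, smul_eq_mul, mul_one]
  have e1 : (I ^ (n + k)).mkQ x = ιbar (Submodule.Quotient.mk ⟨x, mem⟩) := rfl
  have e2 : (f ⟨x, mem⟩ : E) = fbar (Submodule.Quotient.mk ⟨x, mem⟩) := rfl
  rw [e1, e2, ← hh]
  rfl

instance tors_injective (E : Type u) [AddCommGroup E] [Module R E] [Module.Injective R E] :
    Module.Injective R (tors I E) :=
  (tors_baer I E).injective

instance Γ_obj_injective (E : ModuleCat.{u} R) [Injective E] : Injective ((Γ I).obj E) := by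
  have : Module.Injective R E := Module.injective_module_of_injective_object R E
  exact Module.injective_object_of_injective_module R (tors I E)

omit [IsNoetherianRing R] in
lemma tors_tors_eq_top (M : Type u) [AddCommGroup M] [Module R M] : tors I (tors I M) = ⊤ := by
  rw [eq_top_iff]
  rintro ⟨m, n, hn⟩ -
  exact ⟨n, fun a ha => Subtype.ext (hn a ha)⟩

omit [IsNoetherianRing R] in
lemma tors_eq_top_of_surjective {M N : Type u} [AddCommGroup M] [Module R M] [AddCommGroup N]
    [Module R N] (f : M →ₗ[R] N) (hf : Function.Surjective f) (hM : tors I M = ⊤) :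
    tors I N = ⊤ := by
  rw [eq_top_iff]
  intro y _
  obtain ⟨x, rfl⟩ := hf y
  exact map_mem_tors I f (hM ▸ Submodule.mem_top)

omit [IsNoetherianRing R] in
lemma Γ_map_epi_of_torsion {M N : ModuleCat.{u} R} (f : M ⟶ N) [Epi f] (hM : tors I M = ⊤) :
    Epi ((Γ I).map f) := by
  rw [ModuleCat.epi_iff_surjective]
  intro y
  obtain ⟨x, hx⟩ := (ModuleCat.epi_iff_surjective f).1 inferInstance y.1
  exact ⟨⟨x, hM ▸ Submodule.mem_top⟩, Subtype.ext hx⟩

omit [IsNoetherianRing R] in
lemma lc_zero_map_epi_of_torsion {M N : ModuleCat.{u} R} (f : M ⟶ N) [Epi f]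
    (hM : tors I M = ⊤) : Epi ((localCohomology I 0).map f) := by
  have h := (H0Iso I).hom.naturality f
  have : (localCohomology I 0).map f =
      (H0Iso I).hom.app M ≫ (Γ I).map f ≫ (H0Iso I).inv.app N := by
    rw [← assoc, ← h, assoc, Iso.hom_inv_id_app, comp_id]
  rw [this]
  have m1 : Epi ((Γ I).map f) := Γ_map_epi_of_torsion I f hM
  have m2 : Epi ((H0Iso I).inv.app N) := IsIso.epi_of_iso _
  have m3 : Epi ((H0Iso I).hom.app M) := IsIso.epi_of_iso _
  have m4 : Epi ((Γ I).map f ≫ (H0Iso I).inv.app N) := epi_comp _ _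
  exact epi_comp _ _

omit [IsNoetherianRing R] in
lemma isZero_of_epi_eq_zero {C : Type*} [Category C] [HasZeroMorphisms C] {X Y : C} (f : X ⟶ Y)
    [Epi f] (hf : f = 0) : IsZero Y := by
  rw [IsZero.iff_id_eq_zero, ← cancel_epi f, hf, zero_comp, zero_comp]

/-- A torsion module embeds in a torsion injective module with torsion cokernel. -/
lemma exists_torsion_ses (N : ModuleCat.{u} R) (hN : tors I N = ⊤) :
    ∃ (E' Q : ModuleCat.{u} R) (j : N ⟶ E') (π : E' ⟶ Q) (w : j ≫ π = 0)
      (_ : (ShortComplex.mk j π w).ShortExact), Injective E' ∧ tors I E' = ⊤ ∧ tors I Q = ⊤ := by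
  let E := Injective.under N
  let ι : N ⟶ E := Injective.ι N
  have hι : Function.Injective ι.hom := (ModuleCat.mono_iff_injective ι).1 inferInstance
  let j : N ⟶ (Γ I).obj E := ModuleCat.ofHom
    (LinearMap.codRestrict (tors I E) ι.hom
      (fun x => map_mem_tors I ι.hom (hN ▸ Submodule.mem_top)))
  have hj : Mono j := by
    rw [ModuleCat.mono_iff_injective]
    intro x y h
    exact hι (congr_arg Subtype.val h)
  have hE' : tors I ((Γ I).obj E) = ⊤ := tors_tors_eq_top I E
  refine ⟨(Γ I).obj E, cokernel j, j, cokernel.π j, cokernel.condition j, ?_, inferInstance, hE', ?_⟩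
  · exact { exact := ShortComplex.exact_of_g_is_cokernel _ (cokernelIsCokernel _)
            mono_f := hj
            epi_g := by dsimp; infer_instance }
  · exact tors_eq_top_of_surjective I (cokernel.π j).hom
      ((ModuleCat.epi_iff_surjective _).1 inferInstance) hE'

/-- Over a Noetherian ring, `I`-power torsion modules have no higher local cohomology. -/
theorem lc_isZero_of_torsion (i : ℕ) : ∀ (N : ModuleCat.{u} R), tors I N = ⊤ →
    IsZero ((localCohomology I (i + 1)).obj N) := by
  induction i with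
  | zero =>
    intro N hN
    obtain ⟨E', Q, j, π, w, hS, hinj, hE', hQ⟩ := exists_torsion_ses I N hN
    have hepi : Epi (lcδ I hS 0) :=
      ((lc_exact₁ I hS 0).epi_f_iff).2 ((lc_isZero_of_injective I E' 0).eq_of_tgt _ _)
    have hπ : Epi π := hS.epi_g
    have h0 : Epi ((localCohomology I 0).map π) := lc_zero_map_epi_of_torsion I π hE'
    have hz : lcδ I hS 0 = 0 := by
      rw [← cancel_epi ((localCohomology I 0).map π), comp_zero]
      exact lc_map_comp_lcδ I hS 0
    exact isZero_of_epi_eq_zero (lcδ I hS 0) hz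
  | succ i ih =>
    intro N hN
    obtain ⟨E', Q, j, π, w, hS, hinj, hE', hQ⟩ := exists_torsion_ses I N hN
    have hepi : Epi (lcδ I hS (i + 1)) :=
      ((lc_exact₁ I hS (i + 1)).epi_f_iff).2 ((lc_isZero_of_injective I E' (i + 1)).eq_of_tgt _ _)
    exact isZero_of_epi_eq_zero (lcδ I hS (i + 1)) ((ih Q hQ).eq_of_src _ _)

end Groth.Agent.H8.LC
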