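import Mathlib
import Groth.Agent.Lib.Helper8.LC.Delta

/-! # Spliced resolutions and dimension shifting for δ-functors -/

set_option autoImplicit false
set_option linter.unusedSectionVars false
set_option linter.unusedVariables false

open CategoryTheory Limits Category

universe v u v' u'

namespace Groth.Agent.H8.LC

variable {C : Type u} [Category.{v} C] [Abelian C] {D : Type u'} [Category.{v'} D] [Abelian D]

/-- A resolution presented as spliced short exact sequences `0 ⟶ Z n ⟶ E n ⟶ Z (n+1) ⟶ 0`. -/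
structure Splice (C : Type u) [Category.{v} C] [Abelian C] where
  Z : ℕ → C
  E : ℕ → C
  i : ∀ n, Z n ⟶ E n
  p : ∀ n, E n ⟶ Z (n + 1)
  zero : ∀ n, i n ≫ p n = 0
  ses : ∀ n, (ShortComplex.mk (i n) (p n) (zero n)).ShortExact

namespace Splice

variable (s : Splice C)

/-- The shifted splice. -/
abbrev tail : Splice C where
  Z n := s.Z (n + 1)
  E n := s.E (n + 1)
  i n := s.i (n + 1)
  p n := s.p (n + 1)
  zero n := s.zero (n + 1)
  ses n := s.ses (n + 1)

/-- The differential `E n ⟶ E (n+1)`. -/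
def d (n : ℕ) : s.E n ⟶ s.E (n + 1) := s.p n ≫ s.i (n + 1)

@[reassoc (attr := simp)]
lemma d_comp_d (n : ℕ) : s.d n ≫ s.d (n + 1) = 0 := by
  simp only [d, assoc, reassoc_of% (s.zero (n + 1)), zero_comp, comp_zero]

@[reassoc (attr := simp)]
lemma i_comp_d (n : ℕ) : s.i n ≫ s.d n = 0 := by
  simp only [d, reassoc_of% (s.zero n), zero_comp]

instance (n : ℕ) : Mono (s.i n) := (s.ses n).mono_f
instance (n : ℕ) : Epi (s.p n) := (s.ses n).epi_g

/-- The associated cochain complex. -/
noncomputable def complex : CochainComplex C ℕ := CochainComplex.of s.E s.d s.d_comp_d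

section ofInj

variable [EnoughInjectives C]

/-- The cycle objects of the standard injective splice. -/
noncomputable def ofInjZ (M : C) : ℕ → C
  | 0 => M
  | n + 1 => cokernel (Injective.ι (ofInjZ M n))

/-- The standard injective splice of `M`. -/
noncomputable def ofInj (M : C) : Splice C where
  Z := ofInjZ M
  E n := Injective.under (ofInjZ M n)
  i n := Injective.ι _
  p n := cokernel.π _
  zero n := cokernel.condition _
  ses n := DeltaFunctor.sesUnder_shortExact _

lemma ofInj_Z_zero (M : C) : (ofInj M).Z 0 = M := rfl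

instance (M : C) (n : ℕ) : Injective ((ofInj M).E n) := by
  dsimp [ofInj]; infer_instance

end ofInj

end Splice

namespace DeltaFunctor

variable (X Y : DeltaFunctor C D) (s : Splice C)

/-- The splice consists of `X`-acyclic objects. -/
def Acyclic : Prop := ∀ n k, IsZero ((X.F (k + 1)).obj (s.E n))

variable {X s}

lemma Acyclic.tail (h : X.Acyclic s) : X.Acyclic s.tail := fun n k => h (n + 1) k

lemma Effaceable.acyclic_ofInj [EnoughInjectives C] (hX : X.Effaceable) (M : C) :
    X.Acyclic (Splice.ofInj M) := fun n k => hX _ k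

lemma Acyclic.epi_δ_zero (h : X.Acyclic s) (n : ℕ) : Epi (X.δ (s.ses n) 0) :=
  ((X.exact₁ (s.ses n) 0).epi_f_iff).2 ((h n 0).eq_of_tgt _ _)

lemma Acyclic.isIso_δ (h : X.Acyclic s) (n k : ℕ) : IsIso (X.δ (s.ses n) (k + 1)) := by
  have h1 : Mono (X.δ (s.ses n) (k + 1)) :=
    ((X.exact₃ (s.ses n) (k + 1)).mono_g_iff).2 ((h n k).eq_of_src _ _)
  have h2 : Epi (X.δ (s.ses n) (k + 1)) :=
    ((X.exact₁ (s.ses n) (k + 1)).epi_f_iff).2 ((h n (k + 1)).eq_of_tgt _ _)
  exact isIso_of_mono_of_epi _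

/-- Dimension shifting isomorphism. -/
noncomputable def shiftIso (h : X.Acyclic s) (n k : ℕ) :
    (X.F (k + 1)).obj (s.Z (n + 1)) ≅ (X.F (k + 2)).obj (s.Z n) :=
  have := h.isIso_δ n k
  asIso (X.δ (s.ses n) (k + 1))

@[simp] lemma shiftIso_hom (h : X.Acyclic s) (n k : ℕ) :
    (shiftIso h n k).hom = X.δ (s.ses n) (k + 1) := rfl

/-- Iterated dimension shifting. -/
noncomputable def iter : ∀ (n : ℕ) (s : Splice C), X.Acyclic s →
    ((X.F 1).obj (s.Z n) ≅ (X.F (n + 1)).obj (s.Z 0))
  | 0, _, _ => Iso.refl _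
  | n + 1, s, h => iter n s.tail h.tail ≪≫ shiftIso h 0 n

variable {Y}

lemma iter_naturality {θ : ∀ n, X.F n ⟶ Y.F n} (hθ : IsHom X Y θ) :
    ∀ (n : ℕ) (s : Splice C) (hX : X.Acyclic s) (hY : Y.Acyclic s),
      (iter n s hX).hom ≫ (θ (n + 1)).app (s.Z 0) = (θ 1).app (s.Z n) ≫ (iter n s hY).hom
  | 0, s, hX, hY => by simp [iter]
  | n + 1, s, hX, hY => by
    have ih := iter_naturality hθ n s.tail hX.tail hY.tail
    have h1 := hθ (s.ses 0) (n + 1)
    have e1 : (iter (n + 1) s hX).hom = (iter n s.tail hX.tail).hom ≫ X.δ (s.ses 0) (n + 1) := rfl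
    have e2 : (iter (n + 1) s hY).hom = (iter n s.tail hY.tail).hom ≫ Y.δ (s.ses 0) (n + 1) := rfl
    rw [e1, e2, assoc, h1, reassoc_of% ih]

end DeltaFunctor

end Groth.Agent.H8.LC

namespace Groth.Agent.H8.LC

variable {C : Type u} [Category.{v} C] [Abelian C] {D : Type u'} [Category.{v'} D] [Abelian D]

namespace DeltaFunctor

variable (X : DeltaFunctor C D) [(X.F 0).PreservesZeroMorphisms] (s : Splice C)

/-- `X⁰` applied to the complex of the splice. -/
noncomputable abbrev cx : CochainComplex D ℕ :=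
  ((X.F 0).mapHomologicalComplex _).obj s.complex

lemma complex_d (n : ℕ) : s.complex.d n (n + 1) = s.d n := by
  simp [Splice.complex, CochainComplex.of_d]

lemma cx_d (n : ℕ) : (X.cx s).d n (n + 1) = (X.F 0).map (s.d n) := by
  show (X.F 0).map (s.complex.d n (n + 1)) = _
  rw [complex_d]
  rfl

lemma map_i_comp_map_d (n : ℕ) : (X.F 0).map (s.i n) ≫ (X.F 0).map (s.d n) = 0 := by
  rw [← Functor.map_comp, Splice.i_comp_d, Functor.map_zero]

variable {X s}

/-- `X⁰(Z (n+1))` is the kernel of `X⁰(d (n+1))`. -/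
noncomputable def isKernelMapI (n : ℕ) :
    IsLimit (KernelFork.ofι ((X.F 0).map (s.i n)) (X.map_i_comp_map_d s n)) := by
  have hm : Mono ((X.F 0).map (s.i n)) := X.mono₀ (s.ses n)
  have hm' : Mono ((X.F 0).map (s.i (n + 1))) := X.mono₀ (s.ses (n + 1))
  have hK := (X.exact₂ (s.ses n) 0).fIsKernel
  exact isKernelCompMono hK ((X.F 0).map (s.i (n + 1))) (by
    dsimp [Splice.d]
    rw [Functor.map_comp])

variable (X s)

/-- The explicit short complex `X⁰(E n) ⟶ X⁰(E (n+1)) ⟶ X⁰(E (n+2))`. -/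
noncomputable def sc (n : ℕ) : ShortComplex D :=
  ShortComplex.mk ((X.F 0).map (s.d n)) ((X.F 0).map (s.d (n + 1))) (by
    rw [← Functor.map_comp, Splice.d_comp_d, Functor.map_zero])

/-- Comparison with the short complex of the homological complex. -/
noncomputable def scIso (n : ℕ) : (X.cx s).sc' n (n + 1) (n + 2) ≅ X.sc s n :=
  ShortComplex.isoMk (Iso.refl _) (Iso.refl _) (Iso.refl _)
    ((id_comp _).trans ((X.cx_d s n).symm.trans (comp_id _).symm))
    ((id_comp _).trans ((X.cx_d s (n + 1)).symm.trans (comp_id _).symm))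

variable {X s}

lemma lift_eq_map_p (n : ℕ) :
    (isKernelMapI (X := X) (s := s) (n + 1)).lift (KernelFork.ofι (X.sc s n).f (X.sc s n).zero) =
      (X.F 0).map (s.p n) := by
  apply Fork.IsLimit.hom_ext (isKernelMapI (X := X) (s := s) (n + 1))
  rw [Fork.IsLimit.lift_ι]
  dsimp [sc, Splice.d]
  rw [Functor.map_comp]

/-- The left homology data computing `H^{n+1}(X⁰(E•))` as `X¹(Z n)`. -/
@[reducible] noncomputable def lhd (h : X.Acyclic s) (n : ℕ) : (X.sc s n).LeftHomologyData where
  K := (X.F 0).obj (s.Z (n + 1))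
  H := (X.F 1).obj (s.Z n)
  i := (X.F 0).map (s.i (n + 1))
  π := X.δ (s.ses n) 0
  wi := X.map_i_comp_map_d s (n + 1)
  hi := isKernelMapI (n + 1)
  wπ := (congr_arg (· ≫ X.δ (s.ses n) 0) (lift_eq_map_p (X := X) (s := s) n)).trans
    (X.map_comp_δ (s.ses n) 0)
  hπ := by
    have hepi : Epi (X.δ (s.ses n) 0) := h.epi_δ_zero n
    have hC := (X.exact₃ (s.ses n) 0).gIsCokernel
    refine CokernelCofork.IsColimit.ofπ _ _
      (fun g' hg' => hC.desc (CokernelCofork.ofπ g'
        ((congr_arg (· ≫ g') (lift_eq_map_p (X := X) (s := s) n)).symm.trans hg')))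
      (fun g' hg' => hC.fac _ WalkingParallelPair.one)
      (fun g' hg' m hm => ?_)
    apply Cofork.IsColimit.hom_ext hC
    rw [Cofork.IsColimit.π_desc hC]
    exact hm

/-- The isomorphism `H^{n+1}(X⁰(E•)) ≅ X^{n+1}(Z 0)`. -/
noncomputable def homologyIsoSucc (h : X.Acyclic s) (n : ℕ) :
    (X.cx s).homology (n + 1) ≅ (X.F (n + 1)).obj (s.Z 0) :=
  (HomologicalComplex.homologyFunctorIso' D (ComplexShape.up ℕ) n (n + 1) (n + 2)
      (by simp) (by simp)).app (X.cx s) ≪≫
    ShortComplex.homologyMapIso (X.scIso s n) ≪≫ (lhd h n).homologyIso ≪≫ iter n s h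

lemma homologyIsoSucc_hom (h : X.Acyclic s) (n : ℕ) :
    (homologyIsoSucc h n).hom =
      ((HomologicalComplex.homologyFunctorIso' D (ComplexShape.up ℕ) n (n + 1) (n + 2)
        (by simp) (by simp)).hom.app (X.cx s) : (X.cx s).homology (n + 1) ⟶ _) ≫
      ((ShortComplex.homologyMap (X.scIso s n).hom ≫ (lhd h n).homologyIso.hom ≫
        (iter n s h).hom : ((X.cx s).sc' n (n + 1) (n + 2)).homology ⟶ _)) := rfl

section Naturality

variable {Y : DeltaFunctor C D} [(Y.F 0).PreservesZeroMorphisms] (θ : ∀ n, X.F n ⟶ Y.F n)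

/-- The morphism of complexes induced by `θ 0`. -/
noncomputable def cxMap (s : Splice C) : X.cx s ⟶ Y.cx s :=
  (NatTrans.mapHomologicalComplex (θ 0) _).app s.complex

/-- The morphism of explicit short complexes induced by `θ 0`. -/
noncomputable def scMap (s : Splice C) (n : ℕ) : X.sc s n ⟶ Y.sc s n where
  τ₁ := (θ 0).app (s.E n)
  τ₂ := (θ 0).app (s.E (n + 1))
  τ₃ := (θ 0).app (s.E (n + 2))
  comm₁₂ := ((θ 0).naturality (s.d n)).symm
  comm₂₃ := ((θ 0).naturality (s.d (n + 1))).symm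

lemma scMap_comm (s : Splice C) (n : ℕ) :
    (HomologicalComplex.shortComplexFunctor' D (ComplexShape.up ℕ) n (n + 1) (n + 2)).map
      (cxMap θ s) ≫ (Y.scIso s n).hom = (X.scIso s n).hom ≫ scMap θ s n := by
  ext
  · exact (comp_id _).trans (id_comp _).symm
  · exact (comp_id _).trans (id_comp _).symm
  · exact (comp_id _).trans (id_comp _).symm

variable {θ}

/-- The left homology map data. -/
noncomputable def lhmd (hθ : IsHom X Y θ) (hX : X.Acyclic s) (hY : Y.Acyclic s) (n : ℕ) :
    ShortComplex.LeftHomologyMapData (scMap θ s n) (lhd hX n) (lhd hY n) where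
  φK := (θ 0).app (s.Z (n + 1))
  φH := (θ 1).app (s.Z n)
  commi := ((θ 0).naturality (s.i (n + 1))).symm
  commf' :=
    (congr_arg (· ≫ (θ 0).app (s.Z (n + 1))) (lift_eq_map_p (X := X) (s := s) n)).trans
      (((θ 0).naturality (s.p n)).trans
        (congr_arg ((θ 0).app (s.E n) ≫ ·) (lift_eq_map_p (X := Y) (s := s) n).symm))
  commπ := hθ (s.ses n) 0

lemma homologyIsoSucc_naturality (hθ : IsHom X Y θ) (hX : X.Acyclic s) (hY : Y.Acyclic s) (n : ℕ) :
    HomologicalComplex.homologyMap (cxMap θ s) (n + 1) ≫ (homologyIsoSucc hY n).hom =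
      (homologyIsoSucc hX n).hom ≫ (θ (n + 1)).app (s.Z 0) := by
  have e1 := (HomologicalComplex.homologyFunctorIso' D (ComplexShape.up ℕ) n (n + 1) (n + 2)
      (by simp) (by simp)).hom.naturality (cxMap θ s)
  have e2 : ShortComplex.homologyMap
      ((HomologicalComplex.shortComplexFunctor' D (ComplexShape.up ℕ) n (n + 1) (n + 2)).map
        (cxMap θ s)) ≫ (ShortComplex.homologyMapIso (Y.scIso s n)).hom =
      (ShortComplex.homologyMapIso (X.scIso s n)).hom ≫ ShortComplex.homologyMap (scMap θ s n) := by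
    dsimp [ShortComplex.homologyMapIso]
    rw [← ShortComplex.homologyMap_comp, ← ShortComplex.homologyMap_comp, scMap_comm]
  have e3 : ShortComplex.homologyMap (scMap θ s n) ≫ (lhd hY n).homologyIso.hom =
      (lhd hX n).homologyIso.hom ≫ (θ 1).app (s.Z n) := (lhmd hθ hX hY n).homologyMap_comm
  have e4 := iter_naturality hθ n s hX hY
  have e2' : ShortComplex.homologyMap
      ((HomologicalComplex.shortComplexFunctor' D (ComplexShape.up ℕ) n (n + 1) (n + 2)).map
        (cxMap θ s)) ≫ ShortComplex.homologyMap (Y.scIso s n).hom =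
      ShortComplex.homologyMap (X.scIso s n).hom ≫ ShortComplex.homologyMap (scMap θ s n) := e2
  rw [homologyIsoSucc_hom, homologyIsoSucc_hom]
  refine (assoc _ _ _).symm.trans ?_
  refine (congr_arg (· ≫ _) e1).trans ?_
  refine (assoc _ _ _).trans ?_
  refine Eq.trans ?_ (assoc _ _ _).symm
  refine congr_arg (_ ≫ ·) ?_
  show ShortComplex.homologyMap
      ((HomologicalComplex.shortComplexFunctor' D (ComplexShape.up ℕ) n (n + 1) (n + 2)).map
        (cxMap θ s)) ≫ ShortComplex.homologyMap (Y.scIso s n).hom ≫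
        (lhd hY n).homologyIso.hom ≫ (iter n s hY).hom =
    (ShortComplex.homologyMap (X.scIso s n).hom ≫ (lhd hX n).homologyIso.hom ≫
      (iter n s hX).hom) ≫ (θ (n + 1)).app (s.Z 0)
  rw [reassoc_of% e2', reassoc_of% e3, assoc, assoc, e4]

end Naturality

section DegreeZero

variable (X s)

/-- The explicit short complex in degree `0`. -/
noncomputable def sc0 : ShortComplex D :=
  ShortComplex.mk (0 : (X.F 0).obj (s.E 0) ⟶ (X.F 0).obj (s.E 0)) ((X.F 0).map (s.d 0)) zero_comp

/-- Comparison with the short complex of the homological complex. -/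
noncomputable def sc0Iso : (X.cx s).sc' 0 0 1 ≅ X.sc0 s :=
  ShortComplex.isoMk (Iso.refl _) (Iso.refl _) (Iso.refl _)
    ((id_comp _).trans (((X.cx s).shape 0 0 (by simp)).symm.trans (comp_id _).symm))
    ((id_comp _).trans ((X.cx_d s 0).symm.trans (comp_id _).symm))

variable {X s}

/-- The left homology data in degree `0`. -/
@[reducible] noncomputable def lhd0 : (X.sc0 s).LeftHomologyData :=
  ShortComplex.LeftHomologyData.ofIsLimitKernelFork (X.sc0 s) rfl
    (KernelFork.ofι ((X.F 0).map (s.i 0)) (X.map_i_comp_map_d s 0)) (isKernelMapI 0)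

variable (X s)

/-- The isomorphism `H⁰(X⁰(E•)) ≅ X⁰(Z 0)`. -/
noncomputable def homologyIsoZero : (X.cx s).homology 0 ≅ (X.F 0).obj (s.Z 0) :=
  (HomologicalComplex.homologyFunctorIso' D (ComplexShape.up ℕ) 0 0 1
      (by simp) (by simp)).app (X.cx s) ≪≫
    ShortComplex.homologyMapIso (X.sc0Iso s) ≪≫ (lhd0 (X := X) (s := s)).homologyIso

lemma homologyIsoZero_hom :
    (X.homologyIsoZero s).hom =
      ((HomologicalComplex.homologyFunctorIso' D (ComplexShape.up ℕ) 0 0 1
        (by simp) (by simp)).hom.app (X.cx s) : (X.cx s).homology 0 ⟶ _) ≫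
      ((ShortComplex.homologyMap (X.sc0Iso s).hom ≫ (lhd0 (X := X) (s := s)).homologyIso.hom :
        ((X.cx s).sc' 0 0 1).homology ⟶ _)) := rfl

variable {X} {Y : DeltaFunctor C D} [(Y.F 0).PreservesZeroMorphisms] (θ : ∀ n, X.F n ⟶ Y.F n)

/-- The morphism of explicit short complexes induced by `θ 0` in degree `0`. -/
noncomputable def sc0Map : X.sc0 s ⟶ Y.sc0 s where
  τ₁ := (θ 0).app (s.E 0)
  τ₂ := (θ 0).app (s.E 0)
  τ₃ := (θ 0).app (s.E 1)
  comm₁₂ := comp_zero.trans zero_comp.symm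
  comm₂₃ := ((θ 0).naturality (s.d 0)).symm

lemma sc0Map_comm :
    (HomologicalComplex.shortComplexFunctor' D (ComplexShape.up ℕ) 0 0 1).map
      (cxMap θ s) ≫ (Y.sc0Iso s).hom = (X.sc0Iso s).hom ≫ sc0Map s θ := by
  ext
  · exact (comp_id _).trans (id_comp _).symm
  · exact (comp_id _).trans (id_comp _).symm
  · exact (comp_id _).trans (id_comp _).symm

lemma homologyIsoZero_naturality :
    HomologicalComplex.homologyMap (cxMap θ s) 0 ≫ (Y.homologyIsoZero s).hom =
      (X.homologyIsoZero s).hom ≫ (θ 0).app (s.Z 0) := by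
  have e1 := (HomologicalComplex.homologyFunctorIso' D (ComplexShape.up ℕ) 0 0 1
      (by simp) (by simp)).hom.naturality (cxMap θ s)
  have e2 : ShortComplex.homologyMap
      ((HomologicalComplex.shortComplexFunctor' D (ComplexShape.up ℕ) 0 0 1).map
        (cxMap θ s)) ≫ ShortComplex.homologyMap (Y.sc0Iso s).hom =
      ShortComplex.homologyMap (X.sc0Iso s).hom ≫ ShortComplex.homologyMap (sc0Map s θ) := by
    rw [← ShortComplex.homologyMap_comp, ← ShortComplex.homologyMap_comp, sc0Map_comm]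
  have e3 : ShortComplex.homologyMap (sc0Map s θ) ≫ (lhd0 (X := Y) (s := s)).homologyIso.hom =
      (lhd0 (X := X) (s := s)).homologyIso.hom ≫ (θ 0).app (s.Z 0) :=
    (ShortComplex.LeftHomologyMapData.ofIsLimitKernelFork (sc0Map s θ) rfl _ (isKernelMapI 0)
      rfl _ (isKernelMapI 0) ((θ 0).app (s.Z 0))
      ((θ 0).naturality (s.i 0))).homologyMap_comm
  rw [homologyIsoZero_hom, homologyIsoZero_hom]
  refine (assoc _ _ _).symm.trans ?_
  refine (congr_arg (· ≫ _) e1).trans ?_
  refine (assoc _ _ _).trans ?_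
  refine Eq.trans ?_ (assoc _ _ _).symm
  refine congr_arg (_ ≫ ·) ?_
  show ShortComplex.homologyMap
      ((HomologicalComplex.shortComplexFunctor' D (ComplexShape.up ℕ) 0 0 1).map
        (cxMap θ s)) ≫ ShortComplex.homologyMap (Y.sc0Iso s).hom ≫
        (lhd0 (X := Y) (s := s)).homologyIso.hom =
    (ShortComplex.homologyMap (X.sc0Iso s).hom ≫ (lhd0 (X := X) (s := s)).homologyIso.hom) ≫
      (θ 0).app (s.Z 0)
  rw [reassoc_of% e2, e3]
  exact (assoc _ _ _).symm

end DegreeZero

end DeltaFunctor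

end Groth.Agent.H8.LC
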