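import Mathlib
import Groth.Agent.Lib.Helper8.LC.Splice

/-! # Long exact sequence from three effaceable δ-functors -/

set_option autoImplicit false
set_option linter.unusedSectionVars false
set_option linter.unusedVariables false

open CategoryTheory Limits Category

universe v u v' u'

namespace Groth.Agent.H8.LC

variable {C : Type u} [Category.{v} C] [Abelian C] {D : Type u'} [Category.{v'} D] [Abelian D]

namespace DeltaFunctor

section Uniform

variable {X : DeltaFunctor C D} [(X.F 0).PreservesZeroMorphisms] {s : Splice C}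

/-- The isomorphism `Hⁿ(X⁰(E•)) ≅ Xⁿ(Z 0)`. -/
noncomputable def homologyIso (h : X.Acyclic s) : ∀ n : ℕ,
    (X.cx s).homology n ≅ (X.F n).obj (s.Z 0)
  | 0 => X.homologyIsoZero s
  | n + 1 => homologyIsoSucc h n

variable {Y : DeltaFunctor C D} [(Y.F 0).PreservesZeroMorphisms] {θ : ∀ n, X.F n ⟶ Y.F n}

lemma homologyIso_naturality (hθ : IsHom X Y θ) (hX : X.Acyclic s) (hY : Y.Acyclic s) :
    ∀ n : ℕ, HomologicalComplex.homologyMap (cxMap θ s) n ≫ (homologyIso hY n).hom =
      (homologyIso hX n).hom ≫ (θ n).app (s.Z 0)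
  | 0 => homologyIsoZero_naturality s θ
  | n + 1 => homologyIsoSucc_naturality hθ hX hY n

end Uniform

section Three

variable {U T W : DeltaFunctor C D} [(U.F 0).PreservesZeroMorphisms]
  [(T.F 0).PreservesZeroMorphisms] [(W.F 0).PreservesZeroMorphisms]
  {α : ∀ n, U.F n ⟶ T.F n} {β : ∀ n, T.F n ⟶ W.F n}
  (s : Splice C)

/-- The short complex of cochain complexes. -/
@[reducible] noncomputable def cxSC (hzero : ∀ n, (α 0).app (s.E n) ≫ (β 0).app (s.E n) = 0) :
    ShortComplex (CochainComplex D ℕ) :=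
  ShortComplex.mk (cxMap α s) (cxMap β s) (by
    ext n
    exact hzero n)

variable {s}

lemma cxSC_shortExact (hzero : ∀ n, (α 0).app (s.E n) ≫ (β 0).app (s.E n) = 0)
    (hses : ∀ n, (ShortComplex.mk _ _ (hzero n)).ShortExact) :
    (cxSC s hzero).ShortExact :=
  HomologicalComplex.shortExact_of_degreewise_shortExact _ (fun n => hses n)

lemma upRel (n : ℕ) : (ComplexShape.up ℕ).Rel n (n + 1) := rfl

variable (hα : IsHom U T α) (hβ : IsHom T W β)
  (hU : U.Acyclic s) (hT : T.Acyclic s) (hW : W.Acyclic s)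
  (hzero : ∀ n, (α 0).app (s.E n) ≫ (β 0).app (s.E n) = 0)
  (hses : ∀ n, (ShortComplex.mk _ _ (hzero n)).ShortExact)

/-- The connecting morphism `Wⁿ(M) ⟶ U^{n+1}(M)`. -/
noncomputable def conn (n : ℕ) : (W.F n).obj (s.Z 0) ⟶ (U.F (n + 1)).obj (s.Z 0) :=
  (homologyIso hW n).inv ≫ (cxSC_shortExact hzero hses).δ n (n + 1) (upRel n) ≫
    (homologyIso hU (n + 1)).hom

include hα hβ hU hT hW hzero in
lemma three_zero (n : ℕ) : (α n).app (s.Z 0) ≫ (β n).app (s.Z 0) = 0 := by
  have h1 := homologyIso_naturality hα hU hT n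
  have h2 := homologyIso_naturality hβ hT hW n
  have h3 : HomologicalComplex.homologyMap (cxMap α s) n ≫
      HomologicalComplex.homologyMap (cxMap β s) n = 0 := by
    rw [← HomologicalComplex.homologyMap_comp]
    have : cxMap α s ≫ cxMap β s = 0 := (cxSC s hzero).zero
    rw [this, HomologicalComplex.homologyMap_zero]
  rw [← cancel_epi (homologyIso hU n).hom, ← reassoc_of% h1, ← h2, reassoc_of% h3, zero_comp,
    comp_zero]

include hses in
lemma three_exact₂ (n : ℕ) :
    (ShortComplex.mk _ _ (three_zero hα hβ hU hT hW hzero n)).Exact := by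
  refine ShortComplex.exact_of_iso ?_ ((cxSC_shortExact hzero hses).homology_exact₂ n)
  exact ShortComplex.isoMk (homologyIso hU n) (homologyIso hT n) (homologyIso hW n)
    (homologyIso_naturality hα hU hT n).symm (homologyIso_naturality hβ hT hW n).symm

include hβ hT in
lemma three_comp_conn (n : ℕ) :
    (β n).app (s.Z 0) ≫ conn hU hW hzero hses n = 0 := by
  have h2 := homologyIso_naturality hβ hT hW n
  rw [← cancel_epi (homologyIso hT n).hom, ← reassoc_of% h2, conn, Iso.hom_inv_id_assoc,
    comp_zero]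
  have := (cxSC_shortExact hzero hses).comp_δ n (n + 1) (upRel n)
  exact (assoc _ _ _).symm.trans ((congr_arg (· ≫ _) this).trans zero_comp)

lemma three_exact₃ (n : ℕ) :
    (ShortComplex.mk _ _ (three_comp_conn hβ hU hT hW hzero hses n)).Exact := by
  refine ShortComplex.exact_of_iso ?_
    ((cxSC_shortExact hzero hses).homology_exact₃ n (n + 1) (upRel n))
  refine ShortComplex.isoMk (homologyIso hT n) (homologyIso hW n) (homologyIso hU (n + 1))
    (homologyIso_naturality hβ hT hW n).symm ?_
  dsimp [conn]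
  exact (Iso.hom_inv_id_assoc _ _)

include hα hT in
lemma three_conn_comp (n : ℕ) :
    conn hU hW hzero hses n ≫ (α (n + 1)).app (s.Z 0) = 0 := by
  have h1 := homologyIso_naturality hα hU hT (n + 1)
  have := (cxSC_shortExact hzero hses).δ_comp n (n + 1) (upRel n)
  simp only [conn, assoc]
  rw [← h1]
  exact (congr_arg (_ ≫ ·) ((assoc _ _ _).symm.trans
    ((congr_arg (· ≫ _) this).trans zero_comp))).trans comp_zero

lemma three_exact₁ (n : ℕ) :
    (ShortComplex.mk _ _ (three_conn_comp hα hU hT hW hzero hses n)).Exact := by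
  refine ShortComplex.exact_of_iso ?_
    ((cxSC_shortExact hzero hses).homology_exact₁ n (n + 1) (upRel n))
  refine ShortComplex.isoMk (homologyIso hW n) (homologyIso hU (n + 1)) (homologyIso hT (n + 1))
    ?_ (homologyIso_naturality hα hU hT (n + 1)).symm
  dsimp [conn]
  exact (Iso.hom_inv_id_assoc _ _)

end Three

end DeltaFunctor

end Groth.Agent.H8.LC
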