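import Mathlib
import Groth.Agent.Lib.Helper8.LC.Noeth
import Groth.Agent.Lib.Helper8.LC.LCLinear
import Groth.Agent.Lib.Helper8.LC.Three
import Groth.Agent.Lib.Helper8.LC.LocFunctor

/-! # The exact sequence `H^i_{a+Rb}(M) → H^i_a(M) → H^i_a(M)_b → H^{i+1}_{a+Rb}(M)` -/

set_option autoImplicit false
set_option linter.unusedSectionVars false
set_option linter.unusedVariables false

open CategoryTheory Limits Category

universe u

namespace Groth.Agent.H8.LC

variable {R : Type u} [CommRing R]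

instance lc_preservesZero (I : Ideal R) (i : ℕ) :
    (localCohomology I i).PreservesZeroMorphisms where
  map_zero M N := by
    have := lc_map_smul I (0 : M ⟶ N) (0 : R) i
    rwa [zero_smul, zero_smul] at this

/-! ## Element-level lemmas -/

lemma exists_pow_smul_eq (A : Type u) [CommRing A] [IsNoetherianRing A] (N : Type u)
    [AddCommGroup N] [Module A N] [Module.Injective A N] (b : A) (x : N) (n : ℕ) :
    ∃ (y : N) (m : ℕ), b ^ (n + m) • y = b ^ m • x := by
  let J : ℕ →o Submodule A A :=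
    ⟨fun k => LinearMap.ker (LinearMap.toSpanSingleton A A (b ^ k)), by
      intro k k' hk r hr
      simp only [LinearMap.mem_ker, LinearMap.toSpanSingleton_apply, smul_eq_mul] at hr ⊢
      obtain ⟨d, rfl⟩ := Nat.exists_eq_add_of_le hk
      rw [pow_add, ← mul_assoc, hr, zero_mul]⟩
  obtain ⟨k, hk⟩ := monotone_stabilizes_iff_noetherian.2 (inferInstance : IsNoetherian A A) J
  let μ : A →ₗ[A] A := LinearMap.toSpanSingleton A A (b ^ (n + k))
  let g : A →ₗ[A] N := LinearMap.toSpanSingleton A N (b ^ k • x)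
  have hle : LinearMap.ker μ ≤ LinearMap.ker g := by
    intro r hr
    have hr' : r ∈ J (n + k) := hr
    rw [← hk (n + k) (Nat.le_add_left k n)] at hr'
    have hr'' : r * b ^ k = 0 := by
      have : (LinearMap.toSpanSingleton A A (b ^ k)) r = 0 := hr'
      simpa [LinearMap.toSpanSingleton_apply] using this
    simp only [g, LinearMap.mem_ker, LinearMap.toSpanSingleton_apply]
    rw [smul_smul, hr'', zero_smul]
  let μ' : (A ⧸ LinearMap.ker μ) →ₗ[A] A := (LinearMap.ker μ).liftQ μ le_rfl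
  have hμ' : Function.Injective μ' := by
    rw [← LinearMap.ker_eq_bot]
    exact Submodule.ker_liftQ_eq_bot _ _ _ le_rfl
  let g' : (A ⧸ LinearMap.ker μ) →ₗ[A] N := (LinearMap.ker μ).liftQ g hle
  obtain ⟨h, hh⟩ := Module.Injective.out μ' hμ' g'
  refine ⟨h 1, k, ?_⟩
  have h1 := hh (Submodule.Quotient.mk 1)
  simp only [μ', g', Submodule.liftQ_apply, μ, g, LinearMap.toSpanSingleton_apply, one_smul] at h1
  rw [← h1, ← map_smul, smul_eq_mul, mul_one]

lemma mkLinearMap_surjective_of_injective (R' : Type u) [CommRing R']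
    [IsNoetherianRing R'] [Algebra R R'] (N : Type u) [AddCommGroup N] [Module R N]
    [Module R' N] [IsScalarTower R R' N] [Module.Injective R' N] (b : R) :
    Function.Surjective (LocalizedModule.mkLinearMap (Submonoid.powers b) N) := by
  intro z
  induction z using LocalizedModule.induction_on with
  | h x s =>
    obtain ⟨s, n, rfl⟩ := s
    obtain ⟨y, m, hy⟩ := exists_pow_smul_eq R' N (algebraMap R R' b) x n
    refine ⟨y, ?_⟩
    rw [LocalizedModule.mkLinearMap_apply, LocalizedModule.mk_eq]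
    refine ⟨⟨b ^ m, m, rfl⟩, ?_⟩
    simp only [Submonoid.smul_def, one_smul]
    rw [smul_smul, ← pow_add, add_comm m n]
    have e : ∀ (j : ℕ) (w : N), b ^ j • w = (algebraMap R R' b) ^ j • w := by
      intro j w
      rw [← map_pow, algebraMap_smul]
    rw [e, e, hy]

lemma mem_tors_sup_span_singleton (a : Ideal R) (b : R) {M : Type u} [AddCommGroup M] [Module R M]
    (x : M) : x ∈ tors (a ⊔ Ideal.span {b}) M ↔ x ∈ tors a M ∧ ∃ m : ℕ, b ^ m • x = 0 := by
  constructor
  · rintro ⟨n, hn⟩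
    refine ⟨⟨n, fun r hr => hn r (Ideal.pow_right_mono le_sup_left n hr)⟩, n, ?_⟩
    apply hn
    apply Ideal.pow_mem_pow
    exact Ideal.mem_sup_right (Ideal.subset_span rfl)
  · rintro ⟨⟨n, hn⟩, m, hm⟩
    refine ⟨n + m, fun r hr => ?_⟩
    have h1 := Ideal.sup_pow_add_le_pow_sup_pow (I := a) (J := Ideal.span {b}) (n := n) (m := m) hr
    rw [Ideal.span_singleton_pow] at h1
    obtain ⟨r1, hr1, r2, hr2, rfl⟩ := Submodule.mem_sup.1 h1
    obtain ⟨c, rfl⟩ := Ideal.mem_span_singleton'.1 hr2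
    rw [add_smul, hn r1 hr1, zero_add, mul_smul, hm, smul_zero]

lemma tors_le_of_le {a a' : Ideal R} (h : a ≤ a') (M : Type u) [AddCommGroup M] [Module R M] :
    tors a' M ≤ tors a M := by
  rintro x ⟨n, hn⟩
  exact ⟨n, fun r hr => hn r (Ideal.pow_right_mono h n hr)⟩

/-! ## Restriction maps in degree zero -/

/-- `Γ_{I'} ⟶ Γ_I` for `I ≤ I'`. -/
def Γincl {I I' : Ideal R} (h : I ≤ I') : Γ I' ⟶ Γ I where
  app M := ModuleCat.ofHom (Submodule.inclusion (tors_le_of_le h M))
  naturality _ _ _ := rfl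

lemma Γincl_app_apply {I I' : Ideal R} (h : I ≤ I') (M : ModuleCat.{u} R) (x : tors I' M) :
    (tors I M).subtype (((Γincl h).app M).hom x) = (tors I' M).subtype x := rfl

/-- `H⁰_{I'} ⟶ H⁰_I` for `I ≤ I'`. -/
noncomputable def res0 {I I' : Ideal R} (h : I ≤ I') :
    localCohomology I' 0 ⟶ localCohomology I 0 :=
  (H0Iso I').hom ≫ Γincl h ≫ (H0Iso I).inv

lemma res0_H0Iso {I I' : Ideal R} (h : I ≤ I') :
    res0 h ≫ (H0Iso I).hom = (H0Iso I').hom ≫ Γincl h := by
  simp [res0]

end Groth.Agent.H8.LC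

namespace Groth.Agent.H8.LC

variable {R : Type u} [CommRing R]

/-- The linear equivalence `H⁰_I(M) ≃ Γ_I(M)`. -/
noncomputable def h0Equiv (I : Ideal R) (M : ModuleCat.{u} R) :
    (localCohomology I 0).obj M ≃ₗ[R] tors I M :=
  ((H0Iso I).app M).toLinearEquiv

lemma h0Equiv_apply (I : Ideal R) (M : ModuleCat.{u} R) (x : (localCohomology I 0).obj M) :
    h0Equiv I M x = ((H0Iso I).hom.app M).hom x := rfl

lemma h0Equiv_res0 {I I' : Ideal R} (h : I ≤ I') (M : ModuleCat.{u} R)
    (x : (localCohomology I' 0).obj M) :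
    ((h0Equiv I M (((res0 h).app M).hom x) : tors I M) : M) = ((h0Equiv I' M x : tors I' M) : M) := by
  have := congr_arg (fun f => (f.app M).hom x) (res0_H0Iso h)
  simp only [NatTrans.comp_app, ModuleCat.hom_comp, LinearMap.comp_apply] at this
  rw [h0Equiv_apply, h0Equiv_apply, this]
  rfl

lemma h0Equiv_naturality (I : Ideal R) {M N : ModuleCat.{u} R} (f : M ⟶ N)
    (x : (localCohomology I 0).obj M) :
    ((h0Equiv I N (((localCohomology I 0).map f).hom x) : tors I N) : N) =
      f.hom ((h0Equiv I M x : tors I M) : M) := by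
  have := congr_arg (fun g => g.hom x) ((H0Iso I).hom.naturality f)
  simp only [ModuleCat.hom_comp, LinearMap.comp_apply] at this
  rw [h0Equiv_apply, h0Equiv_apply, this]
  rfl

end Groth.Agent.H8.LC

namespace Groth.Agent.H8.LC

open DeltaFunctor

variable {R : Type u} [CommRing R]

section Elements

variable (a : Ideal R) (b : R)

lemma toLoc_app_eq_zero_iff (N : ModuleCat.{u} R) (z : N) :
    ((toLoc (Submonoid.powers b)).app N).hom z = 0 ↔ ∃ m : ℕ, b ^ m • z = 0 := by
  show LocalizedModule.mkLinearMap (Submonoid.powers b) N z = 0 ↔ _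
  rw [IsLocalizedModule.eq_zero_iff (Submonoid.powers b)]
  constructor
  · rintro ⟨⟨s, m, rfl⟩, hs⟩
    exact ⟨m, hs⟩
  · rintro ⟨m, hm⟩
    exact ⟨⟨b ^ m, m, rfl⟩, hm⟩

lemma mem_range_res0_iff (M : ModuleCat.{u} R) (z : (localCohomology a 0).obj M) :
    z ∈ LinearMap.range ((res0 (le_sup_left : a ≤ a ⊔ Ideal.span {b})).app M).hom ↔
      ∃ m : ℕ, b ^ m • z = 0 := by
  constructor
  · rintro ⟨x, rfl⟩
    have hx := (h0Equiv (a ⊔ Ideal.span {b}) M x).2
    rw [mem_tors_sup_span_singleton] at hx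
    obtain ⟨-, m, hm⟩ := hx
    refine ⟨m, ?_⟩
    apply (h0Equiv a M).injective
    rw [map_smul, map_zero]
    apply Subtype.ext
    rw [Submodule.coe_smul, h0Equiv_res0, hm]
    rfl
  · rintro ⟨m, hm⟩
    have hy : ((h0Equiv a M z : tors a M) : M) ∈ tors (a ⊔ Ideal.span {b}) M := by
      rw [mem_tors_sup_span_singleton]
      refine ⟨(h0Equiv a M z).2, m, ?_⟩
      rw [← Submodule.coe_smul, ← map_smul, hm, map_zero]
      rfl
    refine ⟨(h0Equiv (a ⊔ Ideal.span {b}) M).symm ⟨_, hy⟩, ?_⟩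
    apply (h0Equiv a M).injective
    apply Subtype.ext
    rw [h0Equiv_res0, LinearEquiv.apply_symm_apply]

lemma res0_injective {I I' : Ideal R} (h : I ≤ I') (M : ModuleCat.{u} R) :
    Function.Injective ((res0 h).app M).hom := by
  intro x y hxy
  apply (h0Equiv I' M).injective
  apply Subtype.ext
  rw [← h0Equiv_res0 h, ← h0Equiv_res0 h, hxy]

lemma toLoc_surjective_of_injective [IsNoetherianRing R] (E : ModuleCat.{u} R) [Injective E] :
    Function.Surjective ((toLoc (Submonoid.powers b)).app E).hom := by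
  have : Module.Injective R E := (Module.injective_iff_injective_object R _).2 inferInstance
  exact mkLinearMap_surjective_of_injective R E b

end Elements

section T1

variable (a : Ideal R) (b : R)

/-- `H^•_{a+Rb}`. -/
noncomputable abbrev T1U : DeltaFunctor (ModuleCat.{u} R) (ModuleCat.{u} R) :=
  lcDelta (a ⊔ Ideal.span {b})

/-- `H^•_a`. -/
noncomputable abbrev T1T : DeltaFunctor (ModuleCat.{u} R) (ModuleCat.{u} R) := lcDelta a

/-- `H^•_a(-)_b`. -/
noncomputable abbrev T1W : DeltaFunctor (ModuleCat.{u} R) (ModuleCat.{u} R) :=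
  (lcDelta a).postcomp (Loc (Submonoid.powers b))

variable [IsNoetherianRing R]

/-- The restriction maps `H^n_{a+Rb} ⟶ H^n_a`. -/
noncomputable def T1α : ∀ n, (T1U a b).F n ⟶ (T1T a).F n :=
  DeltaFunctor.ext (lcDelta_effaceable _) (res0 le_sup_left)

lemma T1α_isHom : IsHom (T1U a b) (T1T a) (T1α a b) := DeltaFunctor.ext_isHom _ _

lemma T1α_zero : T1α a b 0 = res0 le_sup_left := rfl

/-- The localization maps `H^n_a ⟶ H^n_a(-)_b`. -/
noncomputable def T1β : ∀ n, (T1T a).F n ⟶ (T1W a b).F n :=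
  (lcDelta a).toPostcomp (Loc (Submonoid.powers b)) (toLoc _)

lemma T1β_isHom : IsHom (T1T a) (T1W a b) (T1β a b) := isHom_toPostcomp _ _ _

lemma T1β_app (n : ℕ) (M : ModuleCat.{u} R) :
    (T1β a b n).app M = (toLoc (Submonoid.powers b)).app ((localCohomology a n).obj M) := rfl

lemma T1_exact (M : ModuleCat.{u} R) :
    Function.Exact ((res0 (le_sup_left : a ≤ a ⊔ Ideal.span {b})).app M).hom
      ((toLoc (Submonoid.powers b)).app ((localCohomology a 0).obj M)).hom := by
  intro z
  rw [toLoc_app_eq_zero_iff, ← mem_range_res0_iff]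
  rfl

lemma T1_zero (M : ModuleCat.{u} R) : (T1α a b 0).app M ≫ (T1β a b 0).app M = 0 := by
  ext x
  exact (T1_exact a b M).apply_apply_eq_zero x

lemma T1_ses (E : ModuleCat.{u} R) [Injective E] :
    (ShortComplex.mk _ _ (T1_zero a b E)).ShortExact := by
  have hinj : Injective ((localCohomology a 0).obj E) :=
    Injective.of_iso ((H0Iso a).app E).symm (Γ_obj_injective a E)
  exact ModuleCat.shortComplex_shortExact _ (T1_exact a b E) (res0_injective _ E)
    (@toLoc_surjective_of_injective _ _ b _ ((localCohomology a 0).obj E) hinj)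

end T1

end Groth.Agent.H8.LC

namespace Groth.Agent.H8.LC

open DeltaFunctor

variable {R : Type u} [CommRing R] [IsNoetherianRing R] (a : Ideal R) (b : R)
  (M : ModuleCat.{u} R)

instance lcDelta_preservesZero (I : Ideal R) (n : ℕ) :
    ((lcDelta I).F n).PreservesZeroMorphisms := lc_preservesZero I n

instance postcomp_preservesZero {C D B : Type*} [Category C] [Abelian C] [Category D] [Abelian D]
    [Category B] [Abelian B] (X : DeltaFunctor C D) (G : D ⥤ B) [G.Additive]
    [PreservesFiniteLimits G] [PreservesFiniteColimits G] (n : ℕ)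
    [(X.F n).PreservesZeroMorphisms] : ((X.postcomp G).F n).PreservesZeroMorphisms :=
  inferInstanceAs ((X.F n ⋙ G).PreservesZeroMorphisms)

lemma T1_hU : (T1U a b).Acyclic (Splice.ofInj M) :=
  (lcDelta_effaceable _).acyclic_ofInj M

lemma T1_hT : (T1T a).Acyclic (Splice.ofInj M) :=
  (lcDelta_effaceable _).acyclic_ofInj M

lemma T1_hW : (T1W a b).Acyclic (Splice.ofInj M) :=
  ((lcDelta_effaceable a).postcomp (Loc (Submonoid.powers b))).acyclic_ofInj M

/-- The connecting map `H^n_a(M)_b ⟶ H^{n+1}_{a+Rb}(M)`. -/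
noncomputable def T1conn (n : ℕ) :
    (Loc (Submonoid.powers b)).obj ((localCohomology a n).obj M) ⟶
      (localCohomology (a ⊔ Ideal.span {b}) (n + 1)).obj M :=
  conn (T1_hU a b M) (T1_hW a b M) (fun n => T1_zero a b ((Splice.ofInj M).E n))
    (fun n => T1_ses a b ((Splice.ofInj M).E n)) n

lemma T1_α_β (n : ℕ) : (T1α a b n).app M ≫ (T1β a b n).app M = 0 :=
  three_zero (T1α_isHom a b) (T1β_isHom a b) (T1_hU a b M) (T1_hT a M) (T1_hW a b M)
    (fun n => T1_zero a b ((Splice.ofInj M).E n)) n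

lemma T1_β_conn (n : ℕ) : (T1β a b n).app M ≫ T1conn a b M n = 0 :=
  three_comp_conn (T1β_isHom a b) (T1_hU a b M) (T1_hT a M) (T1_hW a b M)
    (fun n => T1_zero a b ((Splice.ofInj M).E n))
    (fun n => T1_ses a b ((Splice.ofInj M).E n)) n

lemma T1_conn_α (n : ℕ) : T1conn a b M n ≫ (T1α a b (n + 1)).app M = 0 :=
  three_conn_comp (T1α_isHom a b) (T1_hU a b M) (T1_hT a M) (T1_hW a b M)
    (fun n => T1_zero a b ((Splice.ofInj M).E n))
    (fun n => T1_ses a b ((Splice.ofInj M).E n)) n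

theorem T1_exact₂ (n : ℕ) : (ShortComplex.mk _ _ (T1_α_β a b M n)).Exact :=
  three_exact₂ (T1α_isHom a b) (T1β_isHom a b) (T1_hU a b M) (T1_hT a M) (T1_hW a b M)
    (fun n => T1_zero a b ((Splice.ofInj M).E n))
    (fun n => T1_ses a b ((Splice.ofInj M).E n)) n

theorem T1_exact₃ (n : ℕ) : (ShortComplex.mk _ _ (T1_β_conn a b M n)).Exact :=
  three_exact₃ (T1β_isHom a b) (T1_hU a b M) (T1_hT a M) (T1_hW a b M)
    (fun n => T1_zero a b ((Splice.ofInj M).E n))
    (fun n => T1_ses a b ((Splice.ofInj M).E n)) n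

theorem T1_exact₁ (n : ℕ) : (ShortComplex.mk _ _ (T1_conn_α a b M n)).Exact :=
  three_exact₁ (T1α_isHom a b) (T1_hU a b M) (T1_hT a M) (T1_hW a b M)
    (fun n => T1_zero a b ((Splice.ofInj M).E n))
    (fun n => T1_ses a b ((Splice.ofInj M).E n)) n

/-- Vanishing of `H^n_a(M)` and `H^{n+1}_a(M)` implies vanishing of `H^{n+1}_{a+Rb}(M)`. -/
theorem T1_isZero_succ (n : ℕ) (h1 : IsZero ((localCohomology a n).obj M))
    (h2 : IsZero ((localCohomology a (n + 1)).obj M)) :
    IsZero ((localCohomology (a ⊔ Ideal.span {b}) (n + 1)).obj M) := by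
  have h1' : IsZero ((Loc (Submonoid.powers b)).obj ((localCohomology a n).obj M)) :=
    (Loc (Submonoid.powers b)).map_isZero h1
  exact (T1_exact₁ a b M n).isZero_X₂ (h1'.eq_of_src _ _) (h2.eq_of_tgt _ _)

/-- If `Γ_a(M) → Γ_a(M)_b` is surjective and `H¹_a(M) = 0` then `H¹_{a+Rb}(M) = 0`. -/
theorem T1_isZero_one
    (h1 : Function.Surjective
      ((toLoc (Submonoid.powers b)).app ((localCohomology a 0).obj M)).hom)
    (h2 : IsZero ((localCohomology a 1).obj M)) :
    IsZero ((localCohomology (a ⊔ Ideal.span {b}) 1).obj M) := by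
  have hepi : Epi ((T1β a b 0).app M) := (ModuleCat.epi_iff_surjective _).2 h1
  have hc : T1conn a b M 0 = 0 := by
    have := T1_β_conn a b M 0
    exact hepi.left_cancellation _ _ (this.trans comp_zero.symm)
  exact (T1_exact₁ a b M 0).isZero_X₂ hc (h2.eq_of_tgt _ _)

end Groth.Agent.H8.LC
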