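import Mathlib
import Groth.Agent.Lib.Helper8.LC.T1

/-! # Injective modules over an algebra are `Γ_I`-acyclic -/

set_option autoImplicit false
set_option linter.unusedSectionVars false
set_option linter.unusedVariables false

open CategoryTheory Limits Category

universe u

namespace Groth.Agent.H8.LC

variable {R : Type u} [CommRing R]

lemma toLoc_surjective_of_div (b : R) (N : ModuleCat.{u} R)
    (h : ∀ (x : N) (n : ℕ), ∃ (y : N) (m : ℕ), b ^ (n + m) • y = b ^ m • x) :
    Function.Surjective ((toLoc (Submonoid.powers b)).app N).hom := by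
  intro z
  induction z using LocalizedModule.induction_on with
  | h x s =>
    obtain ⟨s, n, rfl⟩ := s
    obtain ⟨y, m, hy⟩ := h x n
    refine ⟨y, ?_⟩
    show LocalizedModule.mkLinearMap (Submonoid.powers b) N y = _
    rw [LocalizedModule.mkLinearMap_apply, LocalizedModule.mk_eq]
    refine ⟨⟨b ^ m, m, rfl⟩, ?_⟩
    simp only [Submonoid.smul_def, one_smul]
    rw [smul_smul, ← pow_add, add_comm m n, hy]

section

variable (R' : Type u) [CommRing R'] [Algebra R R']

lemma mem_tors_map_iff (I : Ideal R) {E : Type u} [AddCommGroup E] [Module R' E] [Module R E]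
    [IsScalarTower R R' E] (x : E) :
    x ∈ tors (I.map (algebraMap R R')) E ↔ x ∈ tors I E := by
  constructor
  · rintro ⟨n, hn⟩
    refine ⟨n, fun r hr => ?_⟩
    rw [← algebraMap_smul R' r x]
    apply hn
    rw [← Ideal.map_pow]
    exact Ideal.mem_map_of_mem _ hr
  · rintro ⟨n, hn⟩
    refine ⟨n, fun r hr => ?_⟩
    rw [← Ideal.map_pow] at hr
    refine Submodule.span_induction (p := fun r _ => r • x = 0) ?_ ?_ ?_ ?_ hr
    · rintro _ ⟨r0, hr0, rfl⟩
      rw [algebraMap_smul]
      exact hn r0 hr0
    · exact zero_smul _ _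
    · intro r1 r2 _ _ h1 h2
      rw [add_smul, h1, h2, add_zero]
    · intro c r1 _ h1
      rw [smul_eq_mul, mul_smul, h1, smul_zero]

variable [IsNoetherianRing R']

lemma tors_div_of_injective_base (I : Ideal R) (b : R) (E : Type u) [AddCommGroup E]
    [Module R' E] [Module R E] [IsScalarTower R R' E] [Module.Injective R' E]
    (x : tors I E) (n : ℕ) : ∃ (y : tors I E) (m : ℕ), b ^ (n + m) • y = b ^ m • x := by
  have hx : (x : E) ∈ tors (I.map (algebraMap R R')) E := (mem_tors_map_iff R' I _).2 x.2
  obtain ⟨y, m, hy⟩ := exists_pow_smul_eq R' (tors (I.map (algebraMap R R')) E)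
    (algebraMap R R' b) ⟨x, hx⟩ n
  refine ⟨⟨y, (mem_tors_map_iff R' I _).1 y.2⟩, m, ?_⟩
  apply Subtype.ext
  have := congr_arg Subtype.val hy
  simp only [Submodule.coe_smul] at this ⊢
  rw [← map_pow, ← map_pow, algebraMap_smul, algebraMap_smul] at this
  exact this

variable [IsNoetherianRing R]

/-- An injective module over a Noetherian `R`-algebra is `Γ_I`-acyclic over `R`. -/
theorem lc_isZero_of_injective_base (E : Type u) [AddCommGroup E]
    [Module R' E] [Module R E] [IsScalarTower R R' E] [Module.Injective R' E] (s : Finset R) :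
    ∀ i : ℕ, IsZero ((localCohomology (Ideal.span (s : Set R)) (i + 1)).obj (ModuleCat.of R E)) := by
  classical
  induction s using Finset.induction_on with
  | empty =>
    intro i
    apply lc_isZero_of_torsion
    rw [eq_top_iff]
    intro x _
    refine ⟨1, fun r hr => ?_⟩
    simp only [Finset.coe_empty, Ideal.span_empty, pow_one, Ideal.mem_bot] at hr
    rw [hr, zero_smul]
  | insert b s hb ih =>
    intro i
    have e : Ideal.span ((insert b s : Finset R) : Set R) =
        Ideal.span (s : Set R) ⊔ Ideal.span {b} := by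
      rw [Finset.coe_insert, Ideal.span_insert, sup_comm]
    rw [e]
    cases i with
    | zero =>
      refine T1_isZero_one _ b _ ?_ (ih 0)
      apply toLoc_surjective_of_div
      intro x n
      obtain ⟨y, m, hy⟩ := tors_div_of_injective_base R' (Ideal.span (s : Set R)) b E
        (h0Equiv _ (ModuleCat.of R E) x) n
      refine ⟨(h0Equiv _ (ModuleCat.of R E)).symm y, m, ?_⟩
      apply (h0Equiv _ (ModuleCat.of R E)).injective
      rw [map_smul, map_smul, LinearEquiv.apply_symm_apply, hy]
    | succ n => exact T1_isZero_succ _ b _ (n + 1) (ih n) (ih (n + 1))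

end

end Groth.Agent.H8.LC
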