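import Mathlib
import Groth.Agent.Lib.Helper8.LC.BaseIndep

/-! # Independence of the base for local cohomology -/

set_option autoImplicit false
set_option linter.unusedSectionVars false
set_option linter.unusedVariables false

open CategoryTheory Limits Category

universe u

namespace Groth.Agent.H8.LC

open DeltaFunctor

variable {R : Type u} [CommRing R] (R' : Type u) [CommRing R'] [Algebra R R'] (I : Ideal R)

/-- Restriction of scalars along `R → R'`. -/
noncomputable abbrev resF : ModuleCat.{u} R' ⥤ ModuleCat.{u} R :=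
  ModuleCat.restrictScalars (algebraMap R R')

instance resObj_isScalarTower (M' : ModuleCat.{u} R') :
    IsScalarTower R R' ((resF (R := R) R').obj M') where
  smul_assoc r r' x := by
    show (r • r') • (show M' from x) = (algebraMap R R' r) • (r' • (show M' from x))
    rw [Algebra.smul_def, mul_smul]

lemma mem_tors_res_iff (M' : ModuleCat.{u} R') (x : M') :
    x ∈ tors (I.map (algebraMap R R')) M' ↔
      (show (resF (R := R) R').obj M' from x) ∈ tors I ((resF (R := R) R').obj M') :=
  mem_tors_map_iff R' I (E := (resF (R := R) R').obj M') x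

/-- `Γ_{IR'}(M') = Γ_I(M')` as `R`-modules. -/
noncomputable def resΓEquiv (M' : ModuleCat.{u} R') :
    ((resF (R := R) R').obj ((Γ (I.map (algebraMap R R'))).obj M')) ≃ₗ[R]
      ((Γ I).obj ((resF (R := R) R').obj M')) where
  toFun x := ⟨(tors (I.map (algebraMap R R')) M').subtype x,
    (mem_tors_res_iff R' I M' _).1 (Subtype.property (p := (· ∈ tors (I.map (algebraMap R R')) M')) x)⟩
  invFun y := (⟨(tors I ((resF (R := R) R').obj M')).subtype y,
    (mem_tors_res_iff R' I M' _).2 (Subtype.property (p := (· ∈ tors I ((resF (R := R) R').obj M'))) y)⟩ :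
      tors (I.map (algebraMap R R')) M')
  map_add' x y := rfl
  map_smul' r x := rfl
  left_inv x := rfl
  right_inv y := rfl

/-- `Γ_{IR'} ⋙ res ≅ res ⋙ Γ_I`. -/
noncomputable def resΓIso :
    Γ (I.map (algebraMap R R')) ⋙ resF (R := R) R' ≅ resF (R := R) R' ⋙ Γ I :=
  NatIso.ofComponents (fun M' => (resΓEquiv R' I M').toModuleIso) (by
    intro M' N' f
    rfl)

/-- `H⁰_{IR'} ⋙ res ≅ res ⋙ H⁰_I`. -/
noncomputable def resH0Iso :
    localCohomology (I.map (algebraMap R R')) 0 ⋙ resF (R := R) R' ≅
      resF (R := R) R' ⋙ localCohomology I 0 :=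
  Functor.isoWhiskerRight (H0Iso (I.map (algebraMap R R'))) (resF (R := R) R') ≪≫
    resΓIso R' I ≪≫ (Functor.isoWhiskerLeft (resF (R := R) R') (H0Iso I)).symm

section

variable [IsNoetherianRing R] [IsNoetherianRing R']

/-- `H^•_{IR'}(-)` restricted to `R`. -/
noncomputable abbrev BIU : DeltaFunctor (ModuleCat.{u} R') (ModuleCat.{u} R) :=
  (lcDelta (I.map (algebraMap R R'))).postcomp (resF (R := R) R')

/-- `H^•_I(res -)`. -/
noncomputable abbrev BIT : DeltaFunctor (ModuleCat.{u} R') (ModuleCat.{u} R) :=
  (lcDelta I).precomp (resF (R := R) R')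

lemma BIU_effaceable : (BIU R' I).Effaceable :=
  (lcDelta_effaceable _).postcomp _

lemma BIT_effaceable : (BIT R' I).Effaceable := by
  intro E' _ n
  obtain ⟨s, hs⟩ := (IsNoetherian.noetherian I : I.FG)
  have h1 : Module.Injective R' E' := (Module.injective_iff_injective_object R' _).2 inferInstance
  have h2 : Module.Injective R' ((resF (R := R) R').obj E') := h1
  have := lc_isZero_of_injective_base R' ((resF (R := R) R').obj E') s n
  have hs' : Ideal.span (s : Set R) = I := hs
  rw [hs'] at this
  exact this

/-- Independence of the base: `H^i_{IR'}(M') ≅ H^i_I(M')` as `R`-modules, naturally in `M'`. -/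
noncomputable def baseIndepIso (i : ℕ) :
    localCohomology (I.map (algebraMap R R')) i ⋙ resF (R := R) R' ≅
      resF (R := R) R' ⋙ localCohomology I i :=
  extIso (BIU_effaceable R' I) (BIT_effaceable R' I) (resH0Iso R' I) i

end

end Groth.Agent.H8.LC
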