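import Mathlib
import Groth.Agent.Lib.Helper8.LC.BaseChange

/-! # Flat base change for local cohomology -/

set_option autoImplicit false
set_option linter.unusedSectionVars false
set_option linter.unusedVariables false
open CategoryTheory Limits Category TensorProduct
universe u
namespace Groth.Agent.H8.LC

variable {R : Type u} [CommRing R] (R' : Type u) [CommRing R'] [Algebra R R'] (I : Ideal R)

/-- Base change `M ↦ R' ⊗[R] M` as a functor. -/
noncomputable def tensF : ModuleCat.{u} R ⥤ ModuleCat.{u} R' where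
  obj M := ModuleCat.of R' (R' ⊗[R] M)
  map {M N} f := ModuleCat.ofHom (f.hom.baseChange R')
  map_id M := by
    apply ModuleCat.hom_ext
    exact LinearMap.baseChange_id
  map_comp {X Y Z} f g := by
    apply ModuleCat.hom_ext
    exact LinearMap.baseChange_comp _ _

lemma tensF_map_apply {M N : ModuleCat.{u} R} (f : M ⟶ N) (z : R' ⊗[R] M) :
    ((tensF R').map f).hom z = f.hom.lTensor R' z := rfl

instance : (tensF (R := R) R').Additive where
  map_add {M N f g} := by
    apply ModuleCat.hom_ext
    exact LinearMap.baseChange_add _ _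

variable [Module.Flat R R']

lemma tensF_map_exact (T : ShortComplex (ModuleCat.{u} R)) (h : T.Exact) :
    (T.map (tensF R')).Exact := by
  rw [CategoryTheory.ShortComplex.ShortExact.moduleCat_exact_iff_function_exact] at h ⊢
  exact Module.Flat.lTensor_exact R' h

instance : PreservesFiniteLimits (tensF (R := R) R') := by
  have := ((Functor.exact_tfae _).out 1 3).mp (tensF_map_exact (R := R) R')
  exact this.1

instance : PreservesFiniteColimits (tensF (R := R) R') := by
  have := ((Functor.exact_tfae _).out 1 3).mp (tensF_map_exact (R := R) R')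
  exact this.2


/-- Every element of `R' ⊗ Γ_I(M)` is `I`-power torsion. -/
lemma tors_tensor_tors_eq_top (M : Type u) [AddCommGroup M] [Module R M] :
    tors I (R' ⊗[R] (tors I M)) = ⊤ := by
  rw [eq_top_iff]
  intro z _
  clear * - z
  induction z using TensorProduct.induction_on with
  | zero => exact (tors I _).zero_mem
  | tmul r' x =>
    obtain ⟨n, hn⟩ := x.2
    refine ⟨n, fun a ha => ?_⟩
    rw [TensorProduct.smul_tmul', TensorProduct.smul_tmul]
    have : a • x = 0 := Subtype.ext (hn a ha)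
    rw [this, TensorProduct.tmul_zero]
  | add z w hz hw => exact (tors I _).add_mem hz hw

variable [IsNoetherianRing R]

lemma mem_tors_tensor_iff (M : Type u) [AddCommGroup M] [Module R M] (z : R' ⊗[R] M) :
    z ∈ tors I (R' ⊗[R] M) ↔ z ∈ LinearMap.range ((tors I M).subtype.lTensor R') := by
  classical
  constructor
  · rintro ⟨n, hn⟩
    obtain ⟨s, hs⟩ := (IsNoetherian.noetherian (I ^ n) : (I ^ n).FG)
    let φ : M →ₗ[R] (s → M) := LinearMap.pi (fun j => LinearMap.lsmul R M (j : R))
    have hker : LinearMap.ker φ ≤ tors I M := by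
      intro x hx
      refine ⟨n, fun a ha => ?_⟩
      rw [← hs] at ha
      refine Submodule.span_induction (p := fun a _ => a • x = 0) ?_ ?_ ?_ ?_ ha
      · intro g hg
        have := congr_fun (LinearMap.mem_ker.1 hx) ⟨g, hg⟩
        simpa [φ] using this
      · exact zero_smul _ _
      · intro a1 a2 _ _ h1 h2
        rw [add_smul, h1, h2, add_zero]
      · intro c a1 _ h1
        rw [smul_eq_mul, mul_smul, h1, smul_zero]
    have hz : z ∈ LinearMap.ker (φ.lTensor R') := by
      rw [LinearMap.mem_ker]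
      apply (TensorProduct.piRight R R R' (fun _ : s => M)).injective
      funext j
      have key : ∀ w : R' ⊗[R] M, (TensorProduct.piRight R R R' (fun _ : s => M))
          (φ.lTensor R' w) j = (j : R) • w := by
        intro w
        induction w using TensorProduct.induction_on with
        | zero => simp
        | tmul r' x =>
          simp only [LinearMap.lTensor_tmul, TensorProduct.piRight_apply,
            TensorProduct.piRightHom_tmul]
          show r' ⊗ₜ[R] ((j : R) • x) = (j : R) • (r' ⊗ₜ[R] x)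
          rw [TensorProduct.smul_tmul', TensorProduct.smul_tmul]
        | add w1 w2 h1 h2 => simp only [map_add, Pi.add_apply, h1, h2, smul_add]
      rw [key]
      apply hn
      rw [← hs]
      exact Submodule.subset_span j.2
    have hflat := Module.Flat.ker_lTensor_eq (R := R) R R' φ
    have hz' : z ∈ LinearMap.range ((LinearMap.ker φ).subtype.lTensor R') := by
      have : z ∈ LinearMap.ker (AlgebraTensorModule.lTensor R R' φ) := hz
      rw [hflat] at this
      exact this
    obtain ⟨w, rfl⟩ := hz'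
    refine ⟨(Submodule.inclusion hker).lTensor R' w, ?_⟩
    rw [← LinearMap.comp_apply, ← LinearMap.lTensor_comp]
    rfl
  · rintro ⟨w, rfl⟩
    exact map_mem_tors I ((tors I M).subtype.lTensor R')
      (by rw [tors_tensor_tors_eq_top]; trivial)


/-- The comparison map `R' ⊗ Γ_I(M) → Γ_{IR'}(R' ⊗ M)`. -/
noncomputable def tensΓMap (M : Type u) [AddCommGroup M] [Module R M] :
    R' ⊗[R] (tors I M) →ₗ[R'] tors (I.map (algebraMap R R')) (R' ⊗[R] M) :=
  ((tors I M).subtype.baseChange R').codRestrict _ (fun z =>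
    (mem_tors_map_iff R' I _).2 ((mem_tors_tensor_iff R' I M _).2 ⟨z, rfl⟩))

lemma tensΓMap_coe (M : Type u) [AddCommGroup M] [Module R M] (z : R' ⊗[R] (tors I M)) :
    ((tensΓMap R' I M z : tors (I.map (algebraMap R R')) (R' ⊗[R] M)) : R' ⊗[R] M) =
      (tors I M).subtype.lTensor R' z := rfl

lemma tensΓMap_bijective (M : Type u) [AddCommGroup M] [Module R M] :
    Function.Bijective (tensΓMap R' I M) := by
  constructor
  · intro z w hzw
    have h := congr_arg Subtype.val hzw
    rw [tensΓMap_coe, tensΓMap_coe] at h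
    exact Module.Flat.lTensor_preserves_injective_linearMap (M := R') _
      (Submodule.injective_subtype _) h
  · intro y
    obtain ⟨z, hz⟩ := (mem_tors_tensor_iff R' I M _).1 ((mem_tors_map_iff R' I _).1 y.2)
    exact ⟨z, Subtype.ext hz⟩

/-- `R' ⊗ Γ_I(M) ≃ Γ_{IR'}(R' ⊗ M)`. -/
noncomputable def tensΓEquiv (M : Type u) [AddCommGroup M] [Module R M] :
    R' ⊗[R] (tors I M) ≃ₗ[R'] tors (I.map (algebraMap R R')) (R' ⊗[R] M) :=
  LinearEquiv.ofBijective (tensΓMap R' I M) (tensΓMap_bijective R' I M)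

omit [Module.Flat R R'] [IsNoetherianRing R] in
lemma lTensor_comm_square {A B C D : Type u} [AddCommGroup A] [Module R A] [AddCommGroup B]
    [Module R B] [AddCommGroup C] [Module R C] [AddCommGroup D] [Module R D]
    (f₁ : A →ₗ[R] B) (g₁ : B →ₗ[R] D) (f₂ : A →ₗ[R] C) (g₂ : C →ₗ[R] D)
    (h : g₁ ∘ₗ f₁ = g₂ ∘ₗ f₂) (w : R' ⊗[R] A) :
    g₁.lTensor R' (f₁.lTensor R' w) = g₂.lTensor R' (f₂.lTensor R' w) := by
  rw [← LinearMap.comp_apply, ← LinearMap.comp_apply, ← LinearMap.lTensor_comp,
    ← LinearMap.lTensor_comp, h]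

/-- `Γ_I ⋙ (R' ⊗ -) ≅ (R' ⊗ -) ⋙ Γ_{IR'}`. -/
noncomputable def tensΓIso :
    Γ I ⋙ tensF R' ≅ tensF R' ⋙ Γ (I.map (algebraMap R R')) :=
  NatIso.ofComponents (fun M => (tensΓEquiv R' I M).toModuleIso) (by
    intro M N f
    ext z
    apply Subtype.ext
    exact lTensor_comm_square R' ((Γ I).map f).hom (tors I N).subtype (tors I M).subtype f.hom
      rfl z)

end Groth.Agent.H8.LC

namespace Groth.Agent.H8.LC

open DeltaFunctor

/-- A criterion for `Γ_I`-acyclicity in terms of divisibility of the torsion submodules. -/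
theorem lc_isZero_of_div {A : Type u} [CommRing A] [IsNoetherianRing A] (N : ModuleCat.{u} A)
    (s : Finset A)
    (hdiv : ∀ t ⊆ s, ∀ b ∈ s, ∀ (x : tors (Ideal.span (t : Set A)) N) (n : ℕ),
      ∃ (y : tors (Ideal.span (t : Set A)) N) (m : ℕ), b ^ (n + m) • y = b ^ m • x) :
    ∀ i : ℕ, IsZero ((localCohomology (Ideal.span (s : Set A)) (i + 1)).obj N) := by
  classical
  induction s using Finset.induction_on with
  | empty =>
    intro i
    apply lc_isZero_of_torsion
    rw [eq_top_iff]
    intro x _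
    refine ⟨1, fun r hr => ?_⟩
    simp only [Finset.coe_empty, Ideal.span_empty, pow_one, Ideal.mem_bot] at hr
    rw [hr, zero_smul]
  | insert b s hb ih =>
    intro i
    have ih' := ih (fun t ht b' hb' => hdiv t (ht.trans (Finset.subset_insert b s)) b'
      (Finset.mem_insert_of_mem hb'))
    have e : Ideal.span ((insert b s : Finset A) : Set A) =
        Ideal.span (s : Set A) ⊔ Ideal.span {b} := by
      rw [Finset.coe_insert, Ideal.span_insert, sup_comm]
    rw [e]
    cases i with
    | zero =>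
      refine T1_isZero_one _ b _ ?_ (ih' 0)
      apply toLoc_surjective_of_div
      intro x n
      obtain ⟨y, m, hy⟩ := hdiv s (Finset.subset_insert b s) b (Finset.mem_insert_self b s)
        (h0Equiv _ N x) n
      refine ⟨(h0Equiv _ N).symm y, m, ?_⟩
      apply (h0Equiv _ N).injective
      rw [map_smul, map_smul, LinearEquiv.apply_symm_apply, hy]
    | succ n => exact T1_isZero_succ _ b _ (n + 1) (ih' n) (ih' (n + 1))

variable {R : Type u} [CommRing R] (R' : Type u) [CommRing R'] [Algebra R R'] (I : Ideal R)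

/-- Divisibility passes to the base change. -/
lemma tensor_div (P : Type u) [AddCommGroup P] [Module R P] (b : R)
    (hP : ∀ (x : P) (n : ℕ), ∃ (y : P) (m : ℕ), b ^ (n + m) • y = b ^ m • x)
    (z : R' ⊗[R] P) (n : ℕ) :
    ∃ (w : R' ⊗[R] P) (m : ℕ), (algebraMap R R' b) ^ (n + m) • w = (algebraMap R R' b) ^ m • z := by
  have hsm : ∀ (k : ℕ) (r' : R') (y : P),
      (algebraMap R R' b) ^ k • (r' ⊗ₜ[R] y) = r' ⊗ₜ[R] (b ^ k • y) := by
    intro k r' y
    rw [TensorProduct.smul_tmul', ← map_pow, smul_eq_mul, ← Algebra.smul_def,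
      TensorProduct.smul_tmul]
  induction z using TensorProduct.induction_on with
  | zero => exact ⟨0, 0, by simp⟩
  | tmul r' x =>
    obtain ⟨y, m, hy⟩ := hP x n
    exact ⟨r' ⊗ₜ y, m, by rw [hsm, hsm, hy]⟩
  | add z₁ z₂ h₁ h₂ =>
    obtain ⟨w₁, m₁, hw₁⟩ := h₁
    obtain ⟨w₂, m₂, hw₂⟩ := h₂
    refine ⟨w₁ + w₂, m₁ + m₂, ?_⟩
    have e1 : (algebraMap R R' b) ^ (n + (m₁ + m₂)) • w₁ = (algebraMap R R' b) ^ (m₁ + m₂) • z₁ := by
      rw [show n + (m₁ + m₂) = m₂ + (n + m₁) by ring, pow_add, mul_smul, hw₁, ← mul_smul,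
        ← pow_add, add_comm]
    have e2 : (algebraMap R R' b) ^ (n + (m₁ + m₂)) • w₂ = (algebraMap R R' b) ^ (m₁ + m₂) • z₂ := by
      rw [show n + (m₁ + m₂) = m₁ + (n + m₂) by ring, pow_add, mul_smul, hw₂, ← mul_smul,
        ← pow_add]
    rw [smul_add, smul_add, e1, e2]

section

variable [IsNoetherianRing R] [IsNoetherianRing R'] [Module.Flat R R']

/-- `R' ⊗ H^•_I(-)`. -/
noncomputable abbrev FBU : DeltaFunctor (ModuleCat.{u} R) (ModuleCat.{u} R') :=
  (lcDelta I).postcomp (tensF R')

/-- `H^•_{IR'}(R' ⊗ -)`. -/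
noncomputable abbrev FBT : DeltaFunctor (ModuleCat.{u} R) (ModuleCat.{u} R') :=
  (lcDelta (I.map (algebraMap R R'))).precomp (tensF R')

lemma FBU_effaceable : (FBU R' I).Effaceable :=
  (lcDelta_effaceable _).postcomp _

lemma tors_map_tensor_div (a : Ideal R) (b : R) (E : Type u) [AddCommGroup E] [Module R E]
    [Module.Injective R E] (x : tors (a.map (algebraMap R R')) (R' ⊗[R] E)) (n : ℕ) :
    ∃ (y : tors (a.map (algebraMap R R')) (R' ⊗[R] E)) (m : ℕ),
      (algebraMap R R' b) ^ (n + m) • y = (algebraMap R R' b) ^ m • x := by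
  obtain ⟨w, m, hw⟩ := tensor_div R' (tors a E) b
    (fun x₀ k => exists_pow_smul_eq R (tors a E) b x₀ k)
    ((tensΓEquiv R' a E).symm x) n
  refine ⟨tensΓEquiv R' a E w, m, ?_⟩
  rw [← map_smul, hw, map_smul, LinearEquiv.apply_symm_apply]

/-- For `E` injective over `R`, `R' ⊗ E` is `Γ_{IR'}`-acyclic. -/
theorem lc_isZero_tensor_injective (E : ModuleCat.{u} R) [Injective E] (i : ℕ) :
    IsZero ((localCohomology (I.map (algebraMap R R')) (i + 1)).obj ((tensF R').obj E)) := by
  classical
  obtain ⟨s, hs⟩ := (IsNoetherian.noetherian I : I.FG)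
  have hs' : Ideal.span (s : Set R) = I := hs
  have himg : ∀ t : Finset R, Ideal.span ((t.image (algebraMap R R') : Finset R') : Set R') =
      (Ideal.span (t : Set R)).map (algebraMap R R') := by
    intro t
    rw [Ideal.map_span, Finset.coe_image]
  have := lc_isZero_of_div ((tensF R').obj E) (s.image (algebraMap R R')) ?_ i
  · rw [himg, hs'] at this
    exact this
  · intro t ht b' hb'
    obtain ⟨t₀, ht₀, rfl⟩ := Finset.subset_image_iff.1 ht
    obtain ⟨b, hb, rfl⟩ := Finset.mem_image.1 hb'
    have hinj : Module.Injective R E := (Module.injective_iff_injective_object R _).2 inferInstance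
    rw [himg]
    intro x n
    exact tors_map_tensor_div R' (Ideal.span (t₀ : Set R)) b E x n

lemma FBT_effaceable : (FBT R' I).Effaceable :=
  fun E _ n => lc_isZero_tensor_injective R' I E n

/-- `R' ⊗ H⁰_I(-) ≅ H⁰_{IR'}(R' ⊗ -)`. -/
noncomputable def tensH0Iso :
    localCohomology I 0 ⋙ tensF R' ≅ tensF R' ⋙ localCohomology (I.map (algebraMap R R')) 0 :=
  Functor.isoWhiskerRight (H0Iso I) (tensF R') ≪≫ tensΓIso R' I ≪≫
    (Functor.isoWhiskerLeft (tensF R') (H0Iso (I.map (algebraMap R R')))).symm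

/-- Flat base change: `R' ⊗ H^i_I(M) ≅ H^i_{IR'}(R' ⊗ M)`, naturally in `M`. -/
noncomputable def flatBaseChangeIso (i : ℕ) :
    localCohomology I i ⋙ tensF R' ≅ tensF R' ⋙ localCohomology (I.map (algebraMap R R')) i :=
  extIso (FBU_effaceable R' I) (FBT_effaceable R' I) (tensH0Iso R' I) i

end

end Groth.Agent.H8.LC
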