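import Mathlib
import Groth.Agent.Lib.Helper8.LC.Flat

/-! # Grothendieck's vanishing theorem -/

set_option autoImplicit false
set_option linter.unusedSectionVars false
set_option linter.unusedVariables false

open CategoryTheory Limits Category

universe u

namespace Groth.Agent.H8.LC

/-! ## Dimension lemmas -/

lemma krullDim_add_one_le_of_lt {α β : Type*} [Preorder α] [Preorder β] (f : α → β)
    (hf : StrictMono f) (t : β) (ht : ∀ a, f a < t) :
    Order.krullDim α + 1 ≤ Order.krullDim β := by
  rcases isEmpty_or_nonempty α with h | h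
  · rw [Order.krullDim_eq_bot, WithBot.bot_add]
    exact bot_le
  · rw [← Order.krullDim_WithTop]
    refine Order.krullDim_le_of_strictMono (fun x => x.recTopCoe t f) ?_
    intro x y hxy
    induction x using WithTop.recTopCoe with
    | top => exact absurd hxy (not_top_lt)
    | coe x =>
      induction y using WithTop.recTopCoe with
      | top => exact ht x
      | coe y => exact hf (WithTop.coe_lt_coe.1 hxy)

variable {R : Type u} [CommRing R]

lemma ringKrullDim_away_add_one_le [IsLocalRing R] (b : R) (hb : b ∈ IsLocalRing.maximalIdeal R) :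
    ringKrullDim (Localization (Submonoid.powers b)) + 1 ≤ ringKrullDim R := by
  let A := Localization (Submonoid.powers b)
  refine krullDim_add_one_le_of_lt (PrimeSpectrum.comap (algebraMap R A)) ?_
    (IsLocalRing.closedPoint R) ?_
  · have hinj : Function.Injective (PrimeSpectrum.comap (algebraMap R A)) :=
      PrimeSpectrum.localization_comap_injective A (Submonoid.powers b)
    have hmono : Monotone (PrimeSpectrum.comap (algebraMap R A)) := fun p q hpq =>
      Ideal.comap_mono hpq
    exact hmono.strictMono_of_injective hinj
  · intro q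
    have hle : PrimeSpectrum.comap (algebraMap R A) q ≤ IsLocalRing.closedPoint R :=
      IsLocalRing.le_maximalIdeal (PrimeSpectrum.comap (algebraMap R A) q).2.ne_top
    refine lt_of_le_of_ne hle ?_
    intro heq
    have hbq : b ∈ (PrimeSpectrum.comap (algebraMap R A) q).asIdeal := by
      rw [heq]; exact hb
    have hunit : IsUnit (algebraMap R A b) :=
      IsLocalization.map_units A (⟨b, 1, pow_one b⟩ : Submonoid.powers b)
    exact q.2.ne_top (Ideal.eq_top_of_isUnit_mem _ hbq hunit)

lemma ringKrullDim_atPrime_le (p : Ideal R) [p.IsPrime] :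
    ringKrullDim (Localization.AtPrime p) ≤ ringKrullDim R := by
  rw [IsLocalization.AtPrime.ringKrullDim_eq_height p (Localization.AtPrime p)]
  exact Ideal.height_le_ringKrullDim_of_ne_top Ideal.IsPrime.ne_top'

/-! ## Localization of local cohomology -/

section Loc

variable [IsNoetherianRing R] (I : Ideal R) (S : Submonoid R)

instance : IsNoetherianRing (Localization S) :=
  IsLocalization.isNoetherianRing S (Localization S) inferInstance

instance : Module.Flat R (Localization S) := IsLocalization.flat (Localization S) S

/-- `S⁻¹ H^i_I(M) ≃ H^i_{I S⁻¹R}(S⁻¹M)`. -/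
noncomputable def lcLocalizationEquiv (M : ModuleCat.{u} R) (i : ℕ) :
    LocalizedModule S ((localCohomology I i).obj M) ≃ₗ[Localization S]
      (localCohomology (I.map (algebraMap R (Localization S))) i).obj
        (ModuleCat.of (Localization S) (LocalizedModule S M)) :=
  (LocalizedModule.equivTensorProduct S ((localCohomology I i).obj M)).trans
    (((flatBaseChangeIso (Localization S) I i).app M).toLinearEquiv.trans
      ((localCohomology (I.map (algebraMap R (Localization S))) i).mapIso
        (LocalizedModule.equivTensorProduct S M).symm.toModuleIso).toLinearEquiv)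

end Loc

/-! ## The vanishing theorem -/

section Vanish

variable [IsNoetherianRing R]

/-- Variant of `T1_isZero_succ` with the hypothesis on the localization. -/
theorem T1_isZero_succ' (a : Ideal R) (b : R) (M : ModuleCat.{u} R) (n : ℕ)
    (h1 : Subsingleton (LocalizedModule (Submonoid.powers b) ((localCohomology a n).obj M)))
    (h2 : IsZero ((localCohomology a (n + 1)).obj M)) :
    IsZero ((localCohomology (a ⊔ Ideal.span {b}) (n + 1)).obj M) := by
  have h1' : IsZero ((Loc (Submonoid.powers b)).obj ((localCohomology a n).obj M)) :=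
    @ModuleCat.isZero_of_subsingleton _ _ _ h1
  exact (T1_exact₁ a b M n).isZero_X₂ (h1'.eq_of_src _ _) (h2.eq_of_tgt _ _)

/-- `H^i_⊤ = 0`. -/
lemma lc_isZero_top (M : ModuleCat.{u} R) (i : ℕ) :
    IsZero ((localCohomology (⊤ : Ideal R) i).obj M) := by
  rw [ModuleCat.isZero_iff_subsingleton]
  refine ⟨fun x y => ?_⟩
  have key : ∀ z : (localCohomology (⊤ : Ideal R) i).obj M, z = 0 := by
    intro z
    obtain ⟨n, hn⟩ := lc_power_torsion ⊤ M i z
    have := hn 1 (by rw [Ideal.top_pow]; trivial)
    rwa [one_smul] at this
  rw [key x, key y]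

end Vanish

lemma wb_cancel (x : WithBot ℕ∞) (e : ℕ) (h : x + 1 ≤ (e : WithBot ℕ∞) + 1) : x ≤ e := by
  induction x using WithBot.recBotCoe with
  | bot => exact bot_le
  | coe y =>
    have h' : (y + 1 : ℕ∞) ≤ (e : ℕ∞) + 1 := by exact_mod_cast h
    have : y ≤ (e : ℕ∞) := (ENat.add_le_add_iff_right (by simp)).1 h'
    exact_mod_cast this

lemma wb_bot (x : WithBot ℕ∞) (h : x + 1 ≤ (0 : ℕ)) : x = ⊥ := by
  induction x using WithBot.recBotCoe with
  | bot => rfl
  | coe y =>
    exfalso
    have h' : (y + 1 : ℕ∞) ≤ 0 := by exact_mod_cast h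
    simp at h'

/-- The local case of the vanishing theorem, assuming vanishing after inverting elements of the
maximal ideal. -/
theorem vanishing_local [IsNoetherianRing R] [IsLocalRing R] (e : ℕ)
    (hloc : ∀ b : R, b ∈ IsLocalRing.maximalIdeal R → ∀ (a : Ideal R) (N : ModuleCat.{u} R) (j : ℕ),
      e ≤ j → Subsingleton (LocalizedModule (Submonoid.powers b) ((localCohomology a j).obj N)))
    (I : Ideal R) (M : ModuleCat.{u} R) (i : ℕ) (hi : e + 1 ≤ i) :
    IsZero ((localCohomology I i).obj M) := by
  classical
  by_cases hI : I = ⊤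
  · rw [hI]; exact lc_isZero_top M i
  have hIm : I ≤ IsLocalRing.maximalIdeal R := IsLocalRing.le_maximalIdeal hI
  obtain ⟨s, hs⟩ := (IsNoetherian.noetherian I : I.FG)
  have hs' : Ideal.span (s : Set R) = I := hs
  have hsm : ∀ x ∈ s, x ∈ IsLocalRing.maximalIdeal R := fun x hx =>
    hIm (hs' ▸ Ideal.subset_span hx)
  rw [← hs']
  clear hs hs' hIm hI
  revert i
  induction s using Finset.induction_on with
  | empty =>
    intro i hi
    obtain ⟨n, rfl⟩ := Nat.exists_eq_succ_of_ne_zero (by omega : i ≠ 0)
    apply lc_isZero_of_torsion
    rw [eq_top_iff]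
    intro x _
    refine ⟨1, fun r hr => ?_⟩
    simp only [Finset.coe_empty, Ideal.span_empty, pow_one, Ideal.mem_bot] at hr
    rw [hr, zero_smul]
  | insert b s hb ih =>
    intro i hi
    obtain ⟨n, rfl⟩ := Nat.exists_eq_succ_of_ne_zero (by omega : i ≠ 0)
    have ih' := ih (fun x hx => hsm x (Finset.mem_insert_of_mem hx))
    have e1 : Ideal.span ((insert b s : Finset R) : Set R) =
        Ideal.span (s : Set R) ⊔ Ideal.span {b} := by
      rw [Finset.coe_insert, Ideal.span_insert, sup_comm]
    rw [e1]
    exact T1_isZero_succ' _ b M n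
      (hloc b (hsm b (Finset.mem_insert_self b s)) _ M n (by omega)) (ih' (n + 1) hi)

/-- Grothendieck's vanishing theorem: `H^i_I(M) = 0` for `i > dim R`. -/
theorem grothendieck_vanishing_aux : ∀ (e : ℕ) (R : Type u) [CommRing R] [IsNoetherianRing R],
    ringKrullDim R + 1 ≤ (e : WithBot ℕ∞) → ∀ (I : Ideal R) (M : ModuleCat.{u} R) (i : ℕ), e ≤ i →
      IsZero ((localCohomology I i).obj M) := by
  intro e
  induction e with
  | zero =>
    intro R _ _ hdim I M i _
    have h0 : ringKrullDim R = ⊥ := wb_bot _ hdim
    have hsub : Subsingleton R := by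
      by_contra hne
      rw [not_subsingleton_iff_nontrivial] at hne
      have : IsEmpty (PrimeSpectrum R) := Order.krullDim_eq_bot_iff.1 h0
      exact this.false (Classical.arbitrary _)
    have : Subsingleton ((localCohomology I i).obj M) := Module.subsingleton R _
    exact ModuleCat.isZero_of_subsingleton _
  | succ e ih =>
    intro R _ _ hdim I M i hi
    have hdimR : ringKrullDim R ≤ e := wb_cancel _ e (by exact_mod_cast hdim)
    -- local case
    have hlocal : ∀ (A : Type u) [CommRing A] [IsNoetherianRing A] [IsLocalRing A],
        ringKrullDim A ≤ e → ∀ (J : Ideal A) (N : ModuleCat.{u} A) (j : ℕ), e + 1 ≤ j →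
          IsZero ((localCohomology J j).obj N) := by
      intro A _ _ _ hA J N j hj
      refine vanishing_local e ?_ J N j hj
      intro b hb a N' k hk
      have hdimb : ringKrullDim (Localization (Submonoid.powers b)) + 1 ≤ e :=
        (ringKrullDim_away_add_one_le b hb).trans hA
      have hz := ih (Localization (Submonoid.powers b)) hdimb
        (a.map (algebraMap A (Localization (Submonoid.powers b))))
        (ModuleCat.of _ (LocalizedModule (Submonoid.powers b) N')) k hk
      have hsub := ModuleCat.subsingleton_of_isZero hz
      exact (lcLocalizationEquiv a (Submonoid.powers b) N' k).toEquiv.subsingleton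
    -- reduction to the local case
    rw [ModuleCat.isZero_iff_subsingleton]
    apply Module.subsingleton_of_localization_maximal (R := R)
      (M := (localCohomology I i).obj M)
      (fun P _ => LocalizedModule P.primeCompl ((localCohomology I i).obj M))
      (fun P _ => LocalizedModule.mkLinearMap P.primeCompl ((localCohomology I i).obj M))
    intro P hP
    have hz := hlocal (Localization.AtPrime P) ((ringKrullDim_atPrime_le P).trans hdimR)
      (I.map (algebraMap R (Localization.AtPrime P)))
      (ModuleCat.of _ (LocalizedModule P.primeCompl M)) i hi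
    have hsub := ModuleCat.subsingleton_of_isZero hz
    exact (lcLocalizationEquiv I P.primeCompl M i).toEquiv.subsingleton

/-- Grothendieck's vanishing theorem. -/
theorem grothendieck_vanishing [IsNoetherianRing R] (d : ℕ) (hd : ringKrullDim R ≤ d)
    (I : Ideal R) (M : ModuleCat.{u} R) (i : ℕ) (hi : d < i) :
    IsZero ((localCohomology I i).obj M) :=
  grothendieck_vanishing_aux (d + 1) R (by
    have := add_le_add_left hd 1
    exact_mod_cast this) I M i hi

end Groth.Agent.H8.LC
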