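import Mathlib
import Groth.Agent.Lib.Helper8.LC.Splice

/-! # Morphisms of splices and naturality of dimension shifting -/

set_option autoImplicit false
set_option linter.unusedSectionVars false
set_option linter.unusedVariables false

open CategoryTheory Limits Category

universe v u v' u'

namespace Groth.Agent.H8.LC

variable {C : Type u} [Category.{v} C] [Abelian C] {D : Type u'} [Category.{v'} D] [Abelian D]

namespace Splice

/-- A morphism of splices. -/
structure Hom (s t : Splice C) where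
  z : ∀ n, s.Z n ⟶ t.Z n
  e : ∀ n, s.E n ⟶ t.E n
  comm_i : ∀ n, s.i n ≫ e n = z n ≫ t.i n
  comm_p : ∀ n, s.p n ≫ z (n + 1) = e n ≫ t.p n

namespace Hom

variable {s t : Splice C} (h : Hom s t)

/-- The shifted morphism. -/
abbrev tail : Hom s.tail t.tail where
  z n := h.z (n + 1)
  e n := h.e (n + 1)
  comm_i n := h.comm_i (n + 1)
  comm_p n := h.comm_p (n + 1)

lemma comm_d (n : ℕ) : s.d n ≫ h.e (n + 1) = h.e n ≫ t.d n := by
  simp only [Splice.d, assoc, h.comm_i (n + 1)]
  rw [← assoc, h.comm_p n, assoc]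

/-- The induced morphism of short exact sequences. -/
def sesMap (n : ℕ) :
    ShortComplex.mk (s.i n) (s.p n) (s.zero n) ⟶ ShortComplex.mk (t.i n) (t.p n) (t.zero n) where
  τ₁ := h.z n
  τ₂ := h.e n
  τ₃ := h.z (n + 1)
  comm₁₂ := (h.comm_i n).symm
  comm₂₃ := (h.comm_p n).symm

/-- The induced morphism of complexes. -/
noncomputable def complexMap : s.complex ⟶ t.complex :=
  CochainComplex.ofHom h.e (fun n => by
    rw [DeltaFunctor.complex_d, DeltaFunctor.complex_d]
    exact (h.comm_d n).symm)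

@[simp] lemma complexMap_f (n : ℕ) : h.complexMap.f n = h.e n := rfl

end Hom

end Splice

namespace DeltaFunctor

variable {X : DeltaFunctor C D}

lemma iter_map_naturality : ∀ (n : ℕ) {s t : Splice C} (h : Splice.Hom s t)
    (hs : X.Acyclic s) (ht : X.Acyclic t),
      (iter n s hs).hom ≫ (X.F (n + 1)).map (h.z 0) = (X.F 1).map (h.z n) ≫ (iter n t ht).hom
  | 0, s, t, h, hs, ht => by simp [iter]
  | n + 1, s, t, h, hs, ht => by
    have ih := iter_map_naturality n h.tail hs.tail ht.tail
    have h1 := X.δ_naturality (s.ses 0) (t.ses 0) (h.sesMap 0) (n + 1)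
    have e1 : (iter (n + 1) s hs).hom = (iter n s.tail hs.tail).hom ≫ X.δ (s.ses 0) (n + 1) := rfl
    have e2 : (iter (n + 1) t ht).hom = (iter n t.tail ht.tail).hom ≫ X.δ (t.ses 0) (n + 1) := rfl
    rw [e1, e2, assoc]
    refine (congr_arg (_ ≫ ·) h1).trans ?_
    exact (assoc _ _ _).symm.trans ((congr_arg (· ≫ _) ih).trans (assoc _ _ _))

variable [(X.F 0).PreservesZeroMorphisms] {s t : Splice C} (h : Splice.Hom s t)

lemma map_comm_i (n : ℕ) : (X.F 0).map (s.i n) ≫ (X.F 0).map (h.e n) =
    (X.F 0).map (h.z n) ≫ (X.F 0).map (t.i n) := by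
  rw [← Functor.map_comp, ← Functor.map_comp, h.comm_i]

lemma map_comm_p (n : ℕ) : (X.F 0).map (s.p n) ≫ (X.F 0).map (h.z (n + 1)) =
    (X.F 0).map (h.e n) ≫ (X.F 0).map (t.p n) := by
  rw [← Functor.map_comp, ← Functor.map_comp, h.comm_p]

variable (X) in
/-- The morphism of complexes induced by a morphism of splices. -/
noncomputable def cxMapOfHom : X.cx s ⟶ X.cx t :=
  ((X.F 0).mapHomologicalComplex _).map h.complexMap

variable (X) in
/-- The morphism of explicit short complexes induced by a morphism of splices. -/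
noncomputable def scMapOfHom (n : ℕ) : X.sc s n ⟶ X.sc t n where
  τ₁ := (X.F 0).map (h.e n)
  τ₂ := (X.F 0).map (h.e (n + 1))
  τ₃ := (X.F 0).map (h.e (n + 2))
  comm₁₂ := by
    dsimp [sc]
    rw [← Functor.map_comp, ← Functor.map_comp, h.comm_d]
  comm₂₃ := by
    dsimp [sc]
    rw [← Functor.map_comp, ← Functor.map_comp, h.comm_d]

lemma scMapOfHom_comm (n : ℕ) :
    (HomologicalComplex.shortComplexFunctor' D (ComplexShape.up ℕ) n (n + 1) (n + 2)).map
      (cxMapOfHom X h) ≫ (X.scIso t n).hom = (X.scIso s n).hom ≫ scMapOfHom X h n := by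
  ext
  · exact (comp_id _).trans (id_comp _).symm
  · exact (comp_id _).trans (id_comp _).symm
  · exact (comp_id _).trans (id_comp _).symm

/-- The left homology map data of a morphism of splices. -/
noncomputable def lhmdOfHom (hs : X.Acyclic s) (ht : X.Acyclic t) (n : ℕ) :
    ShortComplex.LeftHomologyMapData (scMapOfHom X h n) (lhd hs n) (lhd ht n) where
  φK := (X.F 0).map (h.z (n + 1))
  φH := (X.F 1).map (h.z n)
  commi := (map_comm_i h (n + 1)).symm
  commf' := by
    have e1 := lift_eq_map_p (X := X) (s := s) n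
    have e2 := lift_eq_map_p (X := X) (s := t) n
    refine (congr_arg (· ≫ (X.F 0).map (h.z (n + 1))) e1).trans ?_
    refine Eq.trans ?_ (congr_arg ((X.F 0).map (h.e n) ≫ ·) e2.symm)
    exact map_comm_p h n
  commπ := X.δ_naturality (s.ses n) (t.ses n) (h.sesMap n) 0

lemma homologyIsoSucc_map_naturality (hs : X.Acyclic s) (ht : X.Acyclic t) (n : ℕ) :
    HomologicalComplex.homologyMap (cxMapOfHom X h) (n + 1) ≫ (homologyIsoSucc ht n).hom =
      (homologyIsoSucc hs n).hom ≫ (X.F (n + 1)).map (h.z 0) := by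
  have e1 := (HomologicalComplex.homologyFunctorIso' D (ComplexShape.up ℕ) n (n + 1) (n + 2)
      (by simp) (by simp)).hom.naturality (cxMapOfHom X h)
  have e2' : ShortComplex.homologyMap
      ((HomologicalComplex.shortComplexFunctor' D (ComplexShape.up ℕ) n (n + 1) (n + 2)).map
        (cxMapOfHom X h)) ≫ ShortComplex.homologyMap (X.scIso t n).hom =
      ShortComplex.homologyMap (X.scIso s n).hom ≫ ShortComplex.homologyMap (scMapOfHom X h n) := by
    rw [← ShortComplex.homologyMap_comp, ← ShortComplex.homologyMap_comp, scMapOfHom_comm]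
  have e3 : ShortComplex.homologyMap (scMapOfHom X h n) ≫ (lhd ht n).homologyIso.hom =
      (lhd hs n).homologyIso.hom ≫ (X.F 1).map (h.z n) := (lhmdOfHom h hs ht n).homologyMap_comm
  have e4 := iter_map_naturality n h hs ht
  rw [homologyIsoSucc_hom, homologyIsoSucc_hom]
  refine (assoc _ _ _).symm.trans ?_
  refine (congr_arg (· ≫ _) e1).trans ?_
  refine (assoc _ _ _).trans ?_
  refine Eq.trans ?_ (assoc _ _ _).symm
  refine congr_arg (_ ≫ ·) ?_
  show ShortComplex.homologyMap
      ((HomologicalComplex.shortComplexFunctor' D (ComplexShape.up ℕ) n (n + 1) (n + 2)).map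
        (cxMapOfHom X h)) ≫ ShortComplex.homologyMap (X.scIso t n).hom ≫
        (lhd ht n).homologyIso.hom ≫ (iter n t ht).hom =
    (ShortComplex.homologyMap (X.scIso s n).hom ≫ (lhd hs n).homologyIso.hom ≫
      (iter n s hs).hom) ≫ (X.F (n + 1)).map (h.z 0)
  rw [reassoc_of% e2', reassoc_of% e3, assoc, assoc, e4]

variable (X) in
/-- The morphism of explicit short complexes in degree `0`. -/
noncomputable def sc0MapOfHom : X.sc0 s ⟶ X.sc0 t where
  τ₁ := (X.F 0).map (h.e 0)
  τ₂ := (X.F 0).map (h.e 0)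
  τ₃ := (X.F 0).map (h.e 1)
  comm₁₂ := comp_zero.trans zero_comp.symm
  comm₂₃ := by
    dsimp [sc0]
    rw [← Functor.map_comp, ← Functor.map_comp, h.comm_d]

lemma sc0MapOfHom_comm :
    (HomologicalComplex.shortComplexFunctor' D (ComplexShape.up ℕ) 0 0 1).map
      (cxMapOfHom X h) ≫ (X.sc0Iso t).hom = (X.sc0Iso s).hom ≫ sc0MapOfHom X h := by
  ext
  · exact (comp_id _).trans (id_comp _).symm
  · exact (comp_id _).trans (id_comp _).symm
  · exact (comp_id _).trans (id_comp _).symm

lemma homologyIsoZero_map_naturality :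
    HomologicalComplex.homologyMap (cxMapOfHom X h) 0 ≫ (X.homologyIsoZero t).hom =
      (X.homologyIsoZero s).hom ≫ (X.F 0).map (h.z 0) := by
  have e1 := (HomologicalComplex.homologyFunctorIso' D (ComplexShape.up ℕ) 0 0 1
      (by simp) (by simp)).hom.naturality (cxMapOfHom X h)
  have e2 : ShortComplex.homologyMap
      ((HomologicalComplex.shortComplexFunctor' D (ComplexShape.up ℕ) 0 0 1).map
        (cxMapOfHom X h)) ≫ ShortComplex.homologyMap (X.sc0Iso t).hom =
      ShortComplex.homologyMap (X.sc0Iso s).hom ≫ ShortComplex.homologyMap (sc0MapOfHom X h) := by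
    rw [← ShortComplex.homologyMap_comp, ← ShortComplex.homologyMap_comp, sc0MapOfHom_comm]
  have e3 : ShortComplex.homologyMap (sc0MapOfHom X h) ≫ (lhd0 (X := X) (s := t)).homologyIso.hom =
      (lhd0 (X := X) (s := s)).homologyIso.hom ≫ (X.F 0).map (h.z 0) :=
    (ShortComplex.LeftHomologyMapData.ofIsLimitKernelFork (sc0MapOfHom X h) rfl _ (isKernelMapI 0)
      rfl _ (isKernelMapI 0) ((X.F 0).map (h.z 0))
      (map_comm_i h 0)).homologyMap_comm
  rw [homologyIsoZero_hom, homologyIsoZero_hom]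
  refine (assoc _ _ _).symm.trans ?_
  refine (congr_arg (· ≫ _) e1).trans ?_
  refine (assoc _ _ _).trans ?_
  refine Eq.trans ?_ (assoc _ _ _).symm
  refine congr_arg (_ ≫ ·) ?_
  show ShortComplex.homologyMap
      ((HomologicalComplex.shortComplexFunctor' D (ComplexShape.up ℕ) 0 0 1).map
        (cxMapOfHom X h)) ≫ ShortComplex.homologyMap (X.sc0Iso t).hom ≫
        (lhd0 (X := X) (s := t)).homologyIso.hom =
    (ShortComplex.homologyMap (X.sc0Iso s).hom ≫ (lhd0 (X := X) (s := s)).homologyIso.hom) ≫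
      (X.F 0).map (h.z 0)
  rw [reassoc_of% e2, e3]
  exact (assoc _ _ _).symm

end DeltaFunctor

end Groth.Agent.H8.LC
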