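import Mathlib
import Groth.Agent.Lib.Helper8.LC.SpliceMap

/-! # Injective resolutions from splices; right derived functors of `T⁰` for an effaceable
δ-functor `T` -/

set_option autoImplicit false
set_option linter.unusedSectionVars false
set_option linter.unusedVariables false

open CategoryTheory Limits Category

universe v u v' u'

namespace Groth.Agent.H8.LC

variable {C : Type u} [Category.{v} C] [Abelian C] {D : Type u'} [Category.{v'} D] [Abelian D]

namespace Splice

variable (s : Splice C)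

lemma d_comp_p (n : ℕ) : s.d n ≫ s.p (n + 1) = 0 := by
  simp only [Splice.d, assoc, s.zero (n + 1), comp_zero]

lemma exact_d (n : ℕ) :
    (ShortComplex.mk (s.d n) (s.d (n + 1)) (s.d_comp_d n)).Exact := by
  let S₁ : ShortComplex C := ShortComplex.mk (s.d n) (s.p (n + 1)) (s.d_comp_p n)
  let S₀ : ShortComplex C := ShortComplex.mk (s.i (n + 1)) (s.p (n + 1)) (s.zero (n + 1))
  let S₂ : ShortComplex C := ShortComplex.mk (s.d n) (s.d (n + 1)) (s.d_comp_d n)
  let φa : S₁ ⟶ S₀ :=
    { τ₁ := s.p n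
      τ₂ := 𝟙 _
      τ₃ := 𝟙 _
      comm₁₂ := (comp_id _).symm
      comm₂₃ := (id_comp _).trans (comp_id _).symm }
  let φb : S₁ ⟶ S₂ :=
    { τ₁ := 𝟙 _
      τ₂ := 𝟙 _
      τ₃ := s.i (n + 2)
      comm₁₂ := (id_comp _).trans (comp_id _).symm
      comm₂₃ := id_comp _ }
  have ha : Epi φa.τ₁ := inferInstanceAs (Epi (s.p n))
  have ha2 : IsIso φa.τ₂ := inferInstanceAs (IsIso (𝟙 _))
  have ha3 : Mono φa.τ₃ := inferInstanceAs (Mono (𝟙 _))
  have hb : Epi φb.τ₁ := inferInstanceAs (Epi (𝟙 _))
  have hb2 : IsIso φb.τ₂ := inferInstanceAs (IsIso (𝟙 _))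
  have hb3 : Mono φb.τ₃ := inferInstanceAs (Mono (s.i (n + 2)))
  have h1 : S₁.Exact := (ShortComplex.exact_iff_of_epi_of_isIso_of_mono φa).2 (s.ses (n + 1)).exact
  exact (ShortComplex.exact_iff_of_epi_of_isIso_of_mono φb).1 h1

lemma exact_i_d (n : ℕ) :
    (ShortComplex.mk (s.i n) (s.d n) (s.i_comp_d n)).Exact := by
  let S₀ : ShortComplex C := ShortComplex.mk (s.i n) (s.p n) (s.zero n)
  let S₂ : ShortComplex C := ShortComplex.mk (s.i n) (s.d n) (s.i_comp_d n)
  let φb : S₀ ⟶ S₂ :=
    { τ₁ := 𝟙 _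
      τ₂ := 𝟙 _
      τ₃ := s.i (n + 1)
      comm₁₂ := (id_comp _).trans (comp_id _).symm
      comm₂₃ := id_comp _ }
  have hb : Epi φb.τ₁ := inferInstanceAs (Epi (𝟙 _))
  have hb2 : IsIso φb.τ₂ := inferInstanceAs (IsIso (𝟙 _))
  have hb3 : Mono φb.τ₃ := inferInstanceAs (Mono (s.i (n + 1)))
  exact (ShortComplex.exact_iff_of_epi_of_isIso_of_mono φb).1 (s.ses n).exact

lemma complex_exactAt_succ (n : ℕ) : s.complex.ExactAt (n + 1) := by
  rw [HomologicalComplex.exactAt_iff' _ n (n + 1) (n + 1 + 1) (by simp) (by simp)]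
  refine (ShortComplex.exact_iff_of_iso
    (ShortComplex.isoMk (Iso.refl _) (Iso.refl _) (Iso.refl _) ?_ ?_ :
      s.complex.sc' n (n + 1) (n + 1 + 1) ≅
        ShortComplex.mk (s.d n) (s.d (n + 1)) (s.d_comp_d n))).2 (s.exact_d n)
  · exact (id_comp _).trans ((DeltaFunctor.complex_d s n).symm.trans (comp_id _).symm)
  · exact (id_comp _).trans ((DeltaFunctor.complex_d s (n + 1)).symm.trans (comp_id _).symm)

/-- The augmentation `Z 0 ⟶ E•`. -/
noncomputable def augmentation : (CochainComplex.single₀ C).obj (s.Z 0) ⟶ s.complex :=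
  (CochainComplex.fromSingle₀Equiv _ _).symm ⟨s.i 0, by
    rw [DeltaFunctor.complex_d]; exact s.i_comp_d 0⟩

@[simp] lemma augmentation_f_zero : s.augmentation.f 0 = s.i 0 :=
  CochainComplex.fromSingle₀Equiv_symm_apply_f_zero _ _

/-- A splice with injective middle terms gives an injective resolution of `Z 0`. -/
noncomputable def resolution [∀ n, Injective (s.E n)] : InjectiveResolution (s.Z 0) where
  cocomplex := s.complex
  injective n := inferInstanceAs (Injective (s.E n))
  ι := s.augmentation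
  quasiIso := ⟨fun n => by
    cases n
    · rw [CochainComplex.quasiIsoAt₀_iff, ShortComplex.quasiIso_iff_of_zeros]
      · refine (ShortComplex.exact_and_mono_f_iff_of_iso ?_).2
          ⟨s.exact_i_d 0, inferInstanceAs (Mono (s.i 0))⟩
        exact ShortComplex.isoMk (Iso.refl _) (Iso.refl _) (Iso.refl _)
          ((id_comp _).trans (s.augmentation_f_zero.symm.trans (comp_id _).symm))
          ((id_comp _).trans ((DeltaFunctor.complex_d s 0).symm.trans (comp_id _).symm))
      all_goals rfl
    · rw [quasiIsoAt_iff_exactAt]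
      · apply complex_exactAt_succ
      · apply CochainComplex.exactAt_succ_single_obj⟩

section ofInj

variable [EnoughInjectives C]

/-- The lift of `f` to the cycle objects of the standard injective splices. -/
noncomputable def ofInjZMap {M N : C} (f : M ⟶ N) : ∀ n, ofInjZ M n ⟶ ofInjZ N n
  | 0 => f
  | n + 1 => cokernel.map (Injective.ι (ofInjZ M n)) (Injective.ι (ofInjZ N n)) (ofInjZMap f n)
      (Injective.factorThru (ofInjZMap f n ≫ Injective.ι (ofInjZ N n)) (Injective.ι (ofInjZ M n)))
      (Injective.comp_factorThru _ _)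

/-- The lift of `f` to a morphism of the standard injective splices. -/
noncomputable def ofInjHom {M N : C} (f : M ⟶ N) : Hom (ofInj M) (ofInj N) where
  z := ofInjZMap f
  e n := (Injective.factorThru (ofInjZMap f n ≫ Injective.ι (ofInjZ N n))
    (Injective.ι (ofInjZ M n)) : Injective.under (ofInjZ M n) ⟶ Injective.under (ofInjZ N n))
  comm_i n := by
    dsimp [ofInj]
    exact Injective.comp_factorThru _ _
  comm_p n := by
    show cokernel.π (Injective.ι (ofInjZ M n)) ≫
      cokernel.map (Injective.ι (ofInjZ M n)) (Injective.ι (ofInjZ N n)) (ofInjZMap f n)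
      (Injective.factorThru (ofInjZMap f n ≫ Injective.ι (ofInjZ N n)) (Injective.ι (ofInjZ M n)))
      (Injective.comp_factorThru _ _) = _ ≫ cokernel.π (Injective.ι (ofInjZ N n))
    exact cokernel.π_desc _ _ _

lemma ofInjHom_z_zero {M N : C} (f : M ⟶ N) : (ofInjHom f).z 0 = f := by
  simp [ofInjHom, ofInjZMap]

end ofInj

end Splice

end Groth.Agent.H8.LC
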