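import Mathlib
import Groth.Agent.Lib.Helper8.LC.SpliceRes

/-! # The right derived functors of `T⁰` for an effaceable δ-functor `T` are the `Tⁿ` -/

set_option autoImplicit false
set_option linter.unusedSectionVars false
set_option linter.unusedVariables false

open CategoryTheory Limits Category

universe v u v' u'

namespace Groth.Agent.H8.LC

variable {C : Type u} [Category.{v} C] [Abelian C] {D : Type u'} [Category.{v'} D] [Abelian D]

namespace DeltaFunctor

variable [EnoughInjectives C] (T : DeltaFunctor C D) (hT : T.Effaceable)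
  (F : C ⥤ D) [F.Additive] [(T.F 0).Additive] (e0 : F ≅ T.F 0)

/-- The standard injective resolution coming from the standard splice. -/
noncomputable abbrev res (M : C) : InjectiveResolution M := (Splice.ofInj M).resolution

/-- The comparison of complexes `F(E•) ≅ T⁰(E•)`. -/
noncomputable abbrev cxIso (M : C) :
    (F.mapHomologicalComplex (ComplexShape.up ℕ)).obj (Splice.ofInj M).complex ≅
      T.cx (Splice.ofInj M) :=
  (NatIso.mapHomologicalComplex e0 _).app _

/-- The part of the comparison isomorphism not depending on the degree. -/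
noncomputable def rdIsoAux (M : C) (n : ℕ) :
    (F.rightDerived n).obj M ≅ (T.cx (Splice.ofInj M)).homology n :=
  (res M).isoRightDerivedObj F n ≪≫
    (HomologicalComplex.homologyFunctor D _ n).mapIso (cxIso T F e0 M)

lemma rdIsoAux_naturality {M N : C} (f : M ⟶ N) (n : ℕ) :
    (F.rightDerived n).map f ≫ (rdIsoAux T F e0 N n).hom =
      (rdIsoAux T F e0 M n).hom ≫
        HomologicalComplex.homologyMap (cxMapOfHom T (Splice.ofInjHom f)) n := by
  have h1 := InjectiveResolution.isoRightDerivedObj_hom_naturality f (res M) (res N)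
    (Splice.ofInjHom f).complexMap (by
      show (Splice.ofInj M).augmentation.f 0 ≫ _ = f ≫ (Splice.ofInj N).augmentation.f 0
      rw [Splice.augmentation_f_zero, Splice.augmentation_f_zero]
      have := (Splice.ofInjHom f).comm_i 0
      rw [Splice.ofInjHom_z_zero] at this
      exact this) F n
  have h2 := NatTrans.mapHomologicalComplex_naturality e0.hom (c := ComplexShape.up ℕ)
    (Splice.ofInjHom f).complexMap
  have h3 := congr_arg (fun φ => HomologicalComplex.homologyMap φ n) h2
  simp only [HomologicalComplex.homologyMap_comp] at h3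
  dsimp only [rdIsoAux, Iso.trans_hom]
  rw [← assoc, h1, assoc, assoc]
  refine congr_arg (_ ≫ ·) ?_
  exact h3

/-- The comparison isomorphism on objects. -/
noncomputable def rdIsoApp (M : C) : ∀ n : ℕ, (F.rightDerived n).obj M ≅ (T.F n).obj M
  | 0 => rdIsoAux T F e0 M 0 ≪≫ T.homologyIsoZero (Splice.ofInj M)
  | n + 1 => rdIsoAux T F e0 M (n + 1) ≪≫ homologyIsoSucc (hT.acyclic_ofInj M) n

include hT in
lemma rdIsoApp_naturality {M N : C} (f : M ⟶ N) : ∀ n : ℕ,
    (F.rightDerived n).map f ≫ (rdIsoApp T hT F e0 N n).hom =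
      (rdIsoApp T hT F e0 M n).hom ≫ (T.F n).map f
  | 0 => by
    have h1 := rdIsoAux_naturality T F e0 f 0
    have h2 := homologyIsoZero_map_naturality (X := T) (Splice.ofInjHom f)
    rw [Splice.ofInjHom_z_zero] at h2
    dsimp only [rdIsoApp, Iso.trans_hom]
    rw [← assoc, h1, assoc, assoc]
    exact congr_arg (_ ≫ ·) h2
  | n + 1 => by
    have h1 := rdIsoAux_naturality T F e0 f (n + 1)
    have h2 := homologyIsoSucc_map_naturality (X := T) (Splice.ofInjHom f)
      (hT.acyclic_ofInj M) (hT.acyclic_ofInj N) n
    rw [Splice.ofInjHom_z_zero] at h2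
    dsimp only [rdIsoApp, Iso.trans_hom]
    rw [← assoc, h1, assoc, assoc]
    exact congr_arg (_ ≫ ·) h2

/-- For an effaceable δ-functor `T` and `F ≅ T⁰`, the right derived functors of `F` are the
`Tⁿ`. -/
noncomputable def rightDerivedIso (n : ℕ) : F.rightDerived n ≅ T.F n :=
  NatIso.ofComponents (fun M => rdIsoApp T hT F e0 M n)
    (fun f => rdIsoApp_naturality T hT F e0 f n)

end DeltaFunctor

end Groth.Agent.H8.LC
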