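import Mathlib

/-! # Long exact sequence of right derived functors attached to a short exact sequence of functors

Given additive functors `F₁ F₂ F₃ : C ⥤ D` and natural transformations `α : F₁ ⟶ F₂`, `β : F₂ ⟶ F₃`
with `α ≫ β = 0` which are short exact on injective objects, we construct natural connecting
morphisms `δ n : F₃.rightDerived n ⟶ F₁.rightDerived (n+1)` and prove exactness of the long
sequence. -/

set_option autoImplicit false
set_option linter.unusedSectionVars false

open CategoryTheory Limits Category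

universe v u v' u'

namespace Groth.Agent.H8.LC.RDer

variable {C : Type u} [Category.{v} C] {D : Type u'} [Category.{v'} D]
  [Abelian C] [Abelian D]

section Iso

variable [HasInjectiveResolutions C]

/-- `isoRightDerivedObj` with target written as a homology object. -/
noncomputable def isoRD {X : C} (P : InjectiveResolution X) (F : C ⥤ D) [F.Additive] (n : ℕ) :
    (F.rightDerived n).obj X ≅
      ((F.mapHomologicalComplex (ComplexShape.up ℕ)).obj P.cocomplex).homology n :=
  P.isoRightDerivedObj F n

@[reassoc]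
lemma isoRD_hom_naturality {X Y : C} (f : X ⟶ Y) (P : InjectiveResolution X)
    (Q : InjectiveResolution Y) (φ : P.cocomplex ⟶ Q.cocomplex)
    (comm : P.ι.f 0 ≫ φ.f 0 = f ≫ Q.ι.f 0) (F : C ⥤ D) [F.Additive] (n : ℕ) :
    (F.rightDerived n).map f ≫ (isoRD Q F n).hom =
      (isoRD P F n).hom ≫
        HomologicalComplex.homologyMap ((F.mapHomologicalComplex _).map φ) n :=
  InjectiveResolution.isoRightDerivedObj_hom_naturality f P Q φ comm F n

@[reassoc]
lemma isoRD_inv_naturality {X Y : C} (f : X ⟶ Y) (P : InjectiveResolution X)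
    (Q : InjectiveResolution Y) (φ : P.cocomplex ⟶ Q.cocomplex)
    (comm : P.ι.f 0 ≫ φ.f 0 = f ≫ Q.ι.f 0) (F : C ⥤ D) [F.Additive] (n : ℕ) :
    (isoRD P F n).inv ≫ (F.rightDerived n).map f =
      HomologicalComplex.homologyMap ((F.mapHomologicalComplex _).map φ) n ≫
        (isoRD Q F n).inv :=
  InjectiveResolution.isoRightDerivedObj_inv_naturality f P Q φ comm F n

@[reassoc]
lemma rightDerived_app_comm {G₁ G₂ : C ⥤ D} [G₁.Additive] [G₂.Additive] (γ : G₁ ⟶ G₂)
    {X : C} (P : InjectiveResolution X) (n : ℕ) :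
    (NatTrans.rightDerived γ n).app X ≫ (isoRD P G₂ n).hom =
      (isoRD P G₁ n).hom ≫
        HomologicalComplex.homologyMap ((NatTrans.mapHomologicalComplex γ _).app P.cocomplex) n := by
  show (NatTrans.rightDerived γ n).app X ≫ (P.isoRightDerivedObj G₂ n).hom =
      (P.isoRightDerivedObj G₁ n).hom ≫ (HomologicalComplex.homologyFunctor D _ n).map
        ((NatTrans.mapHomologicalComplex γ _).app P.cocomplex)
  rw [InjectiveResolution.rightDerived_app_eq γ P n, assoc, assoc, Iso.inv_hom_id, comp_id]

end Iso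

variable {F₁ F₂ F₃ : C ⥤ D} [F₁.Additive] [F₂.Additive] [F₃.Additive]
  (α : F₁ ⟶ F₂) (β : F₂ ⟶ F₃) (w : α ≫ β = 0)

/-- The short complex of complexes `F₁(K) ⟶ F₂(K) ⟶ F₃(K)`. -/
@[simps]
noncomputable def scOfComplex (K : CochainComplex C ℕ) : ShortComplex (CochainComplex D ℕ) :=
  ShortComplex.mk ((NatTrans.mapHomologicalComplex α _).app K)
    ((NatTrans.mapHomologicalComplex β _).app K) (by
      rw [← NatTrans.comp_app, ← NatTrans.mapHomologicalComplex_comp, w]
      ext n
      simp
      rfl)

/-- The morphism of short complexes induced by a morphism of complexes. -/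
@[simps]
noncomputable def scOfComplexMap {K L : CochainComplex C ℕ} (φ : K ⟶ L) :
    scOfComplex α β w K ⟶ scOfComplex α β w L where
  τ₁ := (F₁.mapHomologicalComplex _).map φ
  τ₂ := (F₂.mapHomologicalComplex _).map φ
  τ₃ := (F₃.mapHomologicalComplex _).map φ
  comm₁₂ := by ext n; exact α.naturality _
  comm₂₃ := by ext n; exact β.naturality _

variable (h : ∀ (P : C), Injective P →
  (ShortComplex.mk (α.app P) (β.app P) (by rw [← NatTrans.comp_app, w]; rfl)).ShortExact)

include h in
lemma scOfComplex_shortExact {X : C} (P : InjectiveResolution X) :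
    (scOfComplex α β w P.cocomplex).ShortExact := by
  apply HomologicalComplex.shortExact_of_degreewise_shortExact
  intro n
  exact h (P.cocomplex.X n) (P.injective n)

/-- The connecting morphism on homology of `F_i(P)`. -/
noncomputable def δH {X : C} (P : InjectiveResolution X) (n : ℕ) :
    ((F₃.mapHomologicalComplex (ComplexShape.up ℕ)).obj P.cocomplex).homology n ⟶
      ((F₁.mapHomologicalComplex (ComplexShape.up ℕ)).obj P.cocomplex).homology (n + 1) :=
  (scOfComplex_shortExact α β w h P).δ n (n + 1) rfl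

@[reassoc]
lemma δH_naturality {X Y : C} (P : InjectiveResolution X)
    (Q : InjectiveResolution Y) (φ : P.cocomplex ⟶ Q.cocomplex) (n : ℕ) :
    δH α β w h P n ≫ HomologicalComplex.homologyMap ((F₁.mapHomologicalComplex _).map φ) (n + 1) =
      HomologicalComplex.homologyMap ((F₃.mapHomologicalComplex _).map φ) n ≫
        δH α β w h Q n :=
  HomologicalComplex.HomologySequence.δ_naturality (scOfComplexMap α β w φ)
    (scOfComplex_shortExact α β w h P) (scOfComplex_shortExact α β w h Q) n (n + 1) rfl

lemma homologyMap_comp_δH {X : C} (P : InjectiveResolution X) (n : ℕ) :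
    HomologicalComplex.homologyMap
      ((NatTrans.mapHomologicalComplex β _).app P.cocomplex) n ≫ δH α β w h P n = 0 :=
  (scOfComplex_shortExact α β w h P).comp_δ n (n + 1) rfl

lemma δH_comp_homologyMap {X : C} (P : InjectiveResolution X) (n : ℕ) :
    δH α β w h P n ≫ HomologicalComplex.homologyMap
      ((NatTrans.mapHomologicalComplex α _).app P.cocomplex) (n + 1) = 0 :=
  (scOfComplex_shortExact α β w h P).δ_comp n (n + 1) rfl

variable [HasInjectiveResolutions C]

/-- The connecting morphism computed using an injective resolution `P` of `X`. -/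
noncomputable def δOfRes {X : C} (P : InjectiveResolution X) (n : ℕ) :
    (F₃.rightDerived n).obj X ⟶ (F₁.rightDerived (n + 1)).obj X :=
  (isoRD P F₃ n).hom ≫ δH α β w h P n ≫ (isoRD P F₁ (n + 1)).inv

lemma δOfRes_naturality {X Y : C} (f : X ⟶ Y) (P : InjectiveResolution X)
    (Q : InjectiveResolution Y) (φ : P.cocomplex ⟶ Q.cocomplex)
    (comm : P.ι.f 0 ≫ φ.f 0 = f ≫ Q.ι.f 0) (n : ℕ) :
    δOfRes α β w h P n ≫ (F₁.rightDerived (n + 1)).map f =
      (F₃.rightDerived n).map f ≫ δOfRes α β w h Q n := by
  dsimp only [δOfRes]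
  rw [assoc, assoc, isoRD_inv_naturality f P Q φ comm F₁ (n + 1),
    isoRD_hom_naturality_assoc f P Q φ comm F₃ n, δH_naturality_assoc]

/-- The natural connecting morphism `R^n F₃ ⟶ R^{n+1} F₁`. -/
noncomputable def δ (n : ℕ) : F₃.rightDerived n ⟶ F₁.rightDerived (n + 1) where
  app X := δOfRes α β w h (injectiveResolution X) n
  naturality X Y f := by
    exact (δOfRes_naturality α β w h f (injectiveResolution X) (injectiveResolution Y)
      (InjectiveResolution.desc f _ _) (InjectiveResolution.desc_commutes_zero f _ _) n).symm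

lemma δ_app_eq {X : C} (P : InjectiveResolution X) (n : ℕ) :
    (δ α β w h n).app X = δOfRes α β w h P n := by
  have := δOfRes_naturality α β w h (𝟙 X) P (injectiveResolution X)
    (InjectiveResolution.desc (𝟙 X) _ _) (InjectiveResolution.desc_commutes_zero (𝟙 X) _ _) n
  rw [(F₁.rightDerived (n + 1)).map_id, (F₃.rightDerived n).map_id, comp_id, id_comp] at this
  exact this.symm

@[reassoc]
lemma δ_app_comm {X : C} (P : InjectiveResolution X) (n : ℕ) :
    (δ α β w h n).app X ≫ (isoRD P F₁ (n + 1)).hom = (isoRD P F₃ n).hom ≫ δH α β w h P n := by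
  rw [δ_app_eq α β w h P n, δOfRes, assoc, assoc, Iso.inv_hom_id, comp_id]

include w in
lemma rightDerived_app_comp_zero (X : C) (n : ℕ) :
    (NatTrans.rightDerived α n).app X ≫ (NatTrans.rightDerived β n).app X = 0 := by
  rw [← NatTrans.comp_app, ← NatTrans.rightDerived_comp, w,
    InjectiveResolution.rightDerived_app_eq 0 (injectiveResolution X) n]
  have : (NatTrans.mapHomologicalComplex (0 : F₁ ⟶ F₃) (ComplexShape.up ℕ)).app
      (injectiveResolution X).cocomplex = 0 := by
    ext k
    simp
    rfl
  rw [this, Functor.map_zero, zero_comp, comp_zero]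

lemma rightDerived_comp_δ (X : C) (n : ℕ) :
    (NatTrans.rightDerived β n).app X ≫ (δ α β w h n).app X = 0 := by
  let P := injectiveResolution X
  rw [← cancel_mono (isoRD P F₁ (n + 1)).hom, assoc, δ_app_comm α β w h P n,
    rightDerived_app_comm_assoc β P n, homologyMap_comp_δH, comp_zero, zero_comp]

lemma δ_comp_rightDerived (X : C) (n : ℕ) :
    (δ α β w h n).app X ≫ (NatTrans.rightDerived α (n + 1)).app X = 0 := by
  let P := injectiveResolution X
  rw [← cancel_mono (isoRD P F₂ (n + 1)).hom, assoc, rightDerived_app_comm α P (n + 1),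
    δ_app_comm_assoc α β w h P n, δH_comp_homologyMap, comp_zero, zero_comp]

include h in
/-- Exactness of `R^n F₁ X ⟶ R^n F₂ X ⟶ R^n F₃ X`. -/
lemma exact₂ (X : C) (n : ℕ) :
    (ShortComplex.mk ((NatTrans.rightDerived α n).app X) ((NatTrans.rightDerived β n).app X)
      (rightDerived_app_comp_zero α β w X n)).Exact := by
  let P := injectiveResolution X
  have hS := scOfComplex_shortExact α β w h P
  refine (ShortComplex.exact_iff_of_iso (ShortComplex.isoMk (isoRD P F₁ n)
    (isoRD P F₂ n) (isoRD P F₃ n) ?_ ?_)).2 (hS.homology_exact₂ n)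
  · exact (rightDerived_app_comm α P n).symm
  · exact (rightDerived_app_comm β P n).symm

/-- Exactness of `R^n F₂ X ⟶ R^n F₃ X ⟶ R^{n+1} F₁ X`. -/
lemma exact₃ (X : C) (n : ℕ) :
    (ShortComplex.mk ((NatTrans.rightDerived β n).app X) ((δ α β w h n).app X)
      (rightDerived_comp_δ α β w h X n)).Exact := by
  let P := injectiveResolution X
  have hS := scOfComplex_shortExact α β w h P
  refine (ShortComplex.exact_iff_of_iso (ShortComplex.isoMk (isoRD P F₂ n)
    (isoRD P F₃ n) (isoRD P F₁ (n + 1)) ?_ ?_)).2
    (hS.homology_exact₃ n (n + 1) rfl)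
  · exact (rightDerived_app_comm β P n).symm
  · exact (δ_app_comm α β w h P n).symm

/-- Exactness of `R^n F₃ X ⟶ R^{n+1} F₁ X ⟶ R^{n+1} F₂ X`. -/
lemma exact₁ (X : C) (n : ℕ) :
    (ShortComplex.mk ((δ α β w h n).app X) ((NatTrans.rightDerived α (n + 1)).app X)
      (δ_comp_rightDerived α β w h X n)).Exact := by
  let P := injectiveResolution X
  have hS := scOfComplex_shortExact α β w h P
  refine (ShortComplex.exact_iff_of_iso (ShortComplex.isoMk (isoRD P F₃ n)
    (isoRD P F₁ (n + 1)) (isoRD P F₂ (n + 1)) ?_ ?_)).2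
    (hS.homology_exact₁ n (n + 1) rfl)
  · exact (δ_app_comm α β w h P n).symm
  · exact (rightDerived_app_comm α P (n + 1)).symm

end Groth.Agent.H8.LC.RDer
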