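import Mathlib
import Groth.Prelude.Def_W4bk5brsh16IT
import Groth.Prelude.Def_DRing3
import Groth.Agent.Lib.Helper8.LC.RDerIso
import Groth.Agent.Lib.Helper8.LC.RDerivedLES
import Groth.Agent.Lib.Helper8.LC.LCDelta
import Groth.Agent.Lib.Helper6.LCDT

/-! # Right derived functors of the ideal transform -/

set_option autoImplicit false
set_option linter.unusedSectionVars false
set_option linter.unusedVariables false

open CategoryTheory Limits Category

universe v u

namespace Groth.Agent.H8.LC

section General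

variable {C : Type u} [Category.{v} C] [Abelian C] [HasInjectiveResolutions C]

lemma isZero_rightDerived_id_succ (X : C) (n : ℕ) :
    IsZero (((𝟭 C).rightDerived (n + 1)).obj X) := by
  let P := injectiveResolution X
  refine IsZero.of_iso ?_ (P.isoRightDerivedObj (𝟭 C) (n + 1))
  refine IsZero.of_iso ?_ ((HomologicalComplex.homologyFunctor C _ (n + 1)).mapIso
    ((Functor.mapHomologicalComplexIdIso C _).app P.cocomplex))
  exact (HomologicalComplex.exactAt_iff_isZero_homology _ _).1 (P.cocomplex_exactAt_succ n)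

end General

open LocCoh

variable {R : Type u} [CommRing R] (I : Ideal R)

/-- The natural transformation `η : 𝟭 ⟶ D_I`. -/
noncomputable def toDTNat : 𝟭 (ModuleCat.{u} R) ⟶ idealTransform I where
  app M := ModuleCat.ofHom (toDT I M)
  naturality M N f := by
    refine ModuleCat.hom_ext (LinearMap.ext fun m => ?_)
    exact (Groth.Agent.H6.DT.toDT_naturality (I := I) f.hom m).symm

lemma gammaIι_comp_toDTNat : DRing.gammaIι I ≫ toDTNat I = 0 := by
  ext M : 2
  refine ModuleCat.hom_ext (LinearMap.ext fun x => ?_)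
  exact (Groth.Agent.H6.DT.toDT_eq_zero_iff (I := I) (M := M) x.1).2 x.2

lemma toDT_surjective_of_injective (M : ModuleCat.{u} R) [Injective M] :
    Function.Surjective (toDT I M) := by
  intro z
  have hz : Groth.Agent.H6.LC.dtToH1 I M z = 0 := by
    have := lc_subsingleton_of_injective I M 0
    exact Subsingleton.elim _ _
  have : z ∈ LinearMap.ker (Groth.Agent.H6.LC.dtToH1 I M) := hz
  rw [Groth.Agent.H6.LC.ker_dtToH1] at this
  exact this

lemma gammaI_toDT_shortExact (P : ModuleCat.{u} R) (hP : Injective P) :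
    (ShortComplex.mk ((DRing.gammaIι I).app P) ((toDTNat I).app P)
      (by rw [← NatTrans.comp_app, gammaIι_comp_toDTNat]; rfl)).ShortExact := by
  refine ModuleCat.shortComplex_shortExact _ ?_ ?_ ?_
  · intro m
    show toDT I P m = 0 ↔ m ∈ Set.range (DRing.torsionSub I P).subtype
    rw [Groth.Agent.H6.DT.toDT_eq_zero_iff]
    simp
  · exact Submodule.injective_subtype _
  · exact toDT_surjective_of_injective I P

/-- The connecting morphism `R^n D_I ⟶ R^{n+1} Γ_I`. -/
noncomputable def dtδ (n : ℕ) :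
    (idealTransform I).rightDerived n ⟶ (DRing.gammaI I).rightDerived (n + 1) :=
  RDer.δ (DRing.gammaIι I) (toDTNat I) (gammaIι_comp_toDTNat I) (gammaI_toDT_shortExact I) n

instance dtδ_app_isIso (n : ℕ) (X : ModuleCat.{u} R) : IsIso ((dtδ I (n + 1)).app X) := by
  have h3 := RDer.exact₃ (DRing.gammaIι I) (toDTNat I) (gammaIι_comp_toDTNat I)
    (gammaI_toDT_shortExact I) X (n + 1)
  have h1 := RDer.exact₁ (DRing.gammaIι I) (toDTNat I) (gammaIι_comp_toDTNat I)
    (gammaI_toDT_shortExact I) X (n + 1)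
  have m : Mono ((dtδ I (n + 1)).app X) :=
    (h3.mono_g_iff).2 ((isZero_rightDerived_id_succ X n).eq_of_src _ _)
  have e : Epi ((dtδ I (n + 1)).app X) :=
    (h1.epi_f_iff).2 ((isZero_rightDerived_id_succ X (n + 1)).eq_of_tgt _ _)
  exact isIso_of_mono_of_epi _

/-- `R^{n+1} D_I ≅ R^{n+2} Γ_I`. -/
noncomputable def dtδIso (n : ℕ) :
    (idealTransform I).rightDerived (n + 1) ≅ (DRing.gammaI I).rightDerived (n + 2) :=
  haveI : IsIso (dtδ I (n + 1)) := NatIso.isIso_of_isIso_app _
  asIso (dtδ I (n + 1))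

/-- `Γ_I ≅ H⁰_I` for the prelude `Γ_I`. -/
noncomputable def gammaIIsoH0 : DRing.gammaI I ≅ (lcDelta I).F 0 :=
  (NatIso.ofComponents (fun M => Iso.refl _) (fun f => by
      simp only [Iso.refl_hom]
      exact (Category.comp_id _).trans (Category.id_comp _).symm) : DRing.gammaI I ≅ Γ I) ≪≫
    (H0Iso I).symm

/-- `RⁿΓ_I ≅ Hⁿ_I`. -/
noncomputable def rightDerivedGammaIso (n : ℕ) :
    (DRing.gammaI I).rightDerived n ≅ localCohomology I n :=
  haveI hadd : (localCohomology I 0).Additive := Functor.additive_of_iso (H0Iso I).symm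
  haveI : ((lcDelta I).F 0).Additive := hadd
  DeltaFunctor.rightDerivedIso (lcDelta I) (lcDelta_effaceable I) (DRing.gammaI I)
    (gammaIIsoH0 I) n

/-- `R^{n+1} D_I ≅ H^{n+2}_I`. -/
noncomputable def rightDerivedDTIso (n : ℕ) :
    (idealTransform I).rightDerived (n + 1) ≅ localCohomology I (n + 2) :=
  dtδIso I n ≪≫ rightDerivedGammaIso I (n + 2)

end Groth.Agent.H8.LC
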