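import Mathlib
import Groth.Prelude.Def_DualLC
import Groth.Agent.Lib.Helper8.LC.T1

/-! # The comparison maps `Dual2.HmapOfLE` as morphisms of δ-functors -/

set_option autoImplicit false
set_option linter.unusedSectionVars false
set_option linter.unusedVariables false

open CategoryTheory Limits Category Opposite localCohomology

universe u

namespace Groth.Agent.H8.LC

open DeltaFunctor

variable {R : Type u} [CommRing R] {I I' : Ideal R} (h : I ≤ I')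

/-- The projection `R/I^k ⟶ R/I'^k`. -/
noncomputable abbrev qMap (k : (ℕᵒᵖ)ᵒᵖ) :
    ModuleCat.of R (R ⧸ I ^ k.unop.unop) ⟶ ModuleCat.of R (R ⧸ I' ^ k.unop.unop) :=
  (Dual2.quotMapOfLE h).app k.unop

lemma lcι_HmapOfLE (i : ℕ) (k : (ℕᵒᵖ)ᵒᵖ) :
    lcι I' i k ≫ Dual2.HmapOfLE h i =
      (Ext R (ModuleCat.{u} R) i).map (qMap h k).op ≫ lcι I i k :=
  ι_colimMap _ k

lemma lcι_HmapOfLE_app (i : ℕ) (k : (ℕᵒᵖ)ᵒᵖ) (M : ModuleCat.{u} R) :
    (lcι I' i k).app M ≫ (Dual2.HmapOfLE h i).app M =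
      ((Ext R (ModuleCat.{u} R) i).map (qMap h k).op).app M ≫ (lcι I i k).app M :=
  congr_arg (fun t => NatTrans.app t M) (lcι_HmapOfLE h i k)

lemma HmapOfLE_isHom : IsHom (lcDelta I') (lcDelta I) (Dual2.HmapOfLE h) := by
  intro A hA n
  show lcδ I' hA n ≫ (Dual2.HmapOfLE h (n + 1)).app A.X₁ =
    (Dual2.HmapOfLE h n).app A.X₃ ≫ lcδ I hA n
  apply lc_hom_ext
  intro k
  have nat : (extδ R hA n).app (quotObj I' k) ≫
      ((Ext R (ModuleCat.{u} R) (n + 1)).map (qMap h k).op).app A.X₁ =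
      ((Ext R (ModuleCat.{u} R) n).map (qMap h k).op).app A.X₃ ≫
        (extδ R hA n).app (quotObj I k) :=
    ((extδ R hA n).naturality (qMap h k).op).symm
  have e1 : (lcι I' n k).app A.X₃ ≫ lcδ I' hA n ≫ (Dual2.HmapOfLE h (n + 1)).app A.X₁
      = ((lcι I' n k).app A.X₃ ≫ lcδ I' hA n) ≫ (Dual2.HmapOfLE h (n + 1)).app A.X₁ :=
        (assoc _ _ _).symm
  have e2 : ((lcι I' n k).app A.X₃ ≫ lcδ I' hA n) ≫ (Dual2.HmapOfLE h (n + 1)).app A.X₁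
      = ((extδ R hA n).app (quotObj I' k) ≫ (lcι I' (n + 1) k).app A.X₁) ≫
          (Dual2.HmapOfLE h (n + 1)).app A.X₁ := congr_arg (· ≫ _) (lcι_lcδ I' hA n k)
  have e3 : ((extδ R hA n).app (quotObj I' k) ≫ (lcι I' (n + 1) k).app A.X₁) ≫
          (Dual2.HmapOfLE h (n + 1)).app A.X₁
      = (extδ R hA n).app (quotObj I' k) ≫ ((lcι I' (n + 1) k).app A.X₁ ≫
          (Dual2.HmapOfLE h (n + 1)).app A.X₁) := assoc _ _ _
  have e4 : (extδ R hA n).app (quotObj I' k) ≫ ((lcι I' (n + 1) k).app A.X₁ ≫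
          (Dual2.HmapOfLE h (n + 1)).app A.X₁)
      = (extδ R hA n).app (quotObj I' k) ≫
          (((Ext R (ModuleCat.{u} R) (n + 1)).map (qMap h k).op).app A.X₁ ≫
            (lcι I (n + 1) k).app A.X₁) :=
        congr_arg (_ ≫ ·) (lcι_HmapOfLE_app h (n + 1) k A.X₁)
  have e5 : (extδ R hA n).app (quotObj I' k) ≫
          (((Ext R (ModuleCat.{u} R) (n + 1)).map (qMap h k).op).app A.X₁ ≫
            (lcι I (n + 1) k).app A.X₁)
      = ((extδ R hA n).app (quotObj I' k) ≫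
          ((Ext R (ModuleCat.{u} R) (n + 1)).map (qMap h k).op).app A.X₁) ≫
            (lcι I (n + 1) k).app A.X₁ := (assoc _ _ _).symm
  have e6 : ((extδ R hA n).app (quotObj I' k) ≫
          ((Ext R (ModuleCat.{u} R) (n + 1)).map (qMap h k).op).app A.X₁) ≫
            (lcι I (n + 1) k).app A.X₁
      = (((Ext R (ModuleCat.{u} R) n).map (qMap h k).op).app A.X₃ ≫
          (extδ R hA n).app (quotObj I k)) ≫ (lcι I (n + 1) k).app A.X₁ :=
        congr_arg (· ≫ _) nat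
  have e7 : (((Ext R (ModuleCat.{u} R) n).map (qMap h k).op).app A.X₃ ≫
          (extδ R hA n).app (quotObj I k)) ≫ (lcι I (n + 1) k).app A.X₁
      = ((Ext R (ModuleCat.{u} R) n).map (qMap h k).op).app A.X₃ ≫
          ((extδ R hA n).app (quotObj I k) ≫ (lcι I (n + 1) k).app A.X₁) := assoc _ _ _
  have e8 : ((Ext R (ModuleCat.{u} R) n).map (qMap h k).op).app A.X₃ ≫
          ((extδ R hA n).app (quotObj I k) ≫ (lcι I (n + 1) k).app A.X₁)
      = ((Ext R (ModuleCat.{u} R) n).map (qMap h k).op).app A.X₃ ≫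
          ((lcι I n k).app A.X₃ ≫ lcδ I hA n) := congr_arg (_ ≫ ·) (lcι_lcδ I hA n k).symm
  have e9 : ((Ext R (ModuleCat.{u} R) n).map (qMap h k).op).app A.X₃ ≫
          ((lcι I n k).app A.X₃ ≫ lcδ I hA n)
      = (((Ext R (ModuleCat.{u} R) n).map (qMap h k).op).app A.X₃ ≫
          (lcι I n k).app A.X₃) ≫ lcδ I hA n := (assoc _ _ _).symm
  have e10 : (((Ext R (ModuleCat.{u} R) n).map (qMap h k).op).app A.X₃ ≫
          (lcι I n k).app A.X₃) ≫ lcδ I hA n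
      = ((lcι I' n k).app A.X₃ ≫ (Dual2.HmapOfLE h n).app A.X₃) ≫ lcδ I hA n :=
        congr_arg (· ≫ _) (lcι_HmapOfLE_app h n k A.X₃).symm
  have e11 : ((lcι I' n k).app A.X₃ ≫ (Dual2.HmapOfLE h n).app A.X₃) ≫ lcδ I hA n
      = (lcι I' n k).app A.X₃ ≫ (Dual2.HmapOfLE h n).app A.X₃ ≫ lcδ I hA n := assoc _ _ _
  exact e1.trans (e2.trans (e3.trans (e4.trans (e5.trans (e6.trans (e7.trans (e8.trans
    (e9.trans (e10.trans e11)))))))))

lemma toΓ_qMap (k : (ℕᵒᵖ)ᵒᵖ) :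
    (Ext R (ModuleCat.{u} R) 0).map (qMap h k).op ≫ toΓ I k = toΓ I' k ≫ Γincl h := by
  ext M : 2
  exact ext0_aux (qMap h k) (evalOne I k.unop.unop M)
    (evalOne I' k.unop.unop M ≫ (Γincl h).app M) rfl

lemma HmapOfLE_H0ToΓ : Dual2.HmapOfLE h 0 ≫ H0ToΓ I = H0ToΓ I' ≫ Γincl h := by
  apply colimit.hom_ext
  intro k
  have e1 : lcι I' 0 k ≫ Dual2.HmapOfLE h 0 ≫ H0ToΓ I
      = (lcι I' 0 k ≫ Dual2.HmapOfLE h 0) ≫ H0ToΓ I := (assoc _ _ _).symm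
  have e2 : (lcι I' 0 k ≫ Dual2.HmapOfLE h 0) ≫ H0ToΓ I
      = ((Ext R (ModuleCat.{u} R) 0).map (qMap h k).op ≫ lcι I 0 k) ≫ H0ToΓ I :=
        congr_arg (· ≫ _) (lcι_HmapOfLE h 0 k)
  have e3 : ((Ext R (ModuleCat.{u} R) 0).map (qMap h k).op ≫ lcι I 0 k) ≫ H0ToΓ I
      = (Ext R (ModuleCat.{u} R) 0).map (qMap h k).op ≫ (lcι I 0 k ≫ H0ToΓ I) := assoc _ _ _
  have e4 : (Ext R (ModuleCat.{u} R) 0).map (qMap h k).op ≫ (lcι I 0 k ≫ H0ToΓ I)
      = (Ext R (ModuleCat.{u} R) 0).map (qMap h k).op ≫ toΓ I k :=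
        congr_arg (_ ≫ ·) (lcι_H0ToΓ I k)
  have e5 : (Ext R (ModuleCat.{u} R) 0).map (qMap h k).op ≫ toΓ I k
      = toΓ I' k ≫ Γincl h := toΓ_qMap h k
  have e6 : toΓ I' k ≫ Γincl h = (lcι I' 0 k ≫ H0ToΓ I') ≫ Γincl h :=
    congr_arg (· ≫ _) (lcι_H0ToΓ I' k).symm
  have e7 : (lcι I' 0 k ≫ H0ToΓ I') ≫ Γincl h = lcι I' 0 k ≫ H0ToΓ I' ≫ Γincl h := assoc _ _ _
  exact e1.trans (e2.trans (e3.trans (e4.trans (e5.trans (e6.trans e7)))))

lemma HmapOfLE_zero : Dual2.HmapOfLE h 0 = res0 h := by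
  have : Dual2.HmapOfLE h 0 ≫ (H0Iso I).hom = (H0Iso I').hom ≫ Γincl h := HmapOfLE_H0ToΓ h
  rw [res0, ← assoc, ← this, assoc, Iso.hom_inv_id, comp_id]

variable [IsNoetherianRing R]

/-- `Dual2.HmapOfLE` is the unique extension of `res0`. -/
lemma HmapOfLE_eq_ext (n : ℕ) :
    Dual2.HmapOfLE h n = DeltaFunctor.ext (lcDelta_effaceable I') (S := lcDelta I) (res0 h) n :=
  hom_ext (T := lcDelta I') (S := lcDelta I) (lcDelta_effaceable I') (θ := Dual2.HmapOfLE h)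
    (θ' := DeltaFunctor.ext (lcDelta_effaceable I') (S := lcDelta I) (res0 h))
    (HmapOfLE_isHom h) (ext_isHom _ _) (HmapOfLE_zero h) n

lemma HmapOfLE_eq_T1α (a : Ideal R) (b : R) (n : ℕ) :
    Dual2.HmapOfLE (le_sup_left : a ≤ a ⊔ Ideal.span {b}) n = T1α a b n :=
  HmapOfLE_eq_ext _ n

end Groth.Agent.H8.LC
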