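import Mathlib
import Groth.Agent.Lib.Helper8.LC.Hmap

/-! # Consequences of the exact sequence for `a + Rb` in terms of `Dual2.HmapOfLE` -/

set_option autoImplicit false
set_option linter.unusedSectionVars false
set_option linter.unusedVariables false

open CategoryTheory Limits Category

universe u

namespace Groth.Agent.H8.LC

open DeltaFunctor

variable {R : Type u} [CommRing R] [IsNoetherianRing R] (a : Ideal R) (b : R)
  (M : ModuleCat.{u} R)

/-- Exactness of `H^n_{a+Rb}(M) → H^n_a(M) → H^n_a(M)_b`. -/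
lemma T1_function_exact₂ (n : ℕ) :
    Function.Exact ((T1α a b n).app M).hom
      ((toLoc (Submonoid.powers b)).app ((localCohomology a n).obj M)).hom :=
  (ShortComplex.ShortExact.moduleCat_exact_iff_function_exact _).1 (T1_exact₂ a b M n)

/-- Exactness of `H^n_a(M) → H^n_a(M)_b → H^{n+1}_{a+Rb}(M)`. -/
lemma T1_function_exact₃ (n : ℕ) :
    Function.Exact ((toLoc (Submonoid.powers b)).app ((localCohomology a n).obj M)).hom
      (T1conn a b M n).hom :=
  (ShortComplex.ShortExact.moduleCat_exact_iff_function_exact _).1 (T1_exact₃ a b M n)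

/-- Exactness of `H^n_a(M)_b → H^{n+1}_{a+Rb}(M) → H^{n+1}_a(M)`. -/
lemma T1_function_exact₁ (n : ℕ) :
    Function.Exact (T1conn a b M n).hom ((T1α a b (n + 1)).app M).hom :=
  (ShortComplex.ShortExact.moduleCat_exact_iff_function_exact _).1 (T1_exact₁ a b M n)

/-- The image of `H^n_{a+Rb}(M) → H^n_a(M)` is the `b`-power torsion. -/
theorem mem_range_Hmap_iff (n : ℕ) (x : (localCohomology a n).obj M) :
    x ∈ LinearMap.range
        ((Dual2.HmapOfLE (le_sup_left : a ≤ a ⊔ Ideal.span {b}) n).app M).hom ↔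
      ∃ m : ℕ, b ^ m • x = 0 := by
  rw [HmapOfLE_eq_T1α, ← toLoc_app_eq_zero_iff]
  exact ((T1_function_exact₂ a b M n) x).symm

/-- The kernel of `H^{n+1}_{a+Rb}(M) → H^{n+1}_a(M)` is the cokernel of `H^n_a(M) → H^n_a(M)_b`. -/
noncomputable def kerHmapEquiv (n : ℕ) :
    LinearMap.ker ((Dual2.HmapOfLE (le_sup_left : a ≤ a ⊔ Ideal.span {b}) (n + 1)).app M).hom ≃ₗ[R]
      (LocalizedModule (Submonoid.powers b) ((localCohomology a n).obj M) ⧸
        LinearMap.range (LocalizedModule.mkLinearMap (Submonoid.powers b)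
          ((localCohomology a n).obj M))) := by
  have h1 : LinearMap.ker ((Dual2.HmapOfLE (le_sup_left : a ≤ a ⊔ Ideal.span {b}) (n + 1)).app M).hom
      = LinearMap.range (T1conn a b M n).hom := by
    rw [HmapOfLE_eq_T1α]
    exact ((T1_function_exact₁ a b M n).linearMap_ker_eq)
  have h2 : LinearMap.ker (T1conn a b M n).hom =
      LinearMap.range (LocalizedModule.mkLinearMap (Submonoid.powers b)
          ((localCohomology a n).obj M)) :=
    (T1_function_exact₃ a b M n).linearMap_ker_eq
  exact (LinearEquiv.ofEq _ _ h1).trans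
    ((LinearMap.quotKerEquivRange (T1conn a b M n).hom).symm.trans
      (Submodule.quotEquivOfEq _ _ h2))

end Groth.Agent.H8.LC
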