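import Mathlib
import Groth.Agent.Lib.Helper8.LC.T1Cor

/-! # The exact sequence `H^i_{a+Rb}(M) → H^i_a(M) → H^i_a(M_b) → H^{i+1}_{a+Rb}(M)` -/

set_option autoImplicit false
set_option linter.unusedSectionVars false
set_option linter.unusedVariables false

open CategoryTheory Limits Category

universe u

namespace Groth.Agent.H8.LC

open DeltaFunctor

variable {R : Type u} [CommRing R]

lemma mem_tors_span_singleton (b : R) {M : Type u} [AddCommGroup M] [Module R M] (x : M) :
    x ∈ tors (Ideal.span {b}) M ↔ ∃ m : ℕ, b ^ m • x = 0 := by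
  constructor
  · rintro ⟨n, hn⟩
    exact ⟨n, hn (b ^ n) (Ideal.pow_mem_pow (Ideal.subset_span (Set.mem_singleton b)) n)⟩
  · rintro ⟨m, hm⟩
    refine ⟨m, fun r hr => ?_⟩
    rw [Ideal.span_singleton_pow] at hr
    obtain ⟨c, rfl⟩ := Ideal.mem_span_singleton'.1 hr
    rw [mul_smul, hm, smul_zero]

section Retract

variable [IsNoetherianRing R] (b : R)

/-- The short exact sequence `0 → Γ_b(E) → E → E_b → 0` for `E` injective. -/
lemma locSES_shortExact (E : ModuleCat.{u} R) [Injective E] :
    (ShortComplex.mk ((Γι (Ideal.span {b})).app E) ((toLoc (Submonoid.powers b)).app E) (by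
      ext x
      have hx : (tors (Ideal.span {b}) E).subtype x ∈ tors (Ideal.span {b}) E := x.2
      rw [mem_tors_span_singleton] at hx
      exact (toLoc_app_eq_zero_iff b E _).2 hx)).ShortExact := by
  refine ModuleCat.shortComplex_shortExact _ ?_ (Submodule.injective_subtype _)
    (toLoc_surjective_of_injective b E)
  intro x
  constructor
  · intro hx
    have : x ∈ tors (Ideal.span {b}) E :=
      (mem_tors_span_singleton b x).2 ((toLoc_app_eq_zero_iff b E x).1 hx)
    exact ⟨⟨x, this⟩, rfl⟩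
  · rintro ⟨y, rfl⟩
    have hy : (tors (Ideal.span {b}) E).subtype y ∈ tors (Ideal.span {b}) E := y.2
    rw [mem_tors_span_singleton] at hy
    exact (toLoc_app_eq_zero_iff b E _).2 hy

/-- For `E` injective, `E_b` is a retract of `E`. -/
lemma exists_section_toLoc (E : ModuleCat.{u} R) [Injective E] :
    ∃ s : (Loc (Submonoid.powers b)).obj E ⟶ E, s ≫ (toLoc (Submonoid.powers b)).app E = 𝟙 _ := by
  have hS := locSES_shortExact b E
  have hinj : Injective ((Γ (Ideal.span {b})).obj E) := Γ_obj_injective (Ideal.span {b}) E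
  exact ⟨(@ShortComplex.ShortExact.splittingOfInjective _ _ _ _ hS hinj).s,
    (@ShortComplex.ShortExact.splittingOfInjective _ _ _ _ hS hinj).s_g⟩

/-- For `E` injective, `E_b` is `Γ_a`-acyclic. -/
lemma lc_isZero_loc_of_injective (a : Ideal R) (E : ModuleCat.{u} R) [Injective E] (k : ℕ) :
    IsZero ((localCohomology a (k + 1)).obj ((Loc (Submonoid.powers b)).obj E)) := by
  obtain ⟨s, hs⟩ := exists_section_toLoc b E
  rw [IsZero.iff_id_eq_zero, ← (localCohomology a (k + 1)).map_id, ← hs, Functor.map_comp]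
  rw [(lc_isZero_of_injective a E k).eq_of_tgt ((localCohomology a (k + 1)).map s) 0, zero_comp]

end Retract

section Surj

variable [IsNoetherianRing R] (a : Ideal R) (b : R)

/-- For `E` injective, `Γ_a(E) → Γ_a(E_b)` is surjective. -/
lemma tors_loc_surj (E : Type u) [AddCommGroup E] [Module R E] [Module.Injective R E]
    (y : LocalizedModule (Submonoid.powers b) E)
    (hy : y ∈ tors a (LocalizedModule (Submonoid.powers b) E)) :
    ∃ x : E, x ∈ tors a E ∧ LocalizedModule.mk x (1 : Submonoid.powers b) = y := by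
  classical
  induction y using LocalizedModule.induction_on with
  | h x₀ s =>
    obtain ⟨s, n, rfl⟩ := s
    obtain ⟨k, hk⟩ := hy
    obtain ⟨t, ht⟩ := (IsNoetherian.noetherian (a ^ k) : (a ^ k).FG)
    have hm : ∃ m : ℕ, ∀ g ∈ t, b ^ m • g • x₀ = 0 := by
      have hg : ∀ g ∈ t, ∃ m : ℕ, b ^ m • g • x₀ = 0 := by
        intro g hg
        have h0 := hk g (by rw [← ht]; exact Submodule.subset_span hg)
        rw [LocalizedModule.smul'_mk,
          ← LocalizedModule.zero_mk (⟨b ^ n, n, rfl⟩ : Submonoid.powers b),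
          LocalizedModule.mk_eq] at h0
        obtain ⟨⟨u, m, rfl⟩, hu⟩ := h0
        refine ⟨m + n, ?_⟩
        simp only [Submonoid.smul_def, smul_zero] at hu
        rw [pow_add, mul_smul]
        exact hu
      choose! mf hmf using hg
      refine ⟨∑ g ∈ t, mf g, fun g hg => ?_⟩
      obtain ⟨d, hd⟩ := Nat.exists_eq_add_of_le (Finset.single_le_sum (fun _ _ => Nat.zero_le _) hg
        : mf g ≤ ∑ g ∈ t, mf g)
      rw [hd, add_comm, pow_add, mul_smul, hmf g hg, smul_zero]
    obtain ⟨m, hm⟩ := hm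
    have hmem : b ^ m • x₀ ∈ tors a E := by
      refine ⟨k, fun r hr => ?_⟩
      rw [← ht] at hr
      refine Submodule.span_induction (p := fun r _ => r • b ^ m • x₀ = 0) ?_ ?_ ?_ ?_ hr
      · intro g hg
        rw [smul_comm]
        exact hm g hg
      · exact zero_smul _ _
      · intro r1 r2 _ _ h1 h2
        rw [add_smul, h1, h2, add_zero]
      · intro c r1 _ h1
        rw [smul_eq_mul, mul_smul, h1, smul_zero]
    obtain ⟨x', m', hx'⟩ := exists_pow_smul_eq R (tors a E) b ⟨b ^ m • x₀, hmem⟩ (n + m)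
    refine ⟨x', x'.2, ?_⟩
    rw [LocalizedModule.mk_eq]
    refine ⟨⟨b ^ (m + m'), m + m', rfl⟩, ?_⟩
    have h1 := congr_arg Subtype.val hx'
    simp only [Submodule.coe_smul] at h1
    simp only [Submonoid.smul_def, one_smul]
    rw [smul_smul, ← pow_add, show m + m' + n = n + m + m' by ring, h1, smul_smul, ← pow_add,
      add_comm m' m]

lemma lc_zero_map_toLoc_surjective (E : ModuleCat.{u} R) [Injective E] :
    Function.Surjective
      ((localCohomology a 0).map ((toLoc (Submonoid.powers b)).app E)).hom := by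
  intro y
  have hinj : Module.Injective R E := (Module.injective_iff_injective_object R _).2 inferInstance
  obtain ⟨x, hx, hxy⟩ := tors_loc_surj a b E _
    (h0Equiv a ((Loc (Submonoid.powers b)).obj E) y).2
  refine ⟨(h0Equiv a E).symm ⟨x, hx⟩, ?_⟩
  apply (h0Equiv a ((Loc (Submonoid.powers b)).obj E)).injective
  apply Subtype.ext
  rw [h0Equiv_naturality]
  have e : ((h0Equiv a E) ((h0Equiv a E).symm ⟨x, hx⟩) : tors a E) = ⟨x, hx⟩ :=
    LinearEquiv.apply_symm_apply _ _
  have e' : ((h0Equiv a ((𝟭 (ModuleCat.{u} R)).obj E)) ((h0Equiv a E).symm ⟨x, hx⟩) : tors a E) =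
      ⟨x, hx⟩ := e
  rw [e']
  exact hxy

end Surj

section T2

variable (a : Ideal R) (b : R)

/-- `H^•_a((-)_b)`. -/
noncomputable abbrev T2P : DeltaFunctor (ModuleCat.{u} R) (ModuleCat.{u} R) :=
  (lcDelta a).precomp (Loc (Submonoid.powers b))

instance precomp_preservesZero {C D B : Type*} [Category C] [Abelian C] [Category D] [Abelian D]
    [Category B] [Abelian B] (G : B ⥤ C) [G.Additive]
    [PreservesFiniteLimits G] [PreservesFiniteColimits G] (X : DeltaFunctor C D) (n : ℕ)
    [(X.F n).PreservesZeroMorphisms] : ((X.precomp G).F n).PreservesZeroMorphisms :=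
  inferInstanceAs ((G ⋙ X.F n).PreservesZeroMorphisms)

/-- The maps `H^n_a(M) ⟶ H^n_a(M_b)`. -/
noncomputable def T2β (n : ℕ) : (T1T a).F n ⟶ (T2P a b).F n where
  app M := (localCohomology a n).map ((toLoc (Submonoid.powers b)).app M)
  naturality M N f := by
    show (localCohomology a n).map f ≫ (localCohomology a n).map _ =
      (localCohomology a n).map _ ≫ (localCohomology a n).map ((Loc (Submonoid.powers b)).map f)
    rw [← Functor.map_comp, ← Functor.map_comp]
    congr 1
    exact (toLoc (Submonoid.powers b)).naturality f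

lemma T2β_app (n : ℕ) (M : ModuleCat.{u} R) :
    (T2β a b n).app M = (localCohomology a n).map ((toLoc (Submonoid.powers b)).app M) := rfl

lemma T2β_isHom : IsHom (T1T a) (T2P a b) (T2β a b) := by
  intro A hA n
  let φ : A ⟶ A.map (Loc (Submonoid.powers b)) :=
    { τ₁ := (toLoc (Submonoid.powers b)).app A.X₁
      τ₂ := (toLoc (Submonoid.powers b)).app A.X₂
      τ₃ := (toLoc (Submonoid.powers b)).app A.X₃
      comm₁₂ := ((toLoc (Submonoid.powers b)).naturality A.f).symm
      comm₂₃ := ((toLoc (Submonoid.powers b)).naturality A.g).symm }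
  exact (lcDelta a).δ_naturality hA (hA.map_of_exact (Loc (Submonoid.powers b))) φ n

variable [IsNoetherianRing R]

lemma T2_function_exact (M : ModuleCat.{u} R) :
    Function.Exact ((res0 (le_sup_left : a ≤ a ⊔ Ideal.span {b})).app M).hom
      ((localCohomology a 0).map ((toLoc (Submonoid.powers b)).app M)).hom := by
  intro z
  have h0 : z ∈ Set.range ((res0 (le_sup_left : a ≤ a ⊔ Ideal.span {b})).app M).hom ↔
      ∃ m : ℕ, b ^ m • z = 0 := by
    rw [← mem_range_res0_iff]
    rfl
  rw [h0]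
  have h1 : ((localCohomology a 0).map ((toLoc (Submonoid.powers b)).app M)).hom z = 0 ↔
      ((toLoc (Submonoid.powers b)).app M).hom ((h0Equiv a M z : tors a M) : M) = 0 := by
    have hn := h0Equiv_naturality a ((toLoc (Submonoid.powers b)).app M) z
    rw [← (h0Equiv a _).map_eq_zero_iff]
    constructor
    · intro h
      rw [h] at hn
      exact hn.symm
    · intro h
      exact Subtype.ext (hn.trans h)
  rw [h1, toLoc_app_eq_zero_iff]
  constructor
  · rintro ⟨m, hm⟩
    refine ⟨m, ?_⟩
    apply (h0Equiv a M).injective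
    rw [map_smul, map_zero]
    exact Subtype.ext hm
  · rintro ⟨m, hm⟩
    refine ⟨m, ?_⟩
    rw [← Submodule.coe_smul, ← map_smul, hm, map_zero]
    rfl

lemma T2_zero (M : ModuleCat.{u} R) : (T1α a b 0).app M ≫ (T2β a b 0).app M = 0 := by
  ext x
  exact (T2_function_exact a b M).apply_apply_eq_zero x

lemma T2_ses (E : ModuleCat.{u} R) [Injective E] :
    (ShortComplex.mk _ _ (T2_zero a b E)).ShortExact :=
  ModuleCat.shortComplex_shortExact _ (T2_function_exact a b E) (res0_injective _ E)
    (lc_zero_map_toLoc_surjective a b E)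

variable (M : ModuleCat.{u} R)

lemma T2_hP : (T2P a b).Acyclic (Splice.ofInj M) :=
  fun n k => lc_isZero_loc_of_injective b a ((Splice.ofInj M).E n) k

/-- The connecting map `H^n_a(M_b) ⟶ H^{n+1}_{a+Rb}(M)`. -/
noncomputable def T2conn (n : ℕ) :
    (localCohomology a n).obj ((Loc (Submonoid.powers b)).obj M) ⟶
      (localCohomology (a ⊔ Ideal.span {b}) (n + 1)).obj M :=
  conn (T1_hU a b M) (T2_hP a b M) (fun n => T2_zero a b ((Splice.ofInj M).E n))
    (fun n => T2_ses a b ((Splice.ofInj M).E n)) n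

lemma T2_α_β (n : ℕ) : (T1α a b n).app M ≫ (T2β a b n).app M = 0 :=
  three_zero (T1α_isHom a b) (T2β_isHom a b) (T1_hU a b M) (T1_hT a M) (T2_hP a b M)
    (fun n => T2_zero a b ((Splice.ofInj M).E n)) n

lemma T2_β_conn (n : ℕ) : (T2β a b n).app M ≫ T2conn a b M n = 0 :=
  three_comp_conn (T2β_isHom a b) (T1_hU a b M) (T1_hT a M) (T2_hP a b M)
    (fun n => T2_zero a b ((Splice.ofInj M).E n))
    (fun n => T2_ses a b ((Splice.ofInj M).E n)) n

lemma T2_conn_α (n : ℕ) : T2conn a b M n ≫ (T1α a b (n + 1)).app M = 0 :=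
  three_conn_comp (T1α_isHom a b) (T1_hU a b M) (T1_hT a M) (T2_hP a b M)
    (fun n => T2_zero a b ((Splice.ofInj M).E n))
    (fun n => T2_ses a b ((Splice.ofInj M).E n)) n

theorem T2_exact₂ (n : ℕ) : (ShortComplex.mk _ _ (T2_α_β a b M n)).Exact :=
  three_exact₂ (T1α_isHom a b) (T2β_isHom a b) (T1_hU a b M) (T1_hT a M) (T2_hP a b M)
    (fun n => T2_zero a b ((Splice.ofInj M).E n))
    (fun n => T2_ses a b ((Splice.ofInj M).E n)) n

theorem T2_exact₃ (n : ℕ) : (ShortComplex.mk _ _ (T2_β_conn a b M n)).Exact :=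
  three_exact₃ (T2β_isHom a b) (T1_hU a b M) (T1_hT a M) (T2_hP a b M)
    (fun n => T2_zero a b ((Splice.ofInj M).E n))
    (fun n => T2_ses a b ((Splice.ofInj M).E n)) n

theorem T2_exact₁ (n : ℕ) : (ShortComplex.mk _ _ (T2_conn_α a b M n)).Exact :=
  three_exact₁ (T1α_isHom a b) (T1_hU a b M) (T1_hT a M) (T2_hP a b M)
    (fun n => T2_zero a b ((Splice.ofInj M).E n))
    (fun n => T2_ses a b ((Splice.ofInj M).E n)) n

/-- Exactness of `H^n_{a+Rb}(M) → H^n_a(M) → H^n_a(M_b)` in terms of `Dual2.HmapOfLE`. -/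
theorem Hmap_exact_map_toLoc (n : ℕ) :
    Function.Exact ((Dual2.HmapOfLE (le_sup_left : a ≤ a ⊔ Ideal.span {b}) n).app M).hom
      ((localCohomology a n).map ((toLoc (Submonoid.powers b)).app M)).hom := by
  rw [HmapOfLE_eq_T1α]
  exact (ShortComplex.ShortExact.moduleCat_exact_iff_function_exact _).1 (T2_exact₂ a b M n)

/-- The cokernel of `H^n_a(M) → H^n_a(M_b)` is the kernel of `H^{n+1}_{a+Rb}(M) → H^{n+1}_a(M)`. -/
noncomputable def cokerMapToLocEquiv (n : ℕ) :
    ((localCohomology a n).obj ((Loc (Submonoid.powers b)).obj M) ⧸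
        LinearMap.range ((localCohomology a n).map ((toLoc (Submonoid.powers b)).app M)).hom) ≃ₗ[R]
      LinearMap.ker ((Dual2.HmapOfLE (le_sup_left : a ≤ a ⊔ Ideal.span {b}) (n + 1)).app M).hom := by
  have h1 : LinearMap.ker ((Dual2.HmapOfLE (le_sup_left : a ≤ a ⊔ Ideal.span {b}) (n + 1)).app M).hom
      = LinearMap.range (T2conn a b M n).hom := by
    rw [HmapOfLE_eq_T1α]
    exact ((ShortComplex.ShortExact.moduleCat_exact_iff_function_exact _).1
      (T2_exact₁ a b M n)).linearMap_ker_eq
  have h2 : LinearMap.ker (T2conn a b M n).hom =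
      LinearMap.range ((localCohomology a n).map ((toLoc (Submonoid.powers b)).app M)).hom :=
    ((ShortComplex.ShortExact.moduleCat_exact_iff_function_exact _).1
      (T2_exact₃ a b M n)).linearMap_ker_eq
  exact ((LinearEquiv.ofEq _ _ h1).trans
    ((LinearMap.quotKerEquivRange (T2conn a b M n).hom).symm.trans
      (Submodule.quotEquivOfEq _ _ h2))).symm

end T2

end Groth.Agent.H8.LC
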