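import Mathlib
import Groth.Agent.Lib.Helper8.LC.Delta

/-! # δ-functor from an exact complex-valued functor -/

set_option autoImplicit false
set_option linter.unusedSectionVars false

open CategoryTheory Limits Category

universe v u v' u'

namespace Groth.Agent.H8.LC

variable {A : Type u} [Category.{v} A] [Abelian A] {B : Type u'} [Category.{v'} B] [Abelian B]

lemma mono_homologyMap_zero {K L : CochainComplex B ℕ} (f : K ⟶ L) [Mono f] :
    Mono (HomologicalComplex.homologyMap f 0) := by
  have h1 : Mono (HomologicalComplex.cyclesMap f 0) := by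
    have : Mono (HomologicalComplex.cyclesMap f 0 ≫ L.iCycles 0) := by
      rw [HomologicalComplex.cyclesMap_i]
      exact mono_comp _ _
    exact mono_of_mono _ (L.iCycles 0)
  have h2 : Mono (HomologicalComplex.homologyMap f 0 ≫ L.isoHomologyπ₀.inv) := by
    rw [CochainComplex.isoHomologyπ₀_inv_naturality]
    exact mono_comp _ _
  exact mono_of_mono _ L.isoHomologyπ₀.inv

variable (G : A ⥤ CochainComplex B ℕ) [G.PreservesZeroMorphisms]
  (hG : ∀ (S : ShortComplex A), S.ShortExact → (S.map G).ShortExact)

/-- The δ-functor `n ↦ Hⁿ(G -)` associated with an exact complex-valued functor. -/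
noncomputable def cxDelta : DeltaFunctor A B where
  F n := G ⋙ HomologicalComplex.homologyFunctor B _ n
  δ {S} hS n := (hG S hS).δ n (n + 1) (by simp)
  δ_naturality {S S'} hS hS' φ n :=
    HomologicalComplex.HomologySequence.δ_naturality (G.mapShortComplex.map φ) (hG S hS) (hG S' hS') n (n + 1) (by simp)
  map_comp_map {S} hS n := by
    dsimp
    rw [← Functor.map_comp, ← G.map_comp, S.zero, G.map_zero, Functor.map_zero]
  map_comp_δ {S} hS n := (hG S hS).comp_δ n (n + 1) (by simp)
  δ_comp_map {S} hS n := (hG S hS).δ_comp n (n + 1) (by simp)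
  mono₀ {S} hS := by
    have := (hG S hS).mono_f
    exact mono_homologyMap_zero (S.map G).f
  exact₂ {S} hS n := (hG S hS).homology_exact₂ n
  exact₃ {S} hS n := (hG S hS).homology_exact₃ n (n + 1) (by simp)
  exact₁ {S} hS n := (hG S hS).homology_exact₁ n (n + 1) (by simp)

@[simp] lemma cxDelta_F (n : ℕ) :
    (cxDelta G hG).F n = G ⋙ HomologicalComplex.homologyFunctor B _ n := rfl

lemma shortExact_map_of_degreewise
    (h : ∀ (S : ShortComplex A), S.ShortExact → ∀ i : ℕ,
      (S.map (G ⋙ HomologicalComplex.eval B (ComplexShape.up ℕ) i)).ShortExact)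
    (S : ShortComplex A) (hS : S.ShortExact) : (S.map G).ShortExact :=
  HomologicalComplex.shortExact_of_degreewise_shortExact _ (fun i => h S hS i)

end Groth.Agent.H8.LC
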