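import Mathlib
import Groth.Agent.Lib.Helper8.LC.Flat
import Groth.Agent.Lib.Helper8.LC.T1
import Groth.Agent.Lib.Helper8.LC.Hmap
import Groth.Agent.Lib.Helper8.LC.LCLinear

/-! # Comparison maps of local cohomology and local vanishing -/

set_option autoImplicit false
set_option linter.unusedSectionVars false

open CategoryTheory Limits Category Opposite TensorProduct

universe u

namespace Groth.Agent.H8.LC

open DeltaFunctor

variable {R : Type u} [CommRing R] [IsNoetherianRing R]

/-- if the local cohomology of `M_p` vanishes at a minimal prime `p` of `I`, then every class in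
`H^j_I(M)` is killed by some element outside `p`. -/
lemma exists_smul_eq_zero_of_local (I : Ideal R) (p : Ideal R) [p.IsPrime]
    (hp : p ∈ I.minimalPrimes) (M : ModuleCat.{u} R) (j : ℕ)
    (h : Subsingleton ((localCohomology (IsLocalRing.maximalIdeal (Localization.AtPrime p)) j).obj
      (ModuleCat.of (Localization.AtPrime p) (LocalizedModule p.primeCompl M))))
    (x : (localCohomology I j).obj M) : ∃ c : R, c ∉ p ∧ c • x = 0 := by
  haveI : IsNoetherianRing (Localization.AtPrime p) :=
    IsLocalization.isNoetherianRing p.primeCompl _ inferInstance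
  haveI : Module.Flat R (Localization.AtPrime p) := IsLocalization.flat _ p.primeCompl
  have e1 := (flatBaseChangeIso (Localization.AtPrime p) I j).app M
  have hrad : (I.map (algebraMap R (Localization.AtPrime p))).radical =
      (IsLocalRing.maximalIdeal (Localization.AtPrime p)).radical := by
    rw [IsLocalization.AtPrime.radical_map_of_mem_minimalPrimes (Localization.AtPrime p) p I hp,
      IsLocalization.AtPrime.map_eq_maximalIdeal p (Localization.AtPrime p),
      Ideal.IsPrime.radical inferInstance]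
  have e2 := (localCohomology.isoOfSameRadical hrad j).app ((tensF (Localization.AtPrime p)).obj M)
  have e3 : (tensF (Localization.AtPrime p)).obj M ≅
      ModuleCat.of (Localization.AtPrime p) (LocalizedModule p.primeCompl M) :=
    (LocalizedModule.equivTensorProduct p.primeCompl M).symm.toModuleIso
  have e4 := (localCohomology (IsLocalRing.maximalIdeal (Localization.AtPrime p)) j).mapIso e3
  have hz : IsZero ((tensF (Localization.AtPrime p)).obj ((localCohomology I j).obj M)) :=
    IsZero.of_iso (ModuleCat.isZero_of_subsingleton _) (e1 ≪≫ e2 ≪≫ e4)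
  have hs := ModuleCat.subsingleton_of_isZero hz
  have h0 : TensorProduct.mk R (Localization.AtPrime p) ((localCohomology I j).obj M) 1 x = 0 :=
    Subsingleton.elim (h := hs) _ _
  rw [IsLocalizedModule.eq_zero_iff p.primeCompl] at h0
  obtain ⟨c, hc⟩ := h0
  exact ⟨c.1, c.2, hc⟩

/-- the local vanishing hypothesis. -/
def LocalVanishing (M : ModuleCat.{u} R) (j : ℕ) (b : R) (I : Ideal R) : Prop :=
  ∀ p : PrimeSpectrum R, I ≤ p.asIdeal → b ∉ p.asIdeal →
    Subsingleton ((localCohomology
      (IsLocalRing.maximalIdeal (Localization.AtPrime p.asIdeal)) j).obj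
      (ModuleCat.of (Localization.AtPrime p.asIdeal)
        (LocalizedModule p.asIdeal.primeCompl M)))

lemma exists_pow_smul_eq_zero_step (M : ModuleCat.{u} R) (j : ℕ) (b : R) (I : Ideal R)
    (ih : ∀ J : Ideal R, I < J → LocalVanishing M j b J →
      ∀ x : (localCohomology J j).obj M, ∃ n : ℕ, b ^ n • x = 0)
    (h : LocalVanishing M j b I) (x : (localCohomology I j).obj M) : ∃ n : ℕ, b ^ n • x = 0 := by
  by_cases hb : b ∈ I.radical
  · obtain ⟨k, hk⟩ := hb
    obtain ⟨n, hn⟩ := lc_power_torsion I M j x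
    exact ⟨k * n, by rw [pow_mul]; exact hn _ (Ideal.pow_mem_pow hk n)⟩
  · rw [Ideal.radical_eq_sInf, Ideal.mem_sInf] at hb
    push Not at hb
    obtain ⟨q, ⟨hIq, hqprime⟩, hbq⟩ := hb
    obtain ⟨p, hp, hpq⟩ := Ideal.exists_minimalPrimes_le hIq
    haveI := hp.1.1
    have hbp : b ∉ p := fun hbp => hbq (hpq hbp)
    obtain ⟨c, hcp, hcx⟩ := exists_smul_eq_zero_of_local I p hp M j
      (h ⟨p, hp.1.1⟩ hp.1.2 hbp) x
    have hβ : ((T1β I c j).app M).hom x = 0 :=
      (toLoc_app_eq_zero_iff c ((localCohomology I j).obj M) x).2 ⟨1, by rwa [pow_one]⟩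
    obtain ⟨y0, hy⟩ := (ShortComplex.moduleCat_exact_iff _).1 (T1_exact₂ I c M j) x hβ
    obtain ⟨y, hyy⟩ : ∃ y : (localCohomology (I ⊔ Ideal.span {c}) j).obj M, y = y0 := ⟨y0, rfl⟩
    have hy' : ((Dual2.HmapOfLE (le_sup_left : I ≤ I ⊔ Ideal.span {c}) j).app M).hom y = x := by
      rw [HmapOfLE_eq_T1α, hyy]
      exact hy
    have hlt : I < I ⊔ Ideal.span {c} := by
      refine lt_of_le_of_ne le_sup_left (fun heq => hcp (hp.1.2 ?_))
      rw [heq]
      exact Ideal.mem_sup_right (Ideal.subset_span rfl)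
    obtain ⟨n, hn⟩ := ih _ hlt (fun p' hp' hb' => h p' (le_sup_left.trans hp') hb') y
    refine ⟨n, ?_⟩
    rw [← hy', ← map_smul, hn, map_zero]

/-- local-to-global: if the local cohomology of `M_p` in degree `j` vanishes for all primes
`p ⊇ I` not containing `b`, then `H^j_I(M)` is `b`-power torsion. -/
theorem exists_pow_smul_eq_zero_of_local (M : ModuleCat.{u} R) (j : ℕ) (b : R) (I : Ideal R) :
    LocalVanishing M j b I → ∀ x : (localCohomology I j).obj M, ∃ n : ℕ, b ^ n • x = 0 :=
  IsNoetherian.induction (P := fun I : Ideal R => LocalVanishing M j b I →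
    ∀ x : (localCohomology I j).obj M, ∃ n : ℕ, b ^ n • x = 0)
    (fun I ih => exists_pow_smul_eq_zero_step M j b I ih) I

lemma HmapOfLE_comp {I₁ I₂ I₃ : Ideal R} (h12 : I₁ ≤ I₂) (h23 : I₂ ≤ I₃) (n : ℕ) :
    Dual2.HmapOfLE h23 n ≫ Dual2.HmapOfLE h12 n = Dual2.HmapOfLE (h12.trans h23) n := by
  refine hom_ext (T := lcDelta I₃) (S := lcDelta I₁) (lcDelta_effaceable I₃)
    (θ := fun n => Dual2.HmapOfLE h23 n ≫ Dual2.HmapOfLE h12 n)
    (θ' := Dual2.HmapOfLE (h12.trans h23))
    (IsHom.comp (T := lcDelta I₃) (S := lcDelta I₂) (U := lcDelta I₁)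
      (θ := Dual2.HmapOfLE h23) (η := Dual2.HmapOfLE h12)
      (HmapOfLE_isHom h23) (HmapOfLE_isHom h12)) (HmapOfLE_isHom _) ?_ n
  change Dual2.HmapOfLE h23 0 ≫ Dual2.HmapOfLE h12 0 = Dual2.HmapOfLE (h12.trans h23) 0
  rw [HmapOfLE_zero, HmapOfLE_zero, HmapOfLE_zero]
  simp only [res0, assoc, Iso.inv_hom_id_assoc]
  rfl

lemma HmapOfLE_refl (I : Ideal R) (n : ℕ) :
    Dual2.HmapOfLE (le_refl I) n = 𝟙 (localCohomology I n) := by
  refine hom_ext (T := lcDelta I) (S := lcDelta I) (lcDelta_effaceable I)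
    (θ := Dual2.HmapOfLE (le_refl I)) (θ' := fun n => 𝟙 (localCohomology I n))
    (HmapOfLE_isHom _) isHom_id ?_ n
  change Dual2.HmapOfLE (le_refl I) 0 = 𝟙 _
  rw [HmapOfLE_zero]
  have : Γincl (le_refl I) = 𝟙 (Γ I) := rfl
  simp only [res0, this, id_comp, Iso.hom_inv_id]

/-- `H^i_{I+(b)}(M) → H^i_I(M)` is surjective if `H^i_I(M)` is `b`-power torsion. -/
lemma HmapOfLE_sup_span_surjective (I : Ideal R) (b : R) (M : ModuleCat.{u} R) (i : ℕ)
    (h : ∀ x : (localCohomology I i).obj M, ∃ n : ℕ, b ^ n • x = 0) :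
    Function.Surjective ((Dual2.HmapOfLE (le_sup_left : I ≤ I ⊔ Ideal.span {b}) i).app M).hom := by
  intro x
  have hβ : ((T1β I b i).app M).hom x = 0 :=
    (toLoc_app_eq_zero_iff b ((localCohomology I i).obj M) x).2 (h x)
  obtain ⟨y0, hy⟩ := (ShortComplex.moduleCat_exact_iff _).1 (T1_exact₂ I b M i) x hβ
  obtain ⟨y, hyy⟩ : ∃ y : (localCohomology (I ⊔ Ideal.span {b}) i).obj M, y = y0 := ⟨y0, rfl⟩
  refine ⟨y, ?_⟩
  rw [HmapOfLE_eq_T1α, hyy]
  exact hy

lemma localizedModule_subsingleton_of_torsion (b : R) (N : Type u) [AddCommGroup N] [Module R N]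
    (h : ∀ x : N, ∃ n : ℕ, b ^ n • x = 0) :
    Subsingleton (LocalizedModule (Submonoid.powers b) N) := by
  refine ⟨fun w w' => ?_⟩
  have key : ∀ w : LocalizedModule (Submonoid.powers b) N, w = 0 := by
    intro w
    induction w using LocalizedModule.induction_on with
    | h m s =>
      obtain ⟨n, hn⟩ := h m
      rw [IsLocalizedModule.mk_eq_mk', IsLocalizedModule.mk'_eq_zero']
      exact ⟨⟨b ^ n, n, rfl⟩, hn⟩
  rw [key w, key w']

/-- `H^{j+1}_{I+(b)}(M) → H^{j+1}_I(M)` is injective if `H^j_I(M)` is `b`-power torsion. -/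
lemma HmapOfLE_sup_span_injective (I : Ideal R) (b : R) (M : ModuleCat.{u} R) (j : ℕ)
    (h : ∀ x : (localCohomology I j).obj M, ∃ n : ℕ, b ^ n • x = 0) :
    Function.Injective
      ((Dual2.HmapOfLE (le_sup_left : I ≤ I ⊔ Ideal.span {b}) (j + 1)).app M).hom := by
  rw [injective_iff_map_eq_zero]
  intro y hy
  rw [HmapOfLE_eq_T1α] at hy
  obtain ⟨w, hw⟩ := (ShortComplex.moduleCat_exact_iff _).1 (T1_exact₁ I b M j) y hy
  have hsub := localizedModule_subsingleton_of_torsion b ((localCohomology I j).obj M) h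
  have hw0 : w = 0 := Subsingleton.elim (h := hsub) _ _
  rw [← hw, hw0, map_zero]

section main

variable (M : ModuleCat.{u} R) (I' : Ideal R)

lemma HmapOfLE_hom_comp {I₁ I₂ I₃ : Ideal R} (h12 : I₁ ≤ I₂) (h23 : I₂ ≤ I₃) (h13 : I₁ ≤ I₃)
    (n : ℕ) : ((Dual2.HmapOfLE h13 n).app M).hom =
      ((Dual2.HmapOfLE h12 n).app M).hom ∘ₗ ((Dual2.HmapOfLE h23 n).app M).hom := by
  have hc := HmapOfLE_comp h12 h23 n
  have : Dual2.HmapOfLE h13 n = Dual2.HmapOfLE h23 n ≫ Dual2.HmapOfLE h12 n := hc.symm
  rw [this]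
  rfl

lemma HmapOfLE_surjective_step (i : ℕ) (I : Ideal R)
    (ih : ∀ J : Ideal R, I < J → ∀ hJ : J ≤ I',
      (∀ p : PrimeSpectrum R, J ≤ p.asIdeal → ¬ I' ≤ p.asIdeal →
        Subsingleton ((localCohomology
          (IsLocalRing.maximalIdeal (Localization.AtPrime p.asIdeal)) i).obj
          (ModuleCat.of (Localization.AtPrime p.asIdeal)
            (LocalizedModule p.asIdeal.primeCompl M)))) →
      Function.Surjective ((Dual2.HmapOfLE hJ i).app M).hom)
    (h : I ≤ I')
    (hv : ∀ p : PrimeSpectrum R, I ≤ p.asIdeal → ¬ I' ≤ p.asIdeal →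
        Subsingleton ((localCohomology
          (IsLocalRing.maximalIdeal (Localization.AtPrime p.asIdeal)) i).obj
          (ModuleCat.of (Localization.AtPrime p.asIdeal)
            (LocalizedModule p.asIdeal.primeCompl M)))) :
    Function.Surjective ((Dual2.HmapOfLE h i).app M).hom := by
  by_cases hEq : I = I'
  · subst hEq
    rw [HmapOfLE_refl]
    exact fun x => ⟨x, rfl⟩
  · obtain ⟨b, hbI', hbI⟩ := SetLike.exists_of_lt (lt_of_le_of_ne h hEq)
    have h1 : I ⊔ Ideal.span {b} ≤ I' := sup_le h ((Ideal.span_singleton_le_iff_mem _).2 hbI')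
    have hlt : I < I ⊔ Ideal.span {b} := by
      refine lt_of_le_of_ne le_sup_left (fun heq => hbI ?_)
      rw [heq]
      exact Ideal.mem_sup_right (Ideal.subset_span rfl)
    have s2 := ih _ hlt h1 (fun p hp hp' => hv p (le_sup_left.trans hp) hp')
    have hLV : LocalVanishing M i b I := fun p hp hbp => hv p hp (fun hle => hbp (hle hbI'))
    have s1 := HmapOfLE_sup_span_surjective I b M i
      (exists_pow_smul_eq_zero_of_local M i b I hLV)
    rw [HmapOfLE_hom_comp M (le_sup_left : I ≤ I ⊔ Ideal.span {b}) h1 h i]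
    exact s1.comp s2

theorem HmapOfLE_surjective_of_local (i : ℕ) (I : Ideal R) :
    ∀ (h : I ≤ I'),
    (∀ p : PrimeSpectrum R, I ≤ p.asIdeal → ¬ I' ≤ p.asIdeal →
        Subsingleton ((localCohomology
          (IsLocalRing.maximalIdeal (Localization.AtPrime p.asIdeal)) i).obj
          (ModuleCat.of (Localization.AtPrime p.asIdeal)
            (LocalizedModule p.asIdeal.primeCompl M)))) →
    Function.Surjective ((Dual2.HmapOfLE h i).app M).hom :=
  IsNoetherian.induction (P := fun I : Ideal R => ∀ (h : I ≤ I'),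
    (∀ p : PrimeSpectrum R, I ≤ p.asIdeal → ¬ I' ≤ p.asIdeal →
        Subsingleton ((localCohomology
          (IsLocalRing.maximalIdeal (Localization.AtPrime p.asIdeal)) i).obj
          (ModuleCat.of (Localization.AtPrime p.asIdeal)
            (LocalizedModule p.asIdeal.primeCompl M)))) →
    Function.Surjective ((Dual2.HmapOfLE h i).app M).hom)
    (fun I ih => HmapOfLE_surjective_step M I' i I ih) I

lemma HmapOfLE_injective_step (i : ℕ) (I : Ideal R)
    (ih : ∀ J : Ideal R, I < J → ∀ hJ : J ≤ I',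
      (∀ p : PrimeSpectrum R, J ≤ p.asIdeal → ¬ I' ≤ p.asIdeal → ∀ j : ℕ, j + 1 = i →
        Subsingleton ((localCohomology
          (IsLocalRing.maximalIdeal (Localization.AtPrime p.asIdeal)) j).obj
          (ModuleCat.of (Localization.AtPrime p.asIdeal)
            (LocalizedModule p.asIdeal.primeCompl M)))) →
      Function.Injective ((Dual2.HmapOfLE hJ i).app M).hom)
    (h : I ≤ I')
    (hv : ∀ p : PrimeSpectrum R, I ≤ p.asIdeal → ¬ I' ≤ p.asIdeal → ∀ j : ℕ, j + 1 = i →
        Subsingleton ((localCohomology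
          (IsLocalRing.maximalIdeal (Localization.AtPrime p.asIdeal)) j).obj
          (ModuleCat.of (Localization.AtPrime p.asIdeal)
            (LocalizedModule p.asIdeal.primeCompl M)))) :
    Function.Injective ((Dual2.HmapOfLE h i).app M).hom := by
  by_cases hEq : I = I'
  · subst hEq
    rw [HmapOfLE_refl]
    exact fun x y hxy => hxy
  · obtain ⟨b, hbI', hbI⟩ := SetLike.exists_of_lt (lt_of_le_of_ne h hEq)
    have h1 : I ⊔ Ideal.span {b} ≤ I' := sup_le h ((Ideal.span_singleton_le_iff_mem _).2 hbI')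
    have hlt : I < I ⊔ Ideal.span {b} := by
      refine lt_of_le_of_ne le_sup_left (fun heq => hbI ?_)
      rw [heq]
      exact Ideal.mem_sup_right (Ideal.subset_span rfl)
    have s2 := ih _ hlt h1 (fun p hp hp' => hv p (le_sup_left.trans hp) hp')
    have s1 : Function.Injective
        ((Dual2.HmapOfLE (le_sup_left : I ≤ I ⊔ Ideal.span {b}) i).app M).hom := by
      cases i with
      | zero =>
        rw [HmapOfLE_zero]
        exact res0_injective _ M
      | succ j =>
        have hLV : LocalVanishing M j b I :=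
          fun p hp hbp => hv p hp (fun hle => hbp (hle hbI')) j rfl
        exact HmapOfLE_sup_span_injective I b M j
          (exists_pow_smul_eq_zero_of_local M j b I hLV)
    rw [HmapOfLE_hom_comp M (le_sup_left : I ≤ I ⊔ Ideal.span {b}) h1 h i]
    exact s1.comp s2

theorem HmapOfLE_injective_of_local (i : ℕ) (I : Ideal R) :
    ∀ (h : I ≤ I'),
    (∀ p : PrimeSpectrum R, I ≤ p.asIdeal → ¬ I' ≤ p.asIdeal → ∀ j : ℕ, j + 1 = i →
        Subsingleton ((localCohomology
          (IsLocalRing.maximalIdeal (Localization.AtPrime p.asIdeal)) j).obj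
          (ModuleCat.of (Localization.AtPrime p.asIdeal)
            (LocalizedModule p.asIdeal.primeCompl M)))) →
    Function.Injective ((Dual2.HmapOfLE h i).app M).hom :=
  IsNoetherian.induction (P := fun I : Ideal R => ∀ (h : I ≤ I'),
    (∀ p : PrimeSpectrum R, I ≤ p.asIdeal → ¬ I' ≤ p.asIdeal → ∀ j : ℕ, j + 1 = i →
        Subsingleton ((localCohomology
          (IsLocalRing.maximalIdeal (Localization.AtPrime p.asIdeal)) j).obj
          (ModuleCat.of (Localization.AtPrime p.asIdeal)
            (LocalizedModule p.asIdeal.primeCompl M)))) →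
    Function.Injective ((Dual2.HmapOfLE h i).app M).hom)
    (fun I ih => HmapOfLE_injective_step M I' i I ih) I

end main

end Groth.Agent.H8.LC
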